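import Cfsg.Agent.Nodes.WittInst
import Cfsg.Agent.H592.EP.Norm_m3
import Cfsg.Agent.H274.EP.Key
import Cfsg.Agent.H892.EP.TM_m3
import Cfsg.Agent.H156.SqBlk
import Cfsg.Agent.H45.GG.Series_m3
import Cfsg.Agent.H892.EP.Good_m3
import Cfsg.Agent.TitsThree.KInstSp
import Cfsg.Agent.H537.EP.OfMJ
import Cfsg.Agent.LieClassical.SLGen
import Cfsg.Agent.H415.SpFlag_m3
import Cfsg.Agent.KFacts.RgdFiltClass
import Cfsg.Agent.Characters.ClassMul
import Mathlib
import Cfsg.Agent.H996.Eight.RowTwE6_m3
import Cfsg.Agent.H611.CoverPrincipal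
import Cfsg.Agent.S0165
import Cfsg.Agent.H410.RealTw
import Cfsg.Agent.H315.RatB0.SzRee
import Cfsg.Agent.H30.RealFi
import Cfsg.Agent.H30.GraphFi24A
import Cfsg.Agent.H841.TwG_m3
import Cfsg.Agent.H187.FiOdd.Cent_m3
import Cfsg.Agent.H713.Spor.FiTF
import Cfsg.Agent.H843.One
import Cfsg.Agent.H394.PBTools_m3
import Cfsg.Agent.HKS.CosetTwo
import Cfsg.Agent.H813.K547.Par
import Cfsg.Agent.KFacts.FiTF.FixZ_m3
import Cfsg.Agent.H841.Phi_m3
import Cfsg.Agent.H843.N23
import Cfsg.Agent.Lib.PermNetFast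
import Cfsg.Agent.Lib.ListFast
import Cfsg.Agent.FastGrp
import Cfsg.Agent.Prune
set_option linter.all false

section
prune_inst 0x7ff8a8f88aac01dfdfff7e3fa690cdf810800fffa4dfe9437fe0619f0b9f038009c1238509e010fc0e16401410287843fb7eeabfa06bd87ffffd1ff41ffbec0f85673508119488340f3c2ffe03f0778e6f3fffffffffffffffffffffffffffaeffbffbbefffd

-- part: H352/EP/SpOm
section
prune_inst 0x355077551fe20200081c0516f2205ef7bb000422014bc800998602440fc6de422d878e61f030091e82b28cdd6039004811540520422800000a000c00013d078908824604a248a10c24001e808082010000000000000000000000000000051000004410000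
set_option linter.all false
open scoped Cfsg.Agent.FastGrp

/-!
# The group `Om n = Ω⁺(θ₀)` inside the symplectic group over the field with two elements

`θ₀ (a, b) = a · b`; `back : Sp n →* (V ≃ V)` the passage to the coordinates of `plusForm n (ZMod 2)`,
`Om n = back⁻¹ (E (plusForm n (ZMod 2)))`, `fw : E Q →* Om n` the inverse; the root elements are the elements
`lel (1 + E_ij)`, `qel (E_ij + E_ji)` of `SpDefs`.
-/

set_option autoImplicit false

open scoped Pointwise Matrix
open Matrix Module QuadraticMap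

namespace Cfsg.Agent.H352.EP

open Cfsg.Agent.LieClassical.OrthCore Cfsg.Agent.LieClassical.OrthForms

variable {n : ℕ}

/-- the coordinates -/
def cv (n : ℕ) : (Fin n ⊕ Fin n → ZMod 2) ≃ₗ[ZMod 2] Vv n :=
  LinearEquiv.sumArrowLequivProdArrow (Fin n) (Fin n) (ZMod 2) (ZMod 2)

theorem cv_fst (v : Fin n ⊕ Fin n → ZMod 2) (i : Fin n) : (cv n v).1 i = v (Sum.inl i) := rfl

theorem cv_snd (v : Fin n ⊕ Fin n → ZMod 2) (i : Fin n) : (cv n v).2 i = v (Sum.inr i) := rfl

/-- the quadratic form -/
def th0 (v : Vv n) : ZMod 2 := v.1 ⬝ᵥ v.2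

theorem th0_cv (v : Fin n ⊕ Fin n → ZMod 2) : th0 (cv n v) = plusForm n (ZMod 2) v := by
  rw [coe_plusForm, Cfsg.quadFormPlus]
  rfl

theorem th0_add (u v : Vv n) : th0 (u + v) = th0 u + th0 v + form u v := by
  simp only [th0, form, Prod.fst_add, Prod.snd_add, add_dotProduct, dotProduct_add]
  rw [dotProduct_comm u.2 v.1]
  ring

theorem form_cv (u v : Fin n ⊕ Fin n → ZMod 2) : form (cv n u) (cv n v) = polar (plusForm n (ZMod 2)) u v := by
  have h := th0_add (cv n u) (cv n v)
  rw [← map_add, th0_cv, th0_cv, th0_cv] at h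
  rw [polar, h]
  ring

/-- the passage to the coordinates of `plusForm` -/
def back (n : ℕ) : Sp n →* ((Fin n ⊕ Fin n → ZMod 2) ≃ₗ[ZMod 2] (Fin n ⊕ Fin n → ZMod 2)) where
  toFun g := (cv n).trans ((g : Vv n ≃ₗ[ZMod 2] Vv n).trans (cv n).symm)
  map_one' := by
    ext1 v
    exact (cv n).symm_apply_apply v
  map_mul' g h := by
    ext1 v
    show (cv n).symm ((g : Vv n ≃ₗ[ZMod 2] Vv n) ((h : Vv n ≃ₗ[ZMod 2] Vv n) (cv n v))) =
      (cv n).symm ((g : Vv n ≃ₗ[ZMod 2] Vv n) (cv n ((cv n).symm ((h : Vv n ≃ₗ[ZMod 2] Vv n) (cv n v)))))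
    rw [LinearEquiv.apply_symm_apply]

theorem cv_back (g : Sp n) (v : Fin n ⊕ Fin n → ZMod 2) : cv n (back n g v) = g • cv n v :=
  (cv n).apply_symm_apply _

theorem back_mem_O {g : Sp n} : back n g ∈ O (plusForm n (ZMod 2)) ↔ ∀ v : Vv n, th0 (g • v) = th0 v := by
  rw [mem_O]
  constructor
  · intro h v
    obtain ⟨v, rfl⟩ := (cv n).surjective v
    rw [← cv_back, th0_cv, th0_cv, h]
  · intro h v
    rw [← th0_cv, cv_back, h, th0_cv]

/-- the isometries as elements of `Sp n` -/
def fwd (g : (Fin n ⊕ Fin n → ZMod 2) ≃ₗ[ZMod 2] (Fin n ⊕ Fin n → ZMod 2)) (hg : g ∈ O (plusForm n (ZMod 2))) :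
    Sp n :=
  ⟨(cv n).symm.trans (g.trans (cv n)), fun u v => by
    obtain ⟨u, rfl⟩ := (cv n).surjective u
    obtain ⟨v, rfl⟩ := (cv n).surjective v
    show form (cv n (g ((cv n).symm (cv n u)))) (cv n (g ((cv n).symm (cv n v)))) = _
    rw [LinearEquiv.symm_apply_apply, LinearEquiv.symm_apply_apply, form_cv, form_cv, polar_map hg]⟩

theorem fwd_smul {g : (Fin n ⊕ Fin n → ZMod 2) ≃ₗ[ZMod 2] (Fin n ⊕ Fin n → ZMod 2)}
    (hg : g ∈ O (plusForm n (ZMod 2))) (v : Fin n ⊕ Fin n → ZMod 2) : fwd g hg • cv n v = cv n (g v) := by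
  show cv n (g ((cv n).symm (cv n v))) = _
  rw [LinearEquiv.symm_apply_apply]

theorem sp_ext {g h : Sp n} (H : ∀ v : Vv n, g • v = h • v) : g = h := Subtype.ext (LinearEquiv.ext H)

theorem back_fwd {g : (Fin n ⊕ Fin n → ZMod 2) ≃ₗ[ZMod 2] (Fin n ⊕ Fin n → ZMod 2)}
    (hg : g ∈ O (plusForm n (ZMod 2))) : back n (fwd g hg) = g := by
  ext1 v
  apply (cv n).injective
  rw [cv_back, fwd_smul]

theorem fwd_back {g : Sp n} (hg : back n g ∈ O (plusForm n (ZMod 2))) : fwd (back n g) hg = g := by
  apply sp_ext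
  intro v
  obtain ⟨v, rfl⟩ := (cv n).surjective v
  rw [fwd_smul, cv_back]

theorem back_injective : Function.Injective (back n) := by
  intro g h hgh
  apply sp_ext
  intro v
  obtain ⟨v, rfl⟩ := (cv n).surjective v
  rw [← cv_back, ← cv_back, hgh]

/-- `Ω⁺(θ₀)` -/
def Om (n : ℕ) : Subgroup (Sp n) := (E (plusForm n (ZMod 2))).comap (back n)

theorem mem_Om {g : Sp n} : g ∈ Om n ↔ back n g ∈ E (plusForm n (ZMod 2)) := Iff.rfl

/-- the isomorphism `E Q → Om n` -/
def fw (n : ℕ) : E (plusForm n (ZMod 2)) →* Om n where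
  toFun g := ⟨fwd g.1 (E_le_O g.2), by rw [mem_Om, back_fwd]; exact g.2⟩
  map_one' := by
    apply Subtype.ext
    apply back_injective
    show back n (fwd (1 : E (plusForm n (ZMod 2))).1 (E_le_O (1 : E (plusForm n (ZMod 2))).2)) = back n 1
    rw [map_one, back_fwd]
    rfl
  map_mul' g h := by
    apply Subtype.ext
    apply back_injective
    show back n (fwd (g * h).1 (E_le_O (g * h).2)) = back n (fwd g.1 (E_le_O g.2) * fwd h.1 (E_le_O h.2))
    rw [map_mul, back_fwd, back_fwd, back_fwd]
    rfl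

theorem fw_smul (g : E (plusForm n (ZMod 2))) (v : Fin n ⊕ Fin n → ZMod 2) :
    ((fw n g : Om n) : Sp n) • cv n v = cv n (g.1 v) := fwd_smul (E_le_O g.2) v

theorem back_fw (g : E (plusForm n (ZMod 2))) : back n (fw n g).1 = g.1 := back_fwd (E_le_O g.2)

theorem fw_surjective : Function.Surjective (fw n) := by
  intro g
  exact ⟨⟨back n g.1, g.2⟩, Subtype.ext (fwd_back (E_le_O g.2))⟩

theorem fw_injective : Function.Injective (fw n) := by
  intro g h hgh
  apply Subtype.ext
  simp only [← back_fw, ← back_fw, hgh]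

/-! ### The root elements -/

/-- the basis vectors -/
def bv (a : Fin n × Bool) : Vv n := if a.2 then (Pi.single a.1 1, 0) else (0, Pi.single a.1 1)

open Cfsg.Agent.TitsThree.WBridge Cfsg.Agent.TitsThree.WittFrame Cfsg.Agent.TitsThree.WittWeyl
  Cfsg.Agent.Nodes.WittInst Cfsg.Agent.TitsThree.KSideO Cfsg.Agent.TitsThree.Siegel Cfsg.Agent.Nodes.WittAll

theorem cv_b (a : Fin n × Bool) : cv n ((toFrame (wplus n (ZMod 2))).b a) = bv a := by
  obtain ⟨i, s⟩ := a
  cases s
  · refine Prod.ext ?_ ?_ <;> funext j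
    · rw [cv_fst]
      simp [bv, wplus]
    · rw [cv_snd]
      simp [bv, wplus, Pi.single_apply]
  · refine Prod.ext ?_ ?_ <;> funext j
    · rw [cv_fst]
      simp [bv, wplus, Pi.single_apply]
    · rw [cv_snd]
      simp [bv, wplus]

/-- the root element -/
noncomputable def rel (a b : Fin n × Bool) : Om n :=
  fw n ⟨(toFrame (wplus n (ZMod 2))).X a b 1, X_mem _ _ _ _⟩

theorem rel_smul {a b : Fin n × Bool} (h : a.1 ≠ b.1) (v : Vv n) :
    ((rel a b : Om n) : Sp n) • v = v + form v (bv a) • bv b + form v (bv b) • bv a := by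
  obtain ⟨v, rfl⟩ := (cv n).surjective v
  rw [rel, fw_smul, X_apply _ h]
  have h1 : (toFrame (wplus n (ZMod 2))).sc b 1 = 1 := by
    rw [Frame.sc, Frame.η]
    have e1 : (HO (plusForm n (ZMod 2))).ε = 1 := rfl
    rw [e1, inv_one, one_mul, map_one, mul_one, ite_self]
    decide
  have e1 : (HO (plusForm n (ZMod 2))).ε = 1 := rfl
  rw [h1, e1, inv_one, one_mul, map_one, one_mul, mul_one, HO_h, HO_h, map_sub, map_add, map_smul, map_smul,
    cv_b, cv_b, ← form_cv, ← form_cv, cv_b, cv_b, sub_eq_add_neg]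
  congr 1
  have h2 : ∀ w : Vv n, -w = w := fun w => by
    apply neg_eq_of_add_eq_zero_left
    exact Prod.ext (vadd_self _) (vadd_self _)
  exact h2 _

theorem form_e (v : Vv n) (i : Fin n) : form v (bv (i, true)) = v.2 i := by
  simp [form, bv]

theorem form_f (v : Vv n) (i : Fin n) : form v (bv (i, false)) = v.1 i := by
  simp [form, bv]

end Cfsg.Agent.H352.EP

private theorem dce_93dc9ea11157 : _root_.True := by
  try have : _root_.True := by simp only [_root_.Cfsg.quadFormPlus.eq_1]
  try have : _root_.True := by simp only [_root_.Cfsg.Agent.H352.EP.bv.eq_1]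
  try have : _root_.True := by simp only [_root_.Cfsg.Agent.TitsThree.SiegelGen.WFrame.mk.congr_simp]
  try have : _root_.True := by simp only [_root_.Cfsg.Agent.H352.EP.rel.eq_1]
  try have : _root_.True := by simp only [_root_.Cfsg.Agent.H352.EP.th0.eq_1]
  try have : _root_.True := by simp only [_root_.Cfsg.Agent.Nodes.WittInst.wplus.eq_1]
  exact _root_.True.intro
end

-- part: H274/EP/Even
section
prune_inst 0x10000004410002
set_option linter.all false
open scoped Cfsg.Agent.FastGrp

/-!
# [EA] of S4929 (helper274)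

`even_par` : `q` even: the nontrivial constituents of `1_B^Y` have even degree.
-/

set_option autoImplicit false
set_option linter.unusedSectionVars false

namespace Cfsg.Agent.H274.EP

open Cfsg CoxeterSystem Cfsg.Agent.ChevalleyStructure.CoxeterGeom Cfsg.Agent.Tits.Roots Cfsg.Agent.Tits.Core
  Cfsg.Agent.Nodes.Reps Cfsg.Agent.Nodes.BNOf Cfsg.Agent.Omega.EH3.Kf.Lev Cfsg.Agent.Nodes.StabComb
  Cfsg.Agent.Nodes.LeviDec Cfsg.Agent.Nodes.Bruhat Cfsg.Agent.H892.EP
  Cfsg.Agent.Nodes.RGDLib Cfsg.Agent.H969.TT.Count Cfsg.Agent.H969.TT.Principal Cfsg.Agent.Characters.Core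

universe u

variable {I W : Type*} {Y : Type u} [Fintype I] [DecidableEq I] [Group W] [Group Y] [Finite Y] {M : CoxeterMatrix I}
  {cs : CoxeterSystem M W} {A : I → I → ℤ} {h : IsCartan M A} {T : Subgroup Y} {n : I → Y}
  {X : (I → ℤ) → Subgroup Y}

/-- a character of order 2 of `U` supported at the node `i` -/
theorem exists_order_two [Finite W] (R : RGD cs h 2 T n X) (hC : CommGen cs h X) (i : I) :
    ∃ ε : ↥(RGD.Sup X (RGD.Pos cs h)) →* ℂˣ, ε * ε = 1 ∧ ε ≠ 1 ∧
      ∀ j, j ≠ i → ∀ u : ↥(RGD.Sup X (RGD.Pos cs h)), (u : Y) ∈ X (sr j) → ε u = 1 := by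
  classical
  have : Fact (Nat.Prime 2) := ⟨Nat.prime_two⟩
  set U := RGD.Sup X (RGD.Pos cs h) with hU
  have h1 := card_avoid R hC (Finset.univ.erase i)
  have h2 : (Finset.univ.erase i : Finset I) ≠ Finset.univ := fun he => by
    have := Finset.mem_univ i
    rw [← he] at this
    exact Finset.notMem_erase i _ this
  rw [if_neg h2, sub_zero] at h1
  have h3 : 2 ∣ Nat.card {φ : Ch ↥(RGD.Sup X (RGD.Pos cs h)) 2 // Disjoint (Finset.univ.erase i) (supp cs h X φ)} := by
    exact_mod_cast h1
  have hs1 : supp cs h X (1 : Ch ↥(RGD.Sup X (RGD.Pos cs h)) 2) = ∅ := by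
    rw [Finset.eq_empty_iff_forall_notMem]
    intro j hj
    obtain ⟨u, -, hu⟩ := mem_supp.1 hj
    exact hu rfl
  obtain ⟨φ, hφ, hne⟩ : ∃ φ : Ch ↥(RGD.Sup X (RGD.Pos cs h)) 2, Disjoint (Finset.univ.erase i) (supp cs h X φ) ∧ φ ≠ 1 := by
    by_contra hcon
    push Not at hcon
    have h4 : Nat.card {φ : Ch ↥(RGD.Sup X (RGD.Pos cs h)) 2 // Disjoint (Finset.univ.erase i) (supp cs h X φ)} = 1 := by
      rw [Nat.card_eq_one_iff_unique]
      refine ⟨⟨fun a b => Subtype.ext ((hcon _ a.2).trans (hcon _ b.2).symm)⟩, ⟨⟨1, ?_⟩⟩⟩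
      rw [hs1]
      exact Finset.disjoint_empty_right _
    rw [h4] at h3
    exact absurd h3 (by decide)
  refine ⟨(emb 2).comp φ, ?_, ?_, ?_⟩
  · ext u
    rw [MonoidHom.mul_apply, MonoidHom.comp_apply, ← map_mul, ← pow_two]
    have h5 := DFunLike.congr_fun (pow_eq_one' φ) u
    rw [MonoidHom.pow_apply] at h5
    rw [h5, MonoidHom.one_apply, map_one, MonoidHom.one_apply]
  · intro he
    apply hne
    ext u
    have h5 := DFunLike.congr_fun he u
    rw [MonoidHom.comp_apply, MonoidHom.one_apply, map_eq_one_iff _ (emb_injective 2)] at h5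
    rw [h5, MonoidHom.one_apply]
  · intro j hj u hu
    rw [MonoidHom.comp_apply, map_eq_one_iff _ (emb_injective 2)]
    by_contra hcon
    exact Finset.disjoint_left.1 hφ (Finset.mem_erase.2 ⟨hj, Finset.mem_univ j⟩) (mem_supp.2 ⟨u, hu, hcon⟩)

/-- the number of the linear characters whose support contains `K ≠ I` is even -/
theorem even_contain [Finite W] (R : RGD cs h 2 T n X) (hC : CommGen cs h X)
    [Fintype (↥(RGD.Sup X (RGD.Pos cs h)) →* ℂˣ)] {K : Finset I} (hK : K ≠ Finset.univ)
    [DecidablePred fun μ : ↥(RGD.Sup X (RGD.Pos cs h)) →* ℂˣ => K ⊆ sp cs h X μ] :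
    2 ∣ (Finset.univ.filter fun μ : ↥(RGD.Sup X (RGD.Pos cs h)) →* ℂˣ => K ⊆ sp cs h X μ).card := by
  obtain ⟨i, hi⟩ : ∃ i, i ∉ K := by
    by_contra hcon
    push Not at hcon
    exact hK (Finset.eq_univ_iff_forall.2 hcon)
  obtain ⟨ε, hε, hne, hj⟩ := exists_order_two R hC i
  have key : ∀ μ : ↥(RGD.Sup X (RGD.Pos cs h)) →* ℂˣ, K ⊆ sp cs h X μ → K ⊆ sp cs h X (μ * ε) := by
    intro μ hμ j hjK
    obtain ⟨u, hu, hu1⟩ := mem_sp.1 (hμ hjK)
    refine mem_sp.2 ⟨u, hu, ?_⟩
    rw [MonoidHom.mul_apply, hj j (fun e => hi (e ▸ hjK)) u hu, mul_one]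
    exact hu1
  have h1 : ∑ μ ∈ (Finset.univ.filter fun μ : ↥(RGD.Sup X (RGD.Pos cs h)) →* ℂˣ => K ⊆ sp cs h X μ), (1 : ZMod 2) = 0 := by
    refine Finset.sum_involution (fun μ _ => μ * ε) (fun _ _ => by decide) (fun μ _ _ he => hne ?_) (fun μ hμ => ?_) (fun μ _ => ?_)
    · ext u
      have h5 := DFunLike.congr_fun he u
      rw [MonoidHom.mul_apply, mul_eq_left] at h5
      rw [h5, MonoidHom.one_apply]
    · rw [Finset.mem_filter] at hμ ⊢
      exact ⟨Finset.mem_univ _, key μ hμ.2⟩
    · ext u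
      have h5 := DFunLike.congr_fun hε u
      rw [MonoidHom.mul_apply, MonoidHom.one_apply] at h5
      rw [MonoidHom.mul_apply, MonoidHom.mul_apply, mul_assoc, h5, mul_one]
  rw [Finset.sum_const, nsmul_eq_mul, mul_one, ZMod.natCast_eq_zero_iff] at h1
  exact h1

/-- **[EA]** -/
theorem even_par [Finite W] (R : RGD cs h 2 T n X) (hG : Cfsg.Agent.Nodes.RGDLib.G1 cs h X = ⊤) (hC : CommGen cs h X)
    (χ : IrrCharacter Y) (hχ : χ ≠ oneChar Y)
    (hB : ∑ᶠ b : ↥(RGD.B cs h T X), (χ : Y → ℂ) b ≠ 0) : 2 ∣ charDegree (χ : Y → ℂ) := by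
  classical
  have : Fact (Nat.Prime 2) := ⟨Nat.prime_two⟩
  have hG' : GG cs h T X = ⊤ := by
    rw [eq_top_iff, ← hG]
    exact le_sup_right
  have : Fintype Y := Fintype.ofFinite Y
  have : Fintype ↥(RGD.Sup X (RGD.Pos cs h)) := Fintype.ofFinite _
  have : Fintype (↥(RGD.Sup X (RGD.Pos cs h)) →* ℂˣ) := Fintype.ofFinite _
  have hU : IsPGroup 2 ↥(RGD.Sup X (RGD.Pos cs h)) := R.isPGroup_Upos
  obtain ⟨z, hz⟩ := parity_lm hU (isCharacter_comp (RGD.Sup X (RGD.Pos cs h)).subtype (isIrr_isCharacter χ.2))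
  have hnat : ∀ K : Finset I, ∃ c : ℕ, fd (PK cs h T n X K) (χ : Y → ℂ) = c := fun K =>
    fd_isNat _ (isIrr_isCharacter χ.2)
  choose e he using hnat
  have htop : e Finset.univ = 0 := by
    have h1 := he Finset.univ
    rw [PK_univ R hG'] at h1
    have h2 : fd (⊤ : Subgroup Y) (χ : Y → ℂ) = classInner (χ : Y → ℂ) 1 := by
      rw [fd_eq, classInner_def, Subgroup.card_top]
      congr 1
      refine Fintype.sum_equiv Subgroup.topEquiv.toEquiv _ _ fun x => ?_
      simp
    rw [h2, classInner_irr_ne χ.2 isIrr_one (fun h3 => hχ (Subtype.ext h3))] at h1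
    exact_mod_cast h1.symm
  have h1 : ∑ μ : ↥(RGD.Sup X (RGD.Pos cs h)) →* ℂˣ, lm μ (fun u : ↥(RGD.Sup X (RGD.Pos cs h)) => (χ : Y → ℂ) u) =
      ∑ K ∈ (Finset.univ : Finset I).powerset, (-1 : ℂ) ^ K.card * (e K : ℂ) *
        ((Finset.univ.filter fun μ : ↥(RGD.Sup X (RGD.Pos cs h)) →* ℂˣ => K ⊆ sp cs h X μ).card : ℂ) := by
    rw [Finset.sum_congr rfl fun μ _ => lm_eq_sum R hG' hC χ hB μ]
    have h4 : ∀ μ : ↥(RGD.Sup X (RGD.Pos cs h)) →* ℂˣ, ∑ K ∈ (sp cs h X μ).powerset, (-1 : ℂ) ^ K.card * fd (PK cs h T n X K) (χ : Y → ℂ) =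
        ∑ K ∈ (Finset.univ : Finset I).powerset, if K ⊆ sp cs h X μ then (-1 : ℂ) ^ K.card * (e K : ℂ) else 0 := by
      intro μ
      rw [← Finset.sum_filter]
      refine Finset.sum_congr ?_ fun K _ => by rw [he]
      ext K
      simp
    rw [Finset.sum_congr rfl fun μ _ => h4 μ, Finset.sum_comm]
    refine Finset.sum_congr rfl fun K _ => ?_
    rw [← Finset.sum_filter, Finset.sum_const, nsmul_eq_mul, mul_comm]
  have h2 : ∀ K : Finset I, ∃ w : ℤ, (-1 : ℂ) ^ K.card * (e K : ℂ) *
        ((Finset.univ.filter fun μ : ↥(RGD.Sup X (RGD.Pos cs h)) →* ℂˣ => K ⊆ sp cs h X μ).card : ℂ) = 2 * w := by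
    intro K
    by_cases hK : K = Finset.univ
    · refine ⟨0, ?_⟩
      rw [hK, htop]
      simp
    · obtain ⟨w, hw⟩ := even_contain R hC hK
      refine ⟨(-1) ^ K.card * (e K : ℤ) * w, ?_⟩
      rw [hw]
      push_cast
      ring
  choose w hw using h2
  have h3 : (χ : Y → ℂ) 1 = 2 * ((z + ∑ K ∈ (Finset.univ : Finset I).powerset, w K : ℤ) : ℂ) := by
    have h4 : (χ : Y → ℂ) 1 = ((χ : Y → ℂ) ∘ (RGD.Sup X (RGD.Pos cs h)).subtype) 1 := by simp
    have h5 : ∑ μ : ↥(RGD.Sup X (RGD.Pos cs h)) →* ℂˣ, lm μ ((χ : Y → ℂ) ∘ (RGD.Sup X (RGD.Pos cs h)).subtype) =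
        ∑ K ∈ (Finset.univ : Finset I).powerset, 2 * (w K : ℂ) := by
      rw [← Finset.sum_congr rfl fun K _ => hw K, ← h1]
      rfl
    rw [h4, eq_add_of_sub_eq hz, h5]
    push_cast
    rw [← Finset.mul_sum]
    ring
  rw [Cfsg.Agent.Blocks.Basic.irr_one_eq_charDegree χ.2] at h3
  have h4 : (charDegree (χ : Y → ℂ) : ℤ) = 2 * (z + ∑ K ∈ (Finset.univ : Finset I).powerset, w K) := by exact_mod_cast h3
  exact_mod_cast Dvd.intro _ h4.symm

end Cfsg.Agent.H274.EP
end

-- part: H537/EP/TACl_mg
section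
prune_inst 0x7150475117e20000001c0512f02042b33900042001430000a08600040781ec00c88386601000210c120080490031000000440420404000000a0004000024070908800600a0080008000016000080010000000000000000000000000000010000004410002
set_option linter.all false
open scoped Cfsg.Agent.FastGrp

-- part: H537/EP/Blk
section
/-!
# S4929, [TA-CL]: the subgroup `M_J` of the first nodes of a Witt frame is a quotient of `SL_d(F)` by a subgroup of
exponent at most two
-/

set_option autoImplicit false
set_option linter.unusedSectionVars false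

namespace Cfsg.Agent.H537.EP

open Matrix
open CoxeterSystem Cfsg.Agent.ChevalleyStructure.CoxeterGeom Cfsg.Agent.Tits.Roots Cfsg.Agent.Tits.Core
  Cfsg.Agent.Nodes.Reps Cfsg.Agent.Nodes.BNOf Cfsg.Agent.Nodes.StabComb Cfsg.Agent.Nodes.RGDLib
open Cfsg.Agent.Nodes
open Cfsg.Agent.TitsThree.Siegel Cfsg.Agent.TitsThree.WittFrame Cfsg.Agent.TitsThree.WittWeyl
open Cfsg.Agent.Nodes.WittRoot (XG)
open Cfsg.Agent.H156.SqPhi Cfsg.Agent.H156.SqBlk
open Cfsg.Agent.H53.HC (MJ)

universe u

variable {F : Type} [Field F] {V : Type*} [AddCommGroup V] [Module F V] {H : HForm F V} {N k : ℕ}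
  {Fr : Frame H (Fin N)} {G0 : Subgroup (V ≃ₗ[F] V)}

/-- `A` acting as a scalar on every vector: `A * A = 1`. -/
theorem sq_of_scalar {ι : Fin k → Fin N} (hι : Function.Injective ι) (A : GL (Fin k) F)
    (hA : ∀ v : V, ∃ a : F, Phi Fr hι A v = a • v) : A * A = 1 := by
  apply Units.ext
  rw [Units.val_mul, Units.val_one]
  have key : ∀ i, (A.1 * A.1) *ᵥ (Pi.single i 1) = Pi.single i (1 : F) := by
    intro i
    obtain ⟨a, ha⟩ := hA (eT Fr ι (Pi.single i 1) + eF Fr ι (Pi.single i 1))
    have hT : ∀ v, cT Fr ι (Phi Fr hι A v) = A.1 *ᵥ cT Fr ι v := fun v => cT_LM Fr hι _ _ v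
    have hF : ∀ v, cF Fr ι (Phi Fr hι A v) = (A⁻¹).1ᵀ *ᵥ cF Fr ι v := fun v => cF_LM Fr hι _ _ v
    have h1 := hT (eT Fr ι (Pi.single i 1) + eF Fr ι (Pi.single i 1))
    have h2 := hF (eT Fr ι (Pi.single i 1) + eF Fr ι (Pi.single i 1))
    rw [ha, map_smul, map_add, cT_eT Fr hι, cT_eF, add_zero] at h1
    rw [ha, map_smul, map_add, cF_eT, cF_eF Fr hι, zero_add] at h2
    have h3 : (A.1 *ᵥ Pi.single i 1) ⬝ᵥ ((A⁻¹).1ᵀ *ᵥ Pi.single i 1) = (1 : F) := by
      rw [dotProduct_mulVec, ← vecMul_transpose, vecMul_vecMul, ← transpose_mul, ← Units.val_mul, inv_mul_cancel,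
        Units.val_one, transpose_one, vecMul_one, dotProduct_single, Pi.single_eq_same, mul_one]
    rw [← h1, ← h2, smul_dotProduct, dotProduct_smul, dotProduct_single, Pi.single_eq_same, mul_one, smul_eq_mul,
      smul_eq_mul, mul_one] at h3
    rw [← mulVec_mulVec, ← h1, mulVec_smul, ← h1, smul_smul, h3, one_smul]
  ext i j
  have h4 := congrFun (key j) i
  rw [mulVec_single_one] at h4
  rw [Matrix.one_apply]
  rw [Pi.single_apply] at h4
  exact h4

variable {K : Type u} [Group K]

variable {W : Type*} [Group W] {M : CoxeterMatrix (Fin N)}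
  {cs : CoxeterSystem M W} {A : Fin N → Fin N → ℤ} {h : IsCartan M A} {rg : (Fin N → ℤ) → Subgroup (V ≃ₗ[F] V)}

/-- the range of `SL_d(F) → K` is `M_J`. -/
theorem range_eq {ι : Fin (k + 2) → Fin N} (hι : Function.Injective ι) (hσ : ∀ c, H.σ c = c) {J : Set (Fin N)}
    (hX : ∀ a b t, Fr.X a b t ∈ G0) (φ : ↥G0 →* K)
    (hJ1 : ∀ i j : Fin (k + 2), i ≠ j → ∃ r ∈ RootsJ cs h J, rg r = XG Fr (ι i, true) (ι j, false))
    (hJ2 : ∀ r ∈ PosJ cs h J, ∃ i j : Fin (k + 2), i < j ∧ rg r = XG Fr (ι i, true) (ι j, false) ∧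
      rg (-r) = XG Fr (ι j, true) (ι i, false)) :
    (φ.comp (phi hι hσ hX)).range = MJ cs h (fun x => ((rg x).subgroupOf G0).map φ) J := by
  have mem : ∀ {i j : Fin (k + 2)} (hij : i ≠ j) (g : ↥G0), (g : V ≃ₗ[F] V) ∈ XG Fr (ι i, true) (ι j, false) →
      φ g ∈ (φ.comp (phi hι hσ hX)).range := by
    intro i j hij g hg
    obtain ⟨t, ht⟩ := hg
    refine ⟨SpecialLinearGroup.transvection hij t, ?_⟩
    rw [MonoidHom.comp_apply]
    congr 1
    apply Subtype.ext
    rw [phi_transvection]
    exact ht.symm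
  apply le_antisymm
  · rw [MonoidHom.range_eq_map, ← Cfsg.Agent.LieClassical.SLGen.closure_transvections, MonoidHom.map_closure,
      Subgroup.closure_le]
    rintro _ ⟨_, ⟨i, j, hij, c, rfl⟩, rfl⟩
    obtain ⟨r, hr, e⟩ := hJ1 i j hij
    refine RGD.le_Sup (X := fun x => ((rg x).subgroupOf G0).map φ) hr ?_
    refine ⟨phi hι hσ hX (SpecialLinearGroup.transvection hij c), ?_, rfl⟩
    change (phi hι hσ hX (SpecialLinearGroup.transvection hij c) : ↥G0) ∈ (rg r).subgroupOf G0
    rw [Subgroup.mem_subgroupOf, phi_transvection, e]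
    exact ⟨c, rfl⟩
  · refine RGD.Sup_le fun x hx => ?_
    rintro _ ⟨g, hg, rfl⟩
    have hg' : (g : V ≃ₗ[F] V) ∈ rg x := Subgroup.mem_subgroupOf.1 hg
    rcases hx.1.pos_or_neg with h0 | h0
    · obtain ⟨i, j, hij, e, -⟩ := hJ2 x ⟨hx.1, h0, hx.2⟩
      rw [e] at hg'
      exact mem hij.ne g hg'
    · obtain ⟨i, j, hij, -, e⟩ := hJ2 (-x) ⟨hx.1.neg, by simpa only [_root_.Left.nonneg_neg_iff] using h0, fun l hl => by
        rw [Pi.neg_apply, hx.2 l hl, neg_zero]⟩
      rw [_root_.neg_neg] at e
      rw [e] at hg'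
      exact mem hij.ne' g hg'

variable [Finite K] [Finite F] {p r : ℕ} [Fact p.Prime] [Fact r.Prime]

/-- `Good` for `M_J` -/
theorem good_MJ (hp2 : p ≠ 2) {ι : Fin (k + 2) → Fin N} (hι : Function.Injective ι) (hσ : ∀ c, H.σ c = c)
    {J : Set (Fin N)} (hX : ∀ a b t, Fr.X a b t ∈ G0) (φ : ↥G0 →* K)
    (hker : ∀ (v : V) (g : ↥G0), φ g = 1 → ∃ a : F, (g : V ≃ₗ[F] V) v = a • v)
    (hJ1 : ∀ i j : Fin (k + 2), i ≠ j → ∃ r ∈ RootsJ cs h J, rg r = XG Fr (ι i, true) (ι j, false))
    (hJ2 : ∀ r ∈ PosJ cs h J, ∃ i j : Fin (k + 2), i < j ∧ rg r = XG Fr (ι i, true) (ι j, false) ∧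
      rg (-r) = XG Fr (ι j, true) (ι i, false))
    (hg : H892.EP.Good p r (_root_.Matrix.SpecialLinearGroup (Fin (k + 2)) F)) :
    H892.EP.Good p r ↥(MJ cs h (fun x => ((rg x).subgroupOf G0).map φ) J) := by
  rw [← range_eq hι hσ hX φ hJ1 hJ2]
  refine H892.EP.Good.quot (φ.comp (phi hι hσ hX)).rangeRestrict (MonoidHom.rangeRestrict_surjective _) ?_ hg
  rw [MonoidHom.ker_rangeRestrict]
  intro hd
  obtain ⟨x, hx⟩ := exists_prime_orderOf_dvd_card' p hd
  have h1 : x * x = 1 := by
    apply Subtype.ext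
    rw [Subgroup.coe_mul, Subgroup.coe_one]
    have hx1 : φ (phi hι hσ hX (x : _root_.Matrix.SpecialLinearGroup (Fin (k + 2)) F)) = 1 := x.2
    have h2 := sq_of_scalar (Fr := Fr) hι ((x : _root_.Matrix.SpecialLinearGroup (Fin (k + 2)) F) : GL (Fin (k + 2)) F)
      (fun v => hker v _ hx1)
    apply Subtype.ext
    exact congrArg Units.val h2
  have h3 : orderOf x ∣ 2 := orderOf_dvd_of_pow_eq_one (by rw [pow_two]; exact h1)
  rw [hx] at h3
  exact hp2 ((Nat.prime_dvd_prime_iff_eq Fact.out Nat.prime_two).1 h3)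

end Cfsg.Agent.H537.EP
end

-- part: H537/EP/TAMJ
section
/-!
# S4929, [TA-CL]: `Good` for the subgroups `M_J` of `PSp_2m`, `PΩ_(2m+1)`, `PΩ^±_2m` from `SL_d(F)`
(`J` = the first `d - 1` nodes)
-/

set_option autoImplicit false
set_option linter.unusedSectionVars false

namespace Cfsg.Agent.H537.EP

open Matrix
open CoxeterSystem Cfsg.Agent.ChevalleyStructure.CoxeterGeom Cfsg.Agent.Tits.Roots Cfsg.Agent.Tits.Core
  Cfsg.Agent.Nodes.Reps Cfsg.Agent.Nodes.BNOf Cfsg.Agent.Nodes.StabComb Cfsg.Agent.Nodes.RGDLib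
open Cfsg.Agent.Nodes
open Cfsg.Agent.TitsThree.Siegel Cfsg.Agent.TitsThree.WittFrame Cfsg.Agent.TitsThree.WittWeyl
open Cfsg.Agent.Nodes.WittRoot (XG)
open Cfsg.Agent.H156.SqPhi Cfsg.Agent.H156.SqBlk
open Cfsg.Agent.H53.HC (MJ)

universe u

section frames

variable {F : Type} [Field F] {V : Type*} [AddCommGroup V] [Module F V] {H : HForm F V}
  {K : Type u} [Group K] [Finite K] [Finite F] {p r : ℕ} [Fact p.Prime] [Fact r.Prime]

/-- type `C_n` : the subgroup of the first `d - 1` nodes -/
theorem goodMJ_C (hp2 : p ≠ 2) {n d : ℕ} (hd : 2 ≤ d) (hdn : d ≤ n) {Fr : Frame H (Fin n)}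
    (M : Cfsg.Agent.TitsThree.FrameCN.Model Fr K) (hσ : ∀ c, H.σ c = c) {W : Type*} [Group W]
    (cs : CoxeterSystem (CoxeterMatrix.B n) W)
    (hg : H892.EP.Good p r (_root_.Matrix.SpecialLinearGroup (Fin d) F)) :
    H892.EP.Good p r ↥(MJ cs (TypeC.isCartan n) (WittModel.X M) (JJ n d)) := by
  obtain ⟨k, rfl⟩ : ∃ k, d = k + 2 := ⟨d - 2, by omega⟩
  exact good_MJ hp2 (ι := Fin.castLE hdn) (Fin.castLE_injective hdn) hσ M.hX M.φ (fun v g hv => M.ker v g hv)
    (fun i j hij => hJ1C hdn i j hij) (fun x hx => hJ2C hdn hx) hg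

end frames

section TypeD

open Cfsg.Agent.Nodes.TypeC (wt wt_ng)
open Cfsg.Agent.Nodes.TypeD
open Cfsg.Agent.Nodes.WittRoot (XG_swap)
open Cfsg.Agent.Nodes.WittRGDD (rg_eq)

variable {F : Type*} [Field F] {V : Type*} [AddCommGroup V] [Module F V] {H : HForm F V}
  {n k : ℕ} {W : Type*} [Group W] {cs : CoxeterSystem (TypeD.M n) W} {Fr : Frame H (Fin (n + 2))}

theorem hJ1D (hk : k + 2 ≤ n + 2) (i j : Fin (k + 2)) (hij : i ≠ j) :
    ∃ r ∈ RootsJ cs (isCartan n) (JJ (n + 2) (k + 2)),
      WittRGDD.rg Fr r = XG Fr (Fin.castLE hk i, true) (Fin.castLE hk j, false) := by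
  have hne : (Fin.castLE hk i) ≠ (Fin.castLE hk j) := fun h => hij (Fin.castLE_injective hk h)
  obtain ⟨r, hr, e⟩ := rt_of_ok (cs := cs) (a := (Fin.castLE hk i, true)) (b := (Fin.castLE hk j, false)) hne
  have hlast : r (Fin.last (n + 1)) = 0 := by
    have h1 := psumD r (Fin.last (n + 1))
    rw [e, sum_sub (k := k + 2) (by simp) (by simp) (by simp; omega), if_neg (by simp), if_neg (by simp)] at h1
    omega
  refine ⟨r, ⟨hr, fun l hl => ?_⟩, ?_⟩
  · have hl' : k + 2 ≤ (l : ℕ) + 1 := not_lt.1 hl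
    have h1 := psumD r l
    rw [e, sum_sub (k := k + 2) (by simp) (by simp) hl', hlast] at h1
    split_ifs at h1 <;> omega
  · exact rg_eq Fr (a := (Fin.castLE hk i, true)) (b := (Fin.castLE hk j, false)) hne e

theorem hJ2D (hk : k + 2 ≤ n + 2) {r : Fin (n + 2) → ℤ}
    (hr : r ∈ PosJ cs (isCartan n) (JJ (n + 2) (k + 2))) :
    ∃ i j : Fin (k + 2), i < j ∧ WittRGDD.rg Fr r = XG Fr (Fin.castLE hk i, true) (Fin.castLE hk j, false) ∧
      WittRGDD.rg Fr (-r) = XG Fr (Fin.castLE hk j, true) (Fin.castLE hk i, false) := by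
  obtain ⟨hr1, hr2, hr3⟩ := hr
  obtain ⟨a, b, hab, e⟩ := exists_of_isRoot cs hr1
  have hlast : r (Fin.last (n + 1)) = 0 := hr3 _ (by
    change ¬ (((Fin.last (n + 1) : Fin (n + 2)) : ℕ) + 1 < k + 2)
    simp only [_root_.Fin.val_last, _root_.add_lt_add_iff_right, _root_.Order.lt_add_one_iff, _root_.Order.add_one_le_iff, _root_.not_lt]; omega)
  obtain ⟨i, j, hij, hj, hc⟩ := comb (Or.inl hab) (k := k + 2) (by omega) hk (fun m hm => by
      rw [← e, psumD, hr3 m (not_lt.2 hm), hlast]
      split_ifs <;> omega) (fun m => by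
      rw [← e, psumD]
      have h5 : (0 : ℤ) ≤ r m := hr2 m
      split_ifs <;> omega)
  have hij' : (i : ℕ) < j := hij
  refine ⟨⟨i, by omega⟩, ⟨j, hj⟩, hij, ?_, ?_⟩
  · have e' : ee r = wt (i, true) + wt (j, false) := by
      rcases hc with ⟨rfl, rfl⟩ | ⟨rfl, rfl⟩
      · exact e
      · exact e.trans (add_comm _ _)
    have h1 : ((i, true) : Fin (n + 2) × Bool).1 ≠ ((j, false) : Fin (n + 2) × Bool).1 := hij.ne
    exact rg_eq Fr h1 e'
  · have e' : ee (-r) = wt (j, true) + wt (i, false) := by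
      rw [ee_neg, e]
      rcases hc with ⟨rfl, rfl⟩ | ⟨rfl, rfl⟩
      · have h1 := wt_ng (i, true)
        have h2 := wt_ng (j, false)
        change wt (i, false) = _ at h1
        change wt (j, true) = _ at h2
        rw [h1, h2]; abel
      · have h1 := wt_ng (i, true)
        have h2 := wt_ng (j, false)
        change wt (i, false) = _ at h1
        change wt (j, true) = _ at h2
        rw [h1, h2]; abel
    have h1 : ((j, true) : Fin (n + 2) × Bool).1 ≠ ((i, false) : Fin (n + 2) × Bool).1 := hij.ne'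
    exact rg_eq Fr h1 e'

end TypeD

/-! ### the groups -/

variable {F : Type} [Field F] [Fintype F] {r : ℕ} [Fact r.Prime] {p : ℕ} [Fact p.Prime]

section orth

open QuadraticMap
open Cfsg.Agent.LieClassical Cfsg.Agent.LieClassical.OrthCore Cfsg.Agent.LieClassical.OrthTrans
open Cfsg.Agent.LieClassical.OrthSimple Cfsg.Agent.LieClassical.OrthFinite Cfsg.Agent.LieClassical.OrthForms
open Cfsg.Agent.TitsThree Cfsg.Agent.TitsThree.KSideO Cfsg.Agent.TitsThree.StdData Cfsg.Agent.TitsThree.WBridge
open Cfsg.Agent.Nodes.WittInst Cfsg.Agent.Nodes.WittAll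

/-- `PΩ⁺_2(n+3)(F)`, the first `d - 1` nodes -/
theorem goodMJ_oplus (hp2 : p ≠ 2) {n d : ℕ} (hG : _root_.Cfsg.Agent.LieClassical.OrthTrans.Good (plusForm (n + 3) F)) (hd : 2 ≤ d) (hdn : d ≤ n + 3)
    {W : Type*} [Group W] (cs : CoxeterSystem (TypeD.M (n + 1)) W)
    (h : H892.EP.Good p r (_root_.Matrix.SpecialLinearGroup (Fin d) F)) :
    H892.EP.Good p r ↥(MJ cs (TypeD.isCartan (n + 1)) (XD (wplus (n + 3) F) (toPOmega hG)) (JJ (n + 3) d)) := by
  obtain ⟨k, rfl⟩ : ∃ k, d = k + 2 := ⟨d - 2, by omega⟩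
  exact good_MJ hp2 (ι := Fin.castLE hdn) (Fin.castLE_injective hdn) (fun _ => rfl) (by exact (amb_plus (n + 3)).X_mem)
    (toPOmega hG) (fun v g hv => (scalar_of_center hG (center_of_toPOmega hG hv)).imp fun _ h => h v)
    (fun i j hij => hJ1D hdn i j hij) (fun x hx => hJ2D hdn hx) h

end orth

end Cfsg.Agent.H537.EP
end

-- part: H537/EP/TACl
section
/-!
# S4929, [TA-CL]: `Good` for `PSp_2m`, `PΩ_(2m+1)`, `PΩ^±_2m` from `SL_d(F)`
-/

set_option autoImplicit false
set_option linter.unusedSectionVars false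

namespace Cfsg.Agent.H537.EP

open Matrix
open CoxeterSystem Cfsg.Agent.ChevalleyStructure.CoxeterGeom Cfsg.Agent.Tits.Roots Cfsg.Agent.Tits.Core
  Cfsg.Agent.Nodes.Reps Cfsg.Agent.Nodes.BNOf Cfsg.Agent.Nodes.StabComb Cfsg.Agent.Nodes.RGDLib
open Cfsg.Agent.Nodes
open Cfsg.Agent.TitsThree.Siegel Cfsg.Agent.TitsThree.WittFrame Cfsg.Agent.TitsThree.WittWeyl
open Cfsg.Agent.Nodes.WittRoot (XG)
open Cfsg.Agent.H156.SqPhi Cfsg.Agent.H156.SqBlk
open Cfsg.Agent.H53.HC (MJ)

universe u

section frames

variable {F : Type} [Field F] {V : Type*} [AddCommGroup V] [Module F V] {H : HForm F V}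
  {K : Type u} [Group K] [Finite K] [Finite F] [Finite V] {p r : ℕ} [Fact p.Prime] [Fact r.Prime] [CharP F r]

/-- type `C_n` -/
theorem good_C (hp2 : p ≠ 2) {n d : ℕ} (hd : 2 ≤ d) (hdn : d ≤ n) {Fr : Frame H (Fin n)}
    (M : Cfsg.Agent.TitsThree.FrameCN.Model Fr K) (hA : WittAll.AmbT Fr r M.I) {p0 : Fr.Adm} (hp0 : p0.c ≠ 0)
    (hσ : ∀ c, H.σ c = c) (hg : H892.EP.Good p r (_root_.Matrix.SpecialLinearGroup (Fin d) F)) : H892.EP.Good p r K := by
  have : Finite (CoxeterMatrix.B n).Group := TypeC.finite_W (CoxeterMatrix.B n).toCoxeterSystem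
  exact good_of_MJ (WittAll.rgdC_model M hA hp0 (CoxeterMatrix.B n).toCoxeterSystem)
    (WittModel.G1_eq_top M (by omega) (CoxeterMatrix.B n).toCoxeterSystem) (JJ n d)
    (goodMJ_C hp2 hd hdn M hσ (CoxeterMatrix.B n).toCoxeterSystem hg)

end frames

/-! ### the groups -/

variable {F : Type} [Field F] [Fintype F] {r : ℕ} [Fact r.Prime] [CharP F r] {p : ℕ} [Fact p.Prime]

theorem good_psp (hp2 : p ≠ 2) {m d : ℕ} (hm : 2 ≤ m) (hd : 2 ≤ d) (hdn : d ≤ m)
    (h : H892.EP.Good p r (_root_.Matrix.SpecialLinearGroup (Fin d) F)) : H892.EP.Good p r (PSp m F) :=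
  good_C hp2 hd hdn (TitsThree.KInstSp.model m F) (WittAll.AmbT.of_amb WittU.amb_Sp r)
    (p0 := TitsThree.SpIdent.adm 1) one_ne_zero (fun _ => rfl) h

section orth

open QuadraticMap
open Cfsg.Agent.LieClassical Cfsg.Agent.LieClassical.OrthCore Cfsg.Agent.LieClassical.OrthTrans
open Cfsg.Agent.LieClassical.OrthSimple Cfsg.Agent.LieClassical.OrthFinite Cfsg.Agent.LieClassical.OrthForms
open Cfsg.Agent.TitsThree Cfsg.Agent.TitsThree.KSideO Cfsg.Agent.TitsThree.StdData Cfsg.Agent.TitsThree.WBridge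
open Cfsg.Agent.Nodes.WittInst Cfsg.Agent.Nodes.WittAll

theorem two_ne (hr : r ≠ 2) : (2 : F) ≠ 0 := by
  intro h0
  have h1 : r ∣ 2 := (CharP.cast_eq_zero_iff F r 2).1 (by exact_mod_cast h0)
  exact hr ((Nat.prime_dvd_prime_iff_eq Fact.out Nat.prime_two).1 h1)

theorem good_oodd (hr : r ≠ 2) (hp2 : p ≠ 2) {m d : ℕ} (hm : 3 ≤ m) (hd : 2 ≤ d) (hdn : d ≤ m)
    (h : H892.EP.Good p r (_root_.Matrix.SpecialLinearGroup (Fin d) F)) :
    H892.EP.Good p r (POmega F (quadFormOdd m F)) := by
  have h2 : (2 : F) ≠ 0 := two_ne hr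
  rw [← coe_oddForm]
  have hG : _root_.Cfsg.Agent.LieClassical.OrthTrans.Good (oddForm m F) := by
    apply good_of_finite (nondeg_oddForm m F h2)
    rw [Module.finrank_fintype_fun_eq_card, Fintype.card_sum, Fintype.card_sum, Fintype.card_fin,
      Fintype.card_unit]
    omega
  have hp : ((embOdd m F).ngt ⟨1, -1 ^ 2, rfl⟩).c ≠ 0 := by
    change (1 : F)⁻¹ * (-1 ^ 2) ≠ 0
    simp
  exact good_C hp2 hd hdn (model (wodd m F) hG ⟨_, hp⟩) (AmbT.of_amb (amb_O_of_two _ h2) r) hp (fun _ => rfl) h

theorem good_ominus (hr : r ≠ 2) (hp2 : p ≠ 2) {m d : ℕ} (hm : 4 ≤ m) (a b : F)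
    (hab : ∀ z₁ z₂ : F, z₁ ^ 2 + a * z₁ * z₂ + b * z₂ ^ 2 = 0 → z₁ = 0 ∧ z₂ = 0) (hd : 2 ≤ d) (hdn : d ≤ m - 1)
    (h : H892.EP.Good p r (_root_.Matrix.SpecialLinearGroup (Fin d) F)) :
    H892.EP.Good p r (POmega F (quadFormMinus (m - 1) F a b)) := by
  have h2 : (2 : F) ≠ 0 := two_ne hr
  rw [← coe_minusForm]
  have hG : _root_.Cfsg.Agent.LieClassical.OrthTrans.Good (minusForm (m - 1) F a b) := by
    apply good_of_finite (nondeg_minusForm (m - 1) F a b hab)
    rw [Module.finrank_fintype_fun_eq_card, Fintype.card_sum, Fintype.card_sum, Fintype.card_fin,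
      Fintype.card_fin]
    omega
  have hp : ((embMinus (m - 1) F a b hab).ngt ⟨(1, 0), -nf a b (1, 0), rfl⟩).c ≠ 0 := by
    change (1 : F)⁻¹ * (-nf a b (1, 0)) ≠ 0
    simp [nf]
  exact good_C hp2 hd hdn (model (wminus (m - 1) F a b hab) hG ⟨_, hp⟩)
    (AmbT.of_amb (amb_O_of_two _ h2) r) hp (fun _ => rfl) h

theorem good_oplus (hr : r ≠ 2) (hp2 : p ≠ 2) {m d : ℕ} (hm : 4 ≤ m) (hd : 2 ≤ d) (hdn : d ≤ m)
    (h : H892.EP.Good p r (_root_.Matrix.SpecialLinearGroup (Fin d) F)) :
    H892.EP.Good p r (POmega F (quadFormPlus m F)) := by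
  obtain ⟨n, rfl⟩ : ∃ n, m = n + 3 := ⟨m - 3, by omega⟩
  rw [← coe_plusForm]
  have hG : _root_.Cfsg.Agent.LieClassical.OrthTrans.Good (plusForm (n + 3) F) := by
    apply good_of_finite (nondeg_plusForm (n + 3) F)
    rw [Module.finrank_fintype_fun_eq_card, Fintype.card_sum, Fintype.card_fin]
    omega
  have : Finite (TypeD.M (n + 1)).Group := TypeD.finite_W (TypeD.M (n + 1)).toCoxeterSystem
  exact good_of_MJ (rgdD_model (wplus (n + 3) F) hG (amb_plus _) (adm_plus _) (TypeD.M (n + 1)).toCoxeterSystem)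
    (G1D_eq_top (wplus (n + 3) F) (toPOmega hG) (toPOmega_surjective hG) (adm_plus _)
      (TypeD.M (n + 1)).toCoxeterSystem) (JJ (n + 3) d)
    (goodMJ_oplus hp2 hG hd hdn (TypeD.M (n + 1)).toCoxeterSystem h)

end orth

end Cfsg.Agent.H537.EP
end

-- part: H475/EP/PhiU
section
/-!
The homomorphism `GL_k(F) →* GL(V)` of a Witt frame of any `(σ, ε)`-hermitian form (S4929, task 5309): `A` on the `e_{ι i}`, the
`σ`-twisted transposed inverse on the `f_{ι i}`; the transvections go to the root elements `X (ι i, true) (ι j, false) t`.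
-/

set_option autoImplicit false
set_option linter.unusedSectionVars false

namespace Cfsg.Agent.H475.EP

open Matrix
open Cfsg.Agent.TitsThree.Siegel Cfsg.Agent.TitsThree.WittFrame Cfsg.Agent.TitsThree.WittWeyl
open Cfsg.Agent.H156.SqPhi

variable {F : Type*} [Field F] {V : Type*} [AddCommGroup V] [Module F V] {H : HForm F V} {n k : ℕ}
  (Fr : Frame H (Fin n)) {ι : Fin k → Fin n} (hι : Function.Injective ι)

/-- the `σ`-twisted transposed inverse -/
def tw (H : HForm F V) (A : GL (Fin k) F) : Matrix (Fin k) (Fin k) F := ((A⁻¹).1.map H.σ)ᵀ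

theorem tw_one : tw H (1 : GL (Fin k) F) = 1 := by
  unfold tw
  rw [inv_one, Units.val_one, Matrix.map_one _ (map_zero _) (map_one _), transpose_one]

theorem tw_mul (A B : GL (Fin k) F) : tw H (A * B) = tw H A * tw H B := by
  unfold tw
  rw [_root_.mul_inv_rev, ← transpose_mul]
  congr 1
  ext i j
  simp only [Matrix.mul_apply, map_sum, map_mul, _root_.Units.val_mul, _root_.Matrix.coe_units_inv, _root_.Matrix.map_apply]

/-- the homomorphism to the endomorphisms -/
def PhiEndU : GL (Fin k) F →* Module.End F V where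
  toFun A := LM Fr ι A.1 (tw H A)
  map_one' := by
    ext v
    rw [LM_apply, tw_one]
    simp
  map_mul' A B := by
    ext v
    rw [Module.End.mul_apply, LM_mul Fr hι, tw_mul]
    rfl

/-- the homomorphism `GL_k(F) →* GL(V)` -/
def PhiU : GL (Fin k) F →* (V ≃ₗ[F] V) :=
  (LinearMap.GeneralLinearGroup.generalLinearEquiv F V).toMonoidHom.comp (PhiEndU Fr hι).toHomUnits

theorem PhiU_apply (A : GL (Fin k) F) (v : V) :
    PhiU Fr hι A v = v + eT Fr ι ((A.1 - 1) *ᵥ cT Fr ι v) + eF Fr ι ((tw H A - 1) *ᵥ cF Fr ι v) := rfl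

/-- transvections go to root elements -/
theorem PhiU_transvection {i j : Fin k} (hij : i ≠ j) (c : F) :
    PhiU Fr hι (SpecialLinearGroup.transvection hij c : GL (Fin k) F) = Fr.X (ι i, true) (ι j, false) c := by
  have hne : ((ι i, true) : Fin n × Bool).1 ≠ ((ι j, false) : Fin n × Bool).1 := fun h => hij (hι h)
  ext v
  rw [X_apply Fr hne, PhiU_apply]
  have h1 : ((SpecialLinearGroup.transvection hij c : GL (Fin k) F)).1 - 1 = single i j c := by
    change (1 + single i j c) - 1 = _
    rw [add_sub_cancel_left]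
  have h2 : ((SpecialLinearGroup.transvection hij c : GL (Fin k) F)⁻¹).1 = 1 + single i j (-c) := by
    refine Units.inv_eq_of_mul_eq_one_right ?_
    exact (transvection_mul_transvection_same i j hij c (-c)).trans (by rw [add_neg_cancel, transvection_zero])
  have h2' : tw H (SpecialLinearGroup.transvection hij c : GL (Fin k) F) - 1 = single j i (-(H.σ c)) := by
    unfold tw
    rw [h2]
    ext a b
    simp only [transpose_apply, map_apply, Matrix.add_apply, Matrix.sub_apply, one_apply, single_apply, map_add]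
    by_cases hab : b = a
    · subst hab
      by_cases h3 : i = b ∧ j = b
      · exact absurd (h3.1.trans h3.2.symm) hij
      · simp only [h3, show ¬ (j = b ∧ i = b) from fun h => h3 ⟨h.2, h.1⟩, ↓ _root_.reduceIte, _root_.map_one, _root_.map_zero, _root_.add_zero, _root_.sub_self]
    · have hab' : ¬ a = b := fun h => hab h.symm
      by_cases h3 : i = b ∧ j = a
      · simp [h3, hab, hab']
      · simp [h3, hab, hab', show ¬ (j = a ∧ i = b) from fun h => h3 ⟨h.2, h.1⟩]
  rw [h1, h2', single_mulVec, single_mulVec]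
  have h3 : ∀ (i : Fin k) (a : F), eT Fr ι (Pi.single i a) = a • Fr.b (ι i, true) := by
    intro i a
    rw [eT, Fintype.linearCombination_apply_single]
  have h4 : ∀ (i : Fin k) (a : F), eF Fr ι (Pi.single i a) = a • Fr.b (ι i, false) := by
    intro i a
    rw [eF, Fintype.linearCombination_apply_single]
  rw [← Pi.single, ← Pi.single, h3, h4, cT_apply, cF_apply, σ_sc]
  have e1 : Fr.η (ι j, false) = 1 := rfl
  simp only [Frame.sc, e1, inv_one, mul_one]
  have h5 := H.ε_ne
  have e4 : -(H.ε⁻¹ * -(H.ε * c) * H.h v (Fr.b (ι j, false))) = c * H.h v (Fr.b (ι j, false)) := by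
    field_simp
  rw [sub_eq_add_neg, ← neg_smul, e4]
  have e5 : H.h v (Fr.b (ι i, true)) * -(H.ε⁻¹ * H.σ c) = -H.σ c * (H.ε⁻¹ * H.h v (Fr.b (ι i, true))) := by ring
  rw [e5]
  abel

theorem PhiU_bT (A : GL (Fin k) F) (i : Fin k) :
    PhiU Fr hι A (Fr.b (ι i, true)) = eT Fr ι (A.1 *ᵥ Pi.single i 1) := by
  have h3 : Fr.b (ι i, true) = eT Fr ι (Pi.single i 1) := by
    rw [eT, Fintype.linearCombination_apply_single, one_smul]
  rw [PhiU_apply]
  rw [h3, cT_eT Fr hι, cF_eT, mulVec_zero, map_zero, add_zero, sub_mulVec, one_mulVec, map_sub]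
  abel

theorem PhiU_bF (A : GL (Fin k) F) (i : Fin k) :
    PhiU Fr hι A (Fr.b (ι i, false)) = eF Fr ι (tw H A *ᵥ Pi.single i 1) := by
  have h3 : Fr.b (ι i, false) = eF Fr ι (Pi.single i 1) := by
    rw [eF, Fintype.linearCombination_apply_single, one_smul]
  rw [PhiU_apply]
  rw [h3, cF_eF Fr hι, cT_eF, mulVec_zero, map_zero, add_zero, sub_mulVec, one_mulVec, map_sub]
  abel

variable {G0 : Subgroup (V ≃ₗ[F] V)}

theorem PhiU_mem (hX : ∀ a b t, Fr.X a b t ∈ G0) (A : _root_.Matrix.SpecialLinearGroup (Fin k) F) :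
    PhiU Fr hι (SpecialLinearGroup.toGL A) ∈ G0 := by
  have h1 : (⊤ : Subgroup (_root_.Matrix.SpecialLinearGroup (Fin k) F)) ≤ G0.comap ((PhiU Fr hι).comp SpecialLinearGroup.toGL) := by
    rw [← Cfsg.Agent.LieClassical.SLGen.closure_transvections, Subgroup.closure_le]
    rintro _ ⟨i, j, hij, c, rfl⟩
    change PhiU Fr hι (SpecialLinearGroup.transvection hij c : GL (Fin k) F) ∈ G0
    rw [PhiU_transvection Fr hι]
    exact hX _ _ _
  exact h1 (Subgroup.mem_top A)

/-- the homomorphism `SL_k(F) →* G0` -/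
def phiU (hX : ∀ a b t, Fr.X a b t ∈ G0) : _root_.Matrix.SpecialLinearGroup (Fin k) F →* ↥G0 :=
  ((PhiU Fr hι).comp SpecialLinearGroup.toGL).codRestrict G0 (PhiU_mem Fr hι hX)

theorem coe_phiU (hX : ∀ a b t, Fr.X a b t ∈ G0) (A : _root_.Matrix.SpecialLinearGroup (Fin k) F) :
    ((phiU Fr hι hX A : ↥G0) : V ≃ₗ[F] V) = PhiU Fr hι (A : GL (Fin k) F) := rfl

theorem phiU_transvection (hX : ∀ a b t, Fr.X a b t ∈ G0) {i j : Fin k} (hij : i ≠ j) (c : F) :
    phiU Fr hι hX (SpecialLinearGroup.transvection hij c) = ⟨Fr.X (ι i, true) (ι j, false) c, hX _ _ _⟩ := by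
  apply Subtype.ext
  rw [coe_phiU, PhiU_transvection Fr hι]

/-- an element of `SL_k(F)` acting on `V` by preserving all lines is a scalar `c` with `c * σ c = 1` -/
theorem scalar_of_lines (hk : 2 ≤ k) (A : GL (Fin k) F) (hs : ∀ v, ∃ a : F, PhiU Fr hι A v = a • v) :
    ∃ c : F, A.1 = c • (1 : Matrix (Fin k) (Fin k) F) ∧ c * H.σ c = 1 := by
  classical
  -- the coordinates of the images
  have hT : ∀ i : Fin k, ∃ a : F, A.1 *ᵥ Pi.single i 1 = a • Pi.single i 1 := by
    intro i
    obtain ⟨a, ha⟩ := hs (Fr.b (ι i, true))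
    refine ⟨a, ?_⟩
    rw [PhiU_bT] at ha
    have h3 : Fr.b (ι i, true) = eT Fr ι (Pi.single i 1) := by
      rw [eT, Fintype.linearCombination_apply_single, one_smul]
    rw [h3] at ha
    have := congrArg (cT Fr ι) ha
    rwa [cT_eT Fr hι, map_smul, cT_eT Fr hι] at this
  have hF : ∀ i : Fin k, ∃ a : F, tw H A *ᵥ Pi.single i 1 = a • Pi.single i 1 := by
    intro i
    obtain ⟨a, ha⟩ := hs (Fr.b (ι i, false))
    refine ⟨a, ?_⟩
    rw [PhiU_bF] at ha
    have h3 : Fr.b (ι i, false) = eF Fr ι (Pi.single i 1) := by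
      rw [eF, Fintype.linearCombination_apply_single, one_smul]
    rw [h3] at ha
    have := congrArg (cF Fr ι) ha
    rwa [cF_eF Fr hι, map_smul, cF_eF Fr hι] at this
  choose a ha using hT
  choose b hb using hF
  -- `a i = b j` for all `i j`
  have hab : ∀ i j, a i = b j := by
    intro i j
    obtain ⟨c, hc⟩ := hs (Fr.b (ι i, true) + Fr.b (ι j, false))
    rw [map_add, PhiU_bT, PhiU_bF, ha, hb] at hc
    have h3 : Fr.b (ι i, true) = eT Fr ι (Pi.single i 1) := by
      rw [eT, Fintype.linearCombination_apply_single, one_smul]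
    have h4 : Fr.b (ι j, false) = eF Fr ι (Pi.single j 1) := by
      rw [eF, Fintype.linearCombination_apply_single, one_smul]
    rw [h3, h4] at hc
    have h5 := congrArg (cT Fr ι) hc
    have h6 := congrArg (cF Fr ι) hc
    simp only [map_add, map_smul, cT_eT Fr hι, cT_eF, cF_eF Fr hι, cF_eT, add_zero, zero_add] at h5 h6
    have h7 := congrFun h5 i
    have h8 := congrFun h6 j
    simp at h7 h8
    rw [h7, h8]
  obtain ⟨i0⟩ : Nonempty (Fin k) := ⟨⟨0, by omega⟩⟩
  refine ⟨b i0, ?_, ?_⟩
  · ext i j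
    have h1 := congrFun (ha j) i
    rw [mulVec_single_one] at h1
    rw [hab j i0] at h1
    simp only [Matrix.col_apply, Pi.smul_apply, smul_eq_mul] at h1
    rw [h1, Matrix.smul_apply, smul_eq_mul, one_apply, Pi.single_apply]
  · -- `A⁻¹ = a⁻¹`
    have h1 : A.1 = b i0 • (1 : Matrix (Fin k) (Fin k) F) := by
      ext i j
      have h1 := congrFun (ha j) i
      rw [mulVec_single_one] at h1
      rw [hab j i0] at h1
      simp only [Matrix.col_apply, Pi.smul_apply, smul_eq_mul] at h1
      rw [h1, Matrix.smul_apply, smul_eq_mul, one_apply, Pi.single_apply]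
    have h2 : b i0 • (A⁻¹).1 = 1 := by
      have h3 : A.1 * (A⁻¹).1 = 1 := by rw [← Units.val_mul, mul_inv_cancel, Units.val_one]
      rw [h1, smul_mul_assoc, one_mul] at h3
      exact h3
    have h3 : b i0 * (A⁻¹).1 i0 i0 = 1 := by
      have := congrFun (congrFun h2 i0) i0
      rwa [Matrix.smul_apply, smul_eq_mul, one_apply_eq] at this
    have h4 := congrFun (hb i0) i0
    rw [mulVec_single_one] at h4
    simp only [Matrix.col_apply, Pi.smul_apply, smul_eq_mul, Pi.single_eq_same, mul_one] at h4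
    have h5 : H.σ ((A⁻¹).1 i0 i0) = b i0 := h4
    have h6 : H.σ (b i0) = (A⁻¹).1 i0 i0 := by rw [← h5, H.σσ]
    rw [h6]
    exact h3

end Cfsg.Agent.H475.EP
end

-- part: H475/EP/Frame
section
/-!
`Good p r` of the Levi subgroup `M_J` of type `A_{k+1}` of a group with a Witt frame, from `Good p r SL_{k+2}(F)` (S4929, tasks
5308, 5309): any `(σ, ε)`-hermitian form, types `C` and `D`.
-/

set_option autoImplicit false
set_option linter.unusedSectionVars false

namespace Cfsg.Agent.H475.EP

open Matrix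
open CoxeterSystem Cfsg.Agent.ChevalleyStructure.CoxeterGeom Cfsg.Agent.Tits.Roots Cfsg.Agent.Tits.Core
  Cfsg.Agent.Nodes.Reps Cfsg.Agent.Nodes.BNOf Cfsg.Agent.Nodes.StabComb
  Cfsg.Agent.Nodes.RGDLib
open Cfsg.Agent.Nodes
open Cfsg.Agent.TitsThree Cfsg.Agent.TitsThree.Siegel Cfsg.Agent.TitsThree.WittFrame Cfsg.Agent.TitsThree.WittWeyl
  Cfsg.Agent.TitsThree.LineBorel
open Cfsg.Agent.Nodes.WittRoot (XG)
open Cfsg.Agent.H892.EP
open Cfsg.Agent.H53.HC (MJ)

variable {F : Type} [Field F] [Fintype F] {V : Type*} [AddCommGroup V] [Module F V] {H : HForm F V} {N k : ℕ}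
  {Fr : Frame H (Fin N)} {K : Type*} [Group K] [Finite K]

/-- the map `SL_{k+2}(F) → K` has a kernel of order prime to `p` -/
theorem ker_phi {I : Subgroup (V ≃ₗ[F] V)} (φ : ↥I →* K) (hX : ∀ a b t, Fr.X a b t ∈ I)
    (hker : ∀ (v : V) (g : ↥I), φ g = 1 → g.1 ∈ lineStab (F := F) v)
    {ι : Fin (k + 2) → Fin N} (hι : Function.Injective ι) {p : ℕ} [Fact p.Prime]
    (hc : ∀ c : F, c * H.σ c = 1 → c ^ p = 1 → c = 1) {A : _root_.Matrix.SpecialLinearGroup (Fin (k + 2)) F}
    (h1 : φ (phiU Fr hι hX A) = 1) (hp : A ^ p = 1) : A = 1 := by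
  obtain ⟨c, hcA, hcs⟩ := scalar_of_lines Fr hι (by omega) (A : GL (Fin (k + 2)) F) (fun v => by
    have := hker v _ h1
    exact this)
  have hA : A.1 = c • (1 : Matrix (Fin (k + 2)) (Fin (k + 2)) F) := hcA
  have h2 : c ^ p = 1 := by
    have h3 : (A ^ p).1 = A.1 ^ p := Matrix.SpecialLinearGroup.coe_pow A p
    rw [hp, hA, smul_pow, one_pow] at h3
    have h4 := congrFun (congrFun h3 0) 0
    rw [Matrix.smul_apply, one_apply_eq, smul_eq_mul, mul_one] at h4
    have h5 : (1 : Matrix.SpecialLinearGroup (Fin (k + 2)) F).1 0 0 = 1 := by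
      change (1 : Matrix (Fin (k + 2)) (Fin (k + 2)) F) 0 0 = 1
      rw [one_apply_eq]
    exact h4.symm.trans h5
  have h3 := hc c hcs h2
  apply Subtype.ext
  rw [hA, h3, one_smul]
  rfl

variable {W : Type*} [Group W] {Mx : CoxeterMatrix (Fin N)} {cs : CoxeterSystem Mx W} {A : Fin N → Fin N → ℤ}
  {h : IsCartan Mx A} {rg : (Fin N → ℤ) → Subgroup (V ≃ₗ[F] V)}

/-- **The Levi subgroup of type `A`.** -/
theorem good_MJ {I : Subgroup (V ≃ₗ[F] V)} (φ : ↥I →* K) (hX : ∀ a b t, Fr.X a b t ∈ I)
    (hker : ∀ (v : V) (g : ↥I), φ g = 1 → g.1 ∈ lineStab (F := F) v)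
    {ι : Fin (k + 2) → Fin N} (hι : Function.Injective ι) {J : Set (Fin N)}
    (hJ1 : ∀ i j : Fin (k + 2), i ≠ j → ∃ r ∈ RootsJ cs h J, rg r = XG Fr (ι i, true) (ι j, false))
    (hJ2 : ∀ r ∈ PosJ cs h J, ∃ i j : Fin (k + 2), i < j ∧ rg r = XG Fr (ι i, true) (ι j, false) ∧
      rg (-r) = XG Fr (ι j, true) (ι i, false)) {p r : ℕ} [Fact p.Prime] [Fact r.Prime]
    (hc : ∀ c : F, c * H.σ c = 1 → c ^ p = 1 → c = 1)
    (hg : _root_.Cfsg.Agent.H892.EP.Good p r (_root_.Matrix.SpecialLinearGroup (Fin (k + 2)) F)) :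
    _root_.Cfsg.Agent.H892.EP.Good p r ↥(MJ cs h (fun x => ((rg x).subgroupOf I).map φ) J) := by
  classical
  have hmem : ∀ A : _root_.Matrix.SpecialLinearGroup (Fin (k + 2)) F,
      φ (phiU Fr hι hX A) ∈ MJ cs h (fun x => ((rg x).subgroupOf I).map φ) J := by
    intro A
    have h1 : (⊤ : Subgroup (_root_.Matrix.SpecialLinearGroup (Fin (k + 2)) F)) ≤
        (MJ cs h (fun x => ((rg x).subgroupOf I).map φ) J).comap (φ.comp (phiU Fr hι hX)) := by
      rw [← Cfsg.Agent.LieClassical.SLGen.closure_transvections, Subgroup.closure_le]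
      rintro _ ⟨i, j, hij, c, rfl⟩
      obtain ⟨s, hs, e⟩ := hJ1 i j hij
      refine RGD.le_Sup (X := fun x => ((rg x).subgroupOf I).map φ) hs ?_
      refine ⟨⟨Fr.X (ι i, true) (ι j, false) c, hX _ _ _⟩, ?_, ?_⟩
      · rw [SetLike.mem_coe, Subgroup.mem_subgroupOf, e]
        exact ⟨c, rfl⟩
      · rw [MonoidHom.comp_apply, phiU_transvection]
    exact h1 (Subgroup.mem_top A)
  let f : _root_.Matrix.SpecialLinearGroup (Fin (k + 2)) F →* ↥(MJ cs h (fun x => ((rg x).subgroupOf I).map φ) J) :=
    (φ.comp (phiU Fr hι hX)).codRestrict _ hmem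
  have hrange : MJ cs h (fun x => ((rg x).subgroupOf I).map φ) J ≤ (φ.comp (phiU Fr hι hX)).range := by
    refine RGD.Sup_le fun s hs => ?_
    have key : ∀ i j : Fin (k + 2), i ≠ j → ∀ s, rg s = XG Fr (ι i, true) (ι j, false) →
        ((rg s).subgroupOf I).map φ ≤ (φ.comp (phiU Fr hι hX)).range := by
      rintro i j hij s e _ ⟨y, hy, rfl⟩
      rw [SetLike.mem_coe, Subgroup.mem_subgroupOf, e] at hy
      obtain ⟨t, ht⟩ := hy
      refine ⟨SpecialLinearGroup.transvection hij t, ?_⟩
      rw [MonoidHom.comp_apply, phiU_transvection]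
      congr 1
      exact Subtype.ext ht.symm
    rcases hs.1.pos_or_neg with h0 | h0
    · obtain ⟨i, j, hij, e, -⟩ := hJ2 s ⟨hs.1, h0, hs.2⟩
      exact key i j hij.ne s e
    · have h1 : -s ∈ PosJ cs h J := ⟨hs.1.neg, by simpa only [_root_.Left.nonneg_neg_iff] using h0, fun l hl => by
        rw [Pi.neg_apply, hs.2 l hl, neg_zero]⟩
      obtain ⟨i, j, hij, -, e⟩ := hJ2 (-s) h1
      rw [_root_.neg_neg] at e
      exact key j i hij.ne' s e
  have hf : Function.Surjective f := by
    rintro ⟨y, hy⟩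
    obtain ⟨x, hx⟩ := hrange hy
    exact ⟨x, Subtype.ext hx⟩
  refine Good.quot f hf (fun hd => ?_) hg
  obtain ⟨x, hx⟩ := exists_prime_orderOf_dvd_card' p hd
  have h1 : φ (phiU Fr hι hX x.1) = 1 := congrArg Subtype.val ((MonoidHom.mem_ker).1 x.2)
  have h2 : (x.1 : _root_.Matrix.SpecialLinearGroup (Fin (k + 2)) F) ^ p = 1 := by
    rw [← hx, ← Subgroup.coe_pow, pow_orderOf_eq_one]; rfl
  have h3 := ker_phi φ hX hker hι hc h1 h2
  have h4 : x = 1 := Subtype.ext h3
  rw [h4, orderOf_one] at hx
  exact (Fact.out : p.Prime).one_lt.ne hx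

end Cfsg.Agent.H475.EP
end

-- part: H475/EP/Psu
section
/-!
S4929, task 5309: `Good p r (PSU_n(q))` from `Good p r (SL_d(q^2))`, `2 d ≤ n`.
-/

set_option autoImplicit false
set_option linter.unusedSectionVars false

namespace Cfsg.Agent.H475.EP

open Matrix
open CoxeterSystem Cfsg.Agent.ChevalleyStructure.CoxeterGeom Cfsg.Agent.Tits.Roots Cfsg.Agent.Tits.Core
  Cfsg.Agent.Nodes.Reps Cfsg.Agent.Nodes.BNOf Cfsg.Agent.Nodes.StabComb
  Cfsg.Agent.Nodes.RGDLib
open Cfsg.Agent.Nodes Cfsg.Agent.Nodes.TypeC Cfsg.Agent.Nodes.WittAll Cfsg.Agent.Nodes.WittU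
open Cfsg.Agent.TitsThree Cfsg.Agent.TitsThree.Siegel Cfsg.Agent.TitsThree.WittFrame Cfsg.Agent.TitsThree.WittWeyl
  Cfsg.Agent.TitsThree.LineBorel Cfsg.Agent.TitsThree.FrameCN Cfsg.Agent.TitsThree.WBridge
  Cfsg.Agent.TitsThree.KSideU Cfsg.Agent.TitsThree.KSideUDesc Cfsg.Agent.TitsThree.SiegelGen
open Cfsg.Agent.H892.EP
open Cfsg.Agent.H53.HC (MJ)
open Cfsg.Agent.H537.EP (good_of_MJ)

/-- the Levi subgroup `M_J` of a model of type `C` -/
theorem good_MJ_C {F : Type} [Field F] [Fintype F] {V : Type*} [AddCommGroup V] [Module F V] {H : HForm F V} {n k : ℕ}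
    {Fr : Frame H (Fin n)} {K : Type*} [Group K] [Finite K] (M : Model Fr K) {W : Type*} [Group W]
    (cs : CoxeterSystem (CoxeterMatrix.B n) W) (hk : k + 2 ≤ n) {p r : ℕ} [Fact p.Prime] [Fact r.Prime]
    (hc : ∀ c : F, c * H.σ c = 1 → c ^ p = 1 → c = 1)
    (hg : _root_.Cfsg.Agent.H892.EP.Good p r (_root_.Matrix.SpecialLinearGroup (Fin (k + 2)) F)) :
    _root_.Cfsg.Agent.H892.EP.Good p r ↥(MJ cs (isCartan n) (WittModel.X M) (H156.SqBlk.JJ n (k + 2))) :=
  good_MJ (h := isCartan n) (rg := WittRoot.rg Fr) M.φ M.hX M.ker (Fin.castLE_injective hk)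
    (fun i j hij => H156.SqBlk.hJ1C hk i j hij) (fun r hr => H156.SqBlk.hJ2C hk hr) hc hg

theorem eq_one_of_pow_pow {F : Type} [Field F] [Fintype F] {p : ℕ} [Fact p.Prime] (hp : ¬ p ∣ Fintype.card F - 1) {c : F}
    (h0 : c ≠ 0) (h : c ^ p = 1) : c = 1 := by
  have h1 : c ^ (Fintype.card F - 1) = 1 := FiniteField.pow_card_sub_one_eq_one c h0
  have h2 : Nat.Coprime p (Fintype.card F - 1) := (Nat.Prime.coprime_iff_not_dvd Fact.out).2 hp
  have h3 : orderOf c ∣ Nat.gcd p (Fintype.card F - 1) :=
    Nat.dvd_gcd (orderOf_dvd_of_pow_eq_one h) (orderOf_dvd_of_pow_eq_one h1)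
  rw [h2.gcd_eq_one, Nat.dvd_one] at h3
  exact orderOf_eq_one_iff.1 h3

section Unitary

variable {F : Type} [Field F] [Fintype F] {r : ℕ} [Fact r.Prime] [CharP F r] {p : ℕ} [Fact p.Prime]

/-- [TA-PSU] -/
theorem good_psu {n q d : ℕ} (hq : Fintype.card F = q ^ 2) (hn : 4 ≤ n) (hd : 2 ≤ d) (hdn : 2 * d ≤ n)
    (hp : ¬ p ∣ q ^ 2 - 1) (h : _root_.Cfsg.Agent.H892.EP.Good p r (_root_.Matrix.SpecialLinearGroup (Fin d) F)) : _root_.Cfsg.Agent.H892.EP.Good p r (PSU n F q) := by
  obtain ⟨k, rfl⟩ : ∃ k, d = k + 2 := ⟨d - 2, by omega⟩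
  obtain ⟨m, hm⟩ : ∃ m, n = 2 * m ∨ n = 2 * m + 1 := ⟨n / 2, by omega⟩
  have hp' : ¬ p ∣ Fintype.card F - 1 := by rw [hq]; exact hp
  have key : ∀ (W : WFrame (PU hq n) m), _root_.Cfsg.Agent.H892.EP.Good p r (PSU n F q) := by
    intro W
    obtain ⟨p0, hp0, -⟩ := exists_adm hq W
    have : Finite (CoxeterMatrix.B m).Group := TypeC.finite_W (CoxeterMatrix.B m).toCoxeterSystem
    refine good_of_MJ (rgdC_model (KInstU.model hq (by omega) W) (AmbT.of_amb (amb_U hq W) r) hp0
      (CoxeterMatrix.B m).toCoxeterSystem) (WittModel.G1_eq_top _ (by omega) _)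
      (H156.SqBlk.JJ m (k + 2)) (good_MJ_C _ _ (by omega) (fun c hc h1 => ?_) h)
    exact eq_one_of_pow_pow hp' (left_ne_zero_of_mul_eq_one hc) h1
  rcases hm with hm | hm
  · obtain ⟨W, -⟩ := exists_wframe_even (N := n) hq hm
    exact key W
  · obtain ⟨W, -⟩ := exists_wframe_odd (N := n) hq hm
    exact key W

end Unitary

end Cfsg.Agent.H475.EP
end
end

-- part: H65/EP/PuPsp
section
prune_inst 0x7550775413e2020000000596f1207e57df0005b201288801d8a20b460782ff624d8229618ca03c1e1a2aa20d20310048114404e0426000000e000400013d07a988884600a348010c04001f800084010000000000000000000000000000051004004410002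
set_option linter.all false
open scoped Cfsg.Agent.FastGrp

/-!
# `ParU r (PSp m F)`: `χ(1) ≡ dim χ^U mod 2`, if `m` is even or `q ≡ 1 mod 4` (helper65, task 5305, S4929)
-/

set_option autoImplicit false
set_option linter.unusedSectionVars false

open Matrix Cfsg Cfsg.Agent.Characters.Core Cfsg.Agent.H892.EP

namespace Cfsg.Agent.H65.EP

universe u v

section gen

variable {G : Type u} {H : Type v} [Group G] [Group H] [Finite G] [Finite H]

/-- from a group to a quotient -/
theorem parU_of_surj {r : ℕ} [Fact r.Prime] (f : G →* H) (hf : Function.Surjective f) (P : Sylow r G)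
    (hP : ∀ u ∈ (P : Subgroup G), f u = 1 → u = 1)
    (h : ∀ χ : G → ℂ, IsCharacter G χ → ∃ z : ℤ, md (P : Subgroup G) χ - χ 1 = 2 * z) : ParU r H := by
  intro χ V
  let U : Sylow r H := P.mapSurjective hf
  have hU : (U : Subgroup H) = (P : Subgroup G).map f := P.coe_mapSurjective hf
  obtain ⟨g, rfl⟩ := MulAction.exists_smul_eq H U V
  have hcl := isCharacter_isClassFunction (isIrr_isCharacter χ.2)
  have h1 : md ((g • U : Sylow r H) : Subgroup H) (χ : H → ℂ) = md (U : Subgroup H) (χ : H → ℂ) := by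
    have := Fintype.ofFinite (U : Subgroup H)
    have := Fintype.ofFinite ((g • U : Sylow r H) : Subgroup H)
    rw [md_eq, md_eq, Nat.card_congr (U.equivSMul g).symm.toEquiv]
    congr 1
    refine (Fintype.sum_equiv (U.equivSMul g).toEquiv _ _ fun x => ?_).symm
    have h2 : (((U.equivSMul g) x : ((g • U : Sylow r H) : Subgroup H)) : H) = g * x * g⁻¹ := rfl
    show (χ : H → ℂ) x = (χ : H → ℂ) ((U.equivSMul g) x : ((g • U : Sylow r H) : Subgroup H))
    rw [h2]
    exact (hcl x g).symm
  have h3 : md (U : Subgroup H) (χ : H → ℂ) = md (P : Subgroup G) (fun x => (χ : H → ℂ) (f x)) := by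
    have := Fintype.ofFinite (U : Subgroup H)
    have := Fintype.ofFinite (P : Subgroup G)
    let e : ↥(P : Subgroup G) → ↥(U : Subgroup H) := fun x => ⟨f x, by rw [hU]; exact ⟨x, x.2, rfl⟩⟩
    have he : Function.Bijective e := by
      constructor
      · intro x y hxy
        have h4 : f x = f y := congrArg Subtype.val hxy
        have h5 : (x : G)⁻¹ * y = 1 := hP _ (mul_mem (inv_mem x.2) y.2) (by rw [map_mul, map_inv, h4, inv_mul_cancel])
        exact Subtype.ext (inv_mul_eq_one.1 h5)
      · rintro ⟨y, hy⟩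
        rw [hU] at hy
        obtain ⟨x, hx, rfl⟩ := hy
        exact ⟨⟨x, hx⟩, rfl⟩
    rw [md_eq, md_eq, Nat.card_congr (Equiv.ofBijective e he)]
    congr 1
    exact (Fintype.sum_equiv (Equiv.ofBijective e he) _ _ fun x => rfl).symm
  rw [h1, h3]
  obtain ⟨z, hz⟩ := h _ (isCharacter_comp f (isIrr_isCharacter χ.2))
  refine ⟨z, ?_⟩
  rw [← hz, Function.comp_apply, map_one]
  rfl

theorem mem_normalizer {a : G} {Q : Subgroup G} (h : ∀ x ∈ Q, a * x * a⁻¹ ∈ Q) :
    a ∈ Subgroup.normalizer (Q : Set G) := by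
  have h1 : ∀ n : ℕ, ∀ x ∈ Q, a ^ n * x * (a ^ n)⁻¹ ∈ Q := by
    intro n
    induction n with
    | zero => intro x hx; simpa using hx
    | succ n ih =>
      intro x hx
      have e : a ^ (n + 1) * x * (a ^ (n + 1))⁻¹ = a ^ n * (a * x * a⁻¹) * (a ^ n)⁻¹ := by
        rw [pow_succ]; group
      rw [e]
      exact ih _ (h x hx)
  rw [Subgroup.mem_normalizer_iff]
  refine fun x => ⟨h x, fun hx => ?_⟩
  have h2 := h1 (orderOf a - 1) _ hx
  have e : a ^ (orderOf a - 1) = a⁻¹ := by
    rw [← mul_eq_one_iff_eq_inv, ← pow_succ, Nat.sub_add_cancel (orderOf_pos a), pow_orderOf_eq_one]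
  rw [e] at h2
  have e2 : a⁻¹ * (a * x * a⁻¹) * a⁻¹⁻¹ = x := by group
  rwa [e2] at h2

theorem le_normalizer {A Q : Subgroup G} (h : ∀ a ∈ A, ∀ x ∈ Q, a * x * a⁻¹ ∈ Q) :
    A ≤ Subgroup.normalizer (Q : Set G) := by
  intro a ha
  rw [Subgroup.mem_normalizer_iff]
  refine fun x => ⟨h a ha x, fun hx => ?_⟩
  have := h a⁻¹ (inv_mem ha) _ hx
  have e : a⁻¹ * (a * x * a⁻¹) * a⁻¹⁻¹ = x := by group
  rwa [e] at this

theorem odd_of_isPGroup {r : ℕ} [Fact r.Prime] (hr : r ≠ 2) {Q : Subgroup G} (hQ : IsPGroup r Q) :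
    Odd (Nat.card Q) := by
  obtain ⟨k, hk⟩ := IsPGroup.iff_card.1 hQ
  rw [hk]
  exact ((Fact.out : r.Prime).odd_of_ne_two hr).pow

end gen

namespace PSp

variable {F : Type} [Field F] [Fintype F] {m : ℕ} {r : ℕ} [Fact r.Prime] [CharP F r]

theorem two_ne (hr : r ≠ 2) : (2 : F) ≠ 0 := by
  intro h
  have : ((2 : ℕ) : F) = 0 := by exact_mod_cast h
  rw [CharP.cast_eq_zero_iff F r] at this
  exact hr ((Nat.prime_dvd_prime_iff_eq Fact.out Nat.prime_two).1 this)

/-- the element `diag(ε, ε)` -/
def tt (ε : Fin m → F) (hε : ∀ i, ε i * ε i = 1) : Sp m F := ⟨fromBlocks (diagonal ε) 0 0 (diagonal ε), by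
  rw [SymplecticGroup.fromBlocks_mem_iff]
  simp [Matrix.diagonal_mul_diagonal, hε]⟩

theorem tt_mem (ε : Fin m → F) (hε : ∀ i, ε i * ε i = 1) : tt ε hε ∈ TT m F := ⟨ε, hε, rfl⟩

theorem mul_self_of_mem_TT {t : Sp m F} (ht : t ∈ TT m F) : t⁻¹ = t := by
  obtain ⟨ε, hε, hg⟩ := ht
  rw [inv_eq_iff_mul_eq_one]
  apply Subtype.ext
  show t.1 * t.1 = 1
  rw [hg, Matrix.fromBlocks_multiply, Matrix.diagonal_mul_diagonal]
  simp [hε]

theorem conj_TT {t g : Sp m F} {ε : Fin m → F} (hε : ∀ i, ε i * ε i = 1)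
    (ht : t.1 = fromBlocks (diagonal ε) 0 0 (diagonal ε)) {A B C D : Matrix (Fin m) (Fin m) F}
    (hg : g.1 = fromBlocks A B C D) : (t * g * t⁻¹).1 =
      fromBlocks (diagonal ε * A * diagonal ε) (diagonal ε * B * diagonal ε) (diagonal ε * C * diagonal ε)
        (diagonal ε * D * diagonal ε) := by
  rw [mul_self_of_mem_TT ⟨ε, hε, ht⟩]
  show t.1 * g.1 * t.1 = _
  rw [hg, ht, Matrix.fromBlocks_multiply, Matrix.fromBlocks_multiply]
  simp

theorem dd_apply (ε : Fin m → F) (A : Matrix (Fin m) (Fin m) F) (i j : Fin m) :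
    (diagonal ε * A * diagonal ε) i j = ε i * A i j * ε j := by
  rw [Matrix.mul_diagonal, Matrix.diagonal_mul]

theorem dd_one {ε : Fin m → F} (hε : ∀ i, ε i * ε i = 1) :
    diagonal ε * (1 : Matrix (Fin m) (Fin m) F) * diagonal ε = 1 := by
  rw [Matrix.mul_one, Matrix.diagonal_mul_diagonal]
  simp [hε]

theorem TT_le_UU : TT m F ≤ Subgroup.normalizer (UU m F : Set (Sp m F)) := by
  refine le_normalizer ?_
  rintro t ⟨ε, hε, ht⟩ g ⟨A, B, D, hg, hA⟩
  refine ⟨_, _, _, by rw [conj_TT hε ht hg, Matrix.mul_zero, Matrix.zero_mul], ?_, ?_⟩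
  · intro i
    rw [dd_apply, hA.1, mul_one, hε]
  · intro i j h
    rw [dd_apply, hA.2 i j h, mul_zero, zero_mul]

theorem TT_le_QQ : TT m F ≤ Subgroup.normalizer (QQ m F : Set (Sp m F)) := by
  refine le_normalizer ?_
  rintro t ⟨ε, hε, ht⟩ g ⟨B, hg⟩
  exact ⟨_, by rw [conj_TT hε ht hg, Matrix.mul_zero, Matrix.zero_mul, dd_one hε]⟩

theorem eq_of_dd (h2 : (2 : F) ≠ 0) {A : Matrix (Fin m) (Fin m) F}
    (h : ∀ ε : Fin m → F, (∀ i, ε i * ε i = 1) → diagonal ε * A * diagonal ε = A) {i j : Fin m} (hij : i ≠ j) :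
    A i j = 0 := by
  have h1 := h (Function.update 1 i (-1)) (fun k => by
    by_cases hk : k = i
    · subst hk; simp
    · simp [Function.update_of_ne hk])
  have h3 := congrFun (congrFun h1 i) j
  rw [dd_apply, Function.update_self, Function.update_of_ne hij.symm, Pi.one_apply, mul_one, neg_mul,
    one_mul] at h3
  have h4 : (2 : F) * A i j = 0 := by linear_combination -h3
  exact (mul_eq_zero.1 h4).resolve_left h2

theorem comm_iff_conj {G : Type*} [Group G] {a x : G} : a * x = x * a ↔ a * x * a⁻¹ = x :=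
  (mul_inv_eq_iff_eq_mul).symm

theorem mem_CC_UU (h2 : (2 : F) ≠ 0) (x : Sp m F) :
    x ∈ CC m F ↔ x ∈ UU m F ∧ ∀ a ∈ TT m F, a * x = x * a := by
  constructor
  · rintro ⟨B, hx, hB⟩
    refine ⟨⟨1, B, 1, hx, isUT_one⟩, ?_⟩
    rintro t ⟨ε, hε, ht⟩
    rw [comm_iff_conj]
    apply Subtype.ext
    rw [conj_TT hε ht hx, dd_one hε, Matrix.mul_zero, Matrix.zero_mul, hx]
    congr 1
    ext i j
    rw [dd_apply]
    by_cases hij : i = j
    · subst hij
      rw [mul_right_comm, hε, one_mul]
    · rw [hB i j hij, mul_zero, zero_mul]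
  · rintro ⟨⟨A, B, D, hx, hA⟩, hc⟩
    have key : ∀ ε : Fin m → F, (∀ i, ε i * ε i = 1) → diagonal ε * A * diagonal ε = A ∧
        diagonal ε * B * diagonal ε = B := by
      intro ε hε
      have h1 := hc _ (tt_mem ε hε)
      rw [comm_iff_conj] at h1
      have h3 := congrArg Subtype.val h1
      rw [conj_TT hε rfl hx, hx] at h3
      obtain ⟨e1, e2, -, -⟩ := Matrix.fromBlocks_inj.1 h3
      exact ⟨e1, e2⟩
    have hA1 : A = 1 := by
      ext i j
      by_cases hij : i = j
      · subst hij
        rw [hA.1, Matrix.one_apply_eq]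
      · rw [eq_of_dd h2 (fun ε hε => (key ε hε).1) hij, Matrix.one_apply_ne hij]
    have hD := rel hx
    rw [hA1, Matrix.transpose_one, Matrix.one_mul] at hD
    exact ⟨B, by rw [hx, hA1, hD], fun i j hij => eq_of_dd h2 (fun ε hε => (key ε hε).2) hij⟩

theorem QQ_le_UU : QQ m F ≤ UU m F := by
  rintro g ⟨B, hg⟩
  exact ⟨1, B, 1, hg, isUT_one⟩

theorem CC_le_QQ : CC m F ≤ QQ m F := by
  rintro g ⟨B, hg, -⟩
  exact ⟨B, hg⟩

theorem mem_CC_QQ (h2 : (2 : F) ≠ 0) (x : Sp m F) :
    x ∈ CC m F ↔ x ∈ QQ m F ∧ ∀ a ∈ TT m F, a * x = x * a := by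
  constructor
  · exact fun h => ⟨CC_le_QQ h, ((mem_CC_UU h2 x).1 h).2⟩
  · exact fun h => (mem_CC_UU h2 x).2 ⟨QQ_le_UU h.1, h.2⟩

/-- the element `a` of the Levi complement -/
theorem exists_a (hr : r ≠ 2) (hm : 0 < m) (hmq : Even m ∨ Fintype.card F % 4 = 1) :
    ∃ a : Sp m F, (∃ N, a ^ 2 ^ N = 1) ∧ (∀ x ∈ QQ m F, a * x * a⁻¹ ∈ QQ m F) ∧
      ∀ x ∈ QQ m F, a * x = x * a → x = 1 := by
  obtain ⟨X, N, hN, hX⟩ := exists_X hr hm hmq
  have hu : IsUnit X := IsUnit.of_pow_eq_one hN (by positivity)
  have hdet := (Matrix.isUnit_iff_isUnit_det X).1 hu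
  have hY : Xᵀ * (X⁻¹)ᵀ = 1 := by
    rw [← Matrix.transpose_mul, Matrix.nonsing_inv_mul _ hdet, Matrix.transpose_one]
  have hY' : (X⁻¹)ᵀ * Xᵀ = 1 := by
    rw [← Matrix.transpose_mul, Matrix.mul_nonsing_inv _ hdet, Matrix.transpose_one]
  have key : ∀ (x : Sp m F) (B : Matrix (Fin m) (Fin m) F), x.1 = fromBlocks 1 B 0 1 →
      (lev X (X⁻¹)ᵀ hY * x).1 = fromBlocks X (X * B) 0 (X⁻¹)ᵀ := by
    intro x B hx
    show fromBlocks X 0 0 (X⁻¹)ᵀ * x.1 = _
    rw [hx, Matrix.fromBlocks_multiply]
    simp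
  have key2 : ∀ (x : Sp m F) (B : Matrix (Fin m) (Fin m) F), x.1 = fromBlocks 1 B 0 1 →
      (x * lev X (X⁻¹)ᵀ hY).1 = fromBlocks X (B * (X⁻¹)ᵀ) 0 (X⁻¹)ᵀ := by
    intro x B hx
    show x.1 * fromBlocks X 0 0 (X⁻¹)ᵀ = _
    rw [hx, Matrix.fromBlocks_multiply]
    simp
  refine ⟨lev X (X⁻¹)ᵀ hY, ⟨N, ?_⟩, ?_, ?_⟩
  · have e : ∀ n : ℕ, (lev X (X⁻¹)ᵀ hY ^ n).1 = fromBlocks (X ^ n) 0 0 (((X⁻¹)ᵀ) ^ n) := by
      intro n
      induction n with
      | zero => rw [pow_zero, pow_zero, pow_zero]; exact (Matrix.fromBlocks_one).symm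
      | succ n ih =>
        rw [pow_succ, pow_succ, pow_succ]
        show (lev X (X⁻¹)ᵀ hY ^ n).1 * fromBlocks X 0 0 (X⁻¹)ᵀ = _
        rw [ih, Matrix.fromBlocks_multiply]
        simp
    apply Subtype.ext
    rw [e, hN, ← Matrix.transpose_pow, Matrix.inv_pow', hN]
    simp
  · rintro x ⟨B, hx⟩
    have hs : Bᵀ = B := by
      have h1 := x.2
      rw [hx, SymplecticGroup.fromBlocks_mem_iff] at h1
      simpa using h1.2.1
    have hs2 : (X * B * Xᵀ)ᵀ = X * B * Xᵀ := by
      rw [Matrix.transpose_mul, Matrix.transpose_mul, Matrix.transpose_transpose, hs, Matrix.mul_assoc]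
    have : lev X (X⁻¹)ᵀ hY * x * (lev X (X⁻¹)ᵀ hY)⁻¹ = nn (X * B * Xᵀ) hs2 := by
      rw [mul_inv_eq_iff_eq_mul]
      apply Subtype.ext
      rw [key x B hx, key2 _ _ rfl, Matrix.mul_assoc (X * B), hY, Matrix.mul_one]
    rw [this]
    exact ⟨_, rfl⟩
  · rintro x ⟨B, hx⟩ hc
    have h1 := congrArg Subtype.val hc
    rw [key x B hx, key2 x B hx] at h1
    obtain ⟨-, h3, -, -⟩ := Matrix.fromBlocks_inj.1 h1
    have h4 : X * B * Xᵀ = B := by
      rw [h3, Matrix.mul_assoc, hY', Matrix.mul_one]
    apply Subtype.ext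
    rw [hx, hX B h4]
    exact Matrix.fromBlocks_one

theorem main (hr : r ≠ 2) (hm : 0 < m) (hmq : Even m ∨ Fintype.card F % 4 = 1) {χ : Sp m F → ℂ}
    (hχ : IsCharacter (Sp m F) χ) : ∃ z : ℤ, md (UU m F) χ - χ 1 = 2 * z := by
  have h2 : (2 : F) ≠ 0 := two_ne (r := r) hr
  obtain ⟨a, ⟨N, hN⟩, ha1, ha2⟩ := exists_a (F := F) hr hm hmq
  obtain ⟨z1, h1⟩ := parity (TT m F) isPGroup_TT hχ _ (UU m F) (CC m F) rfl
    (odd_of_isPGroup hr (isPGroup_UU (r := r))) TT_le_UU (mem_CC_UU h2)
  obtain ⟨z2, h3⟩ := parity (TT m F) isPGroup_TT hχ _ (QQ m F) (CC m F) rfl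
    (odd_of_isPGroup hr (isPGroup_QQ (r := r))) TT_le_QQ (mem_CC_QQ h2)
  have hA : IsPGroup 2 (Subgroup.zpowers a) := by
    rintro ⟨_, k, rfl⟩
    refine ⟨N, Subtype.ext ?_⟩
    show (a ^ k) ^ 2 ^ N = 1
    rw [← zpow_natCast, ← _root_.zpow_mul, mul_comm, _root_.zpow_mul, zpow_natCast, hN, _root_.one_zpow]
  obtain ⟨z3, h4⟩ := parity_one (QQ m F) (Subgroup.zpowers a) (odd_of_isPGroup hr (isPGroup_QQ (r := r))) hA
    (by rw [Subgroup.zpowers_le]; exact mem_normalizer ha1)
    (fun u hu h => ha2 u hu (h a (Subgroup.mem_zpowers a))) hχ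
  refine ⟨z1 - z2 + z3, ?_⟩
  push_cast
  linear_combination h1 - h3 + h4

end PSp

variable {F : Type} [Field F] [Fintype F] {r : ℕ} [Fact r.Prime] [CharP F r]

theorem pu_psp (hr : r ≠ 2) {m : ℕ} (hm : 2 ≤ m) (hmq : Even m ∨ Fintype.card F % 4 = 1) : ParU r (PSp m F) := by
  obtain ⟨P, hP⟩ := PSp.exists_sylow (m := m) (F := F) (r := r)
  refine parU_of_surj (QuotientGroup.mk' (Subgroup.center (Matrix.symplecticGroup (Fin m) F)))
    (QuotientGroup.mk'_surjective _) P ?_ ?_
  · intro u hu h1
    rw [hP] at hu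
    have hc : u ∈ Subgroup.center (Matrix.symplecticGroup (Fin m) F) := (QuotientGroup.eq_one_iff u).1 h1
    obtain ⟨a, -, -, ha⟩ := PSp.exists_a (F := F) (m := m) hr (by omega) hmq
    have h2 : (2 : F) ≠ 0 := PSp.two_ne (r := r) hr
    have h3 : u ∈ PSp.CC m F := (PSp.mem_CC_UU h2 u).2 ⟨hu, fun a _ => Subgroup.mem_center_iff.1 hc a⟩
    exact ha u (PSp.CC_le_QQ h3) (Subgroup.mem_center_iff.1 hc a)
  · intro χ hχ
    rw [hP]
    exact PSp.main hr (by omega) hmq hχ

end Cfsg.Agent.H65.EP
end

-- part: H298/EP/VPar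
section
prune_inst 0x5150775417e2020000000596f1205e77ff0005b201288800f8a60b460fc2ff62cdc2a961bca03c1e1aeeaa9d60390008115404e0426000000e000400013d07a988884600a308010c04001f800084010000000000000000000000000000051004004410002
set_option linter.all false
open scoped Cfsg.Agent.FastGrp

/-!
# `χ(1) ≡ dim χ^V mod 2` for `Sp_{2m}(q)`, `m` odd, `V` the product of the positive root groups other than `X_{2 e_m}`
(helper298, task 5324, S4929)
-/

set_option autoImplicit false
set_option linter.unusedSectionVars false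

open Matrix Cfsg Cfsg.Agent.Characters.Core Cfsg.Agent.H892.EP
open Cfsg.Agent.H65.EP Cfsg.Agent.H65.EP.PSp

namespace Cfsg.Agent.H298.EP

section mat

variable {F : Type} [Field F] {m : ℕ}

theorem isUT_right {A D : Matrix (Fin m) (Fin m) F} (hA : IsUT A) (h : A * D = 1) : IsUT D := by
  have hD : D = A⁻¹ := (Matrix.inv_eq_right_inv h).symm
  have : Invertible A := A.invertibleOfIsUnitDet (by rw [hA.det]; exact isUnit_one)
  have hbt : D.BlockTriangular id := by
    rw [hD]
    exact Matrix.blockTriangular_inv_of_blockTriangular hA.bt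
  have h0 : ∀ i j, j < i → D i j = 0 := fun i j hij => hbt hij
  refine ⟨fun i => ?_, h0⟩
  have h1 := congrFun (congrFun h i) i
  rw [Matrix.mul_apply, Finset.sum_eq_single i, hA.1, one_mul, Matrix.one_apply_eq] at h1
  · exact h1
  · intro j _ hj
    rcases lt_or_gt_of_ne hj with hlt | hgt
    · rw [hA.2 i j hlt, zero_mul]
    · rw [h0 j i hgt, mul_zero]
  · intro hn
    exact absurd (Finset.mem_univ i) hn

end mat

variable (k : ℕ) (F : Type) [Field F] [Fintype F]

theorem last_mul {k : ℕ} {F : Type} [Field F] [Fintype F] {g h : Sp (k + 1) F} (hg : g ∈ UU (k + 1) F) (hh : h ∈ UU (k + 1) F) :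
    (g * h).1 (Sum.inl (Fin.last k)) (Sum.inr (Fin.last k)) =
      g.1 (Sum.inl (Fin.last k)) (Sum.inr (Fin.last k)) + h.1 (Sum.inl (Fin.last k)) (Sum.inr (Fin.last k)) := by
  obtain ⟨A, B, D, hg1, hA⟩ := hg
  obtain ⟨A', B', D', hh1, hA'⟩ := hh
  have hD' : IsUT D'ᵀ := by
    have h1 := rel hh1
    have h2 : D'ᵀ * A' = 1 := by
      rw [← Matrix.transpose_transpose A', ← Matrix.transpose_mul, h1, Matrix.transpose_one]
    exact isUT_right hA' (mul_eq_one_comm.1 h2)
  have e : (g * h).1 = g.1 * h.1 := rfl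
  rw [e, hg1, hh1, Matrix.fromBlocks_multiply]
  simp only [Matrix.fromBlocks_apply₁₂, Matrix.add_apply]
  have e1 : (A * B') (Fin.last k) (Fin.last k) = B' (Fin.last k) (Fin.last k) := by
    rw [Matrix.mul_apply, Finset.sum_eq_single (Fin.last k), hA.1, one_mul]
    · intro j _ hj
      rw [hA.2 _ j (lt_of_le_of_ne (Fin.le_last j) hj), zero_mul]
    · simp
  have e2 : (B * D') (Fin.last k) (Fin.last k) = B (Fin.last k) (Fin.last k) := by
    rw [Matrix.mul_apply, Finset.sum_eq_single (Fin.last k)]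
    · have := hD'.1 (Fin.last k)
      rw [Matrix.transpose_apply] at this
      rw [this, mul_one]
    · intro j _ hj
      have := hD'.2 (Fin.last k) j (lt_of_le_of_ne (Fin.le_last j) hj)
      rw [Matrix.transpose_apply] at this
      rw [this, mul_zero]
    · simp
  rw [e1, e2, add_comm]

/-- the product of the positive root groups other than `X_{2 e_m}` -/
def VV : Subgroup (Sp (k + 1) F) := ofSub
  { carrier := {g | g ∈ UU (k + 1) F ∧ g.1 (Sum.inl (Fin.last k)) (Sum.inr (Fin.last k)) = 0}
    one_mem' := ⟨one_mem _, by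
      show (1 : Matrix (Fin (k + 1) ⊕ Fin (k + 1)) (Fin (k + 1) ⊕ Fin (k + 1)) F) _ _ = 0
      rw [Matrix.one_apply_ne Sum.inl_ne_inr]⟩
    mul_mem' := by
      rintro g h ⟨hg, hg0⟩ ⟨hh, hh0⟩
      refine ⟨mul_mem hg hh, ?_⟩
      rw [last_mul hg hh, hg0, hh0, add_zero] }

/-- the radical of the Siegel parabolic subgroup of `Sp_{2(m-1)}` -/
def QV : Subgroup (Sp (k + 1) F) := ofSub
  { carrier := {g | ∃ B, g.1 = fromBlocks 1 B 0 1 ∧ (∀ i, B i (Fin.last k) = 0) ∧ ∀ i, B (Fin.last k) i = 0}
    one_mem' := ⟨0, (Matrix.fromBlocks_one).symm, fun _ => rfl, fun _ => rfl⟩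
    mul_mem' := by
      rintro g h ⟨B, hg, hB1, hB2⟩ ⟨B', hh, hB1', hB2'⟩
      refine ⟨B' + B, ?_, fun i => by rw [Matrix.add_apply, hB1, hB1', add_zero],
        fun i => by rw [Matrix.add_apply, hB2, hB2', add_zero]⟩
      show g.1 * h.1 = _
      rw [hg, hh, Matrix.fromBlocks_multiply]
      simp }

/-- the product of the `X_{2 e_i}`, `i < m` -/
def CV : Subgroup (Sp (k + 1) F) := ofSub
  { carrier := {g | g ∈ CC (k + 1) F ∧ g.1 (Sum.inl (Fin.last k)) (Sum.inr (Fin.last k)) = 0}
    one_mem' := ⟨one_mem _, by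
      show (1 : Matrix (Fin (k + 1) ⊕ Fin (k + 1)) (Fin (k + 1) ⊕ Fin (k + 1)) F) _ _ = 0
      rw [Matrix.one_apply_ne Sum.inl_ne_inr]⟩
    mul_mem' := by
      rintro g h ⟨hg, hg0⟩ ⟨hh, hh0⟩
      refine ⟨mul_mem hg hh, ?_⟩
      rw [last_mul (QQ_le_UU (CC_le_QQ hg)) (QQ_le_UU (CC_le_QQ hh)), hg0, hh0, add_zero] }

variable {k F}

theorem mem_VV {g : Sp (k + 1) F} :
    g ∈ VV k F ↔ g ∈ UU (k + 1) F ∧ g.1 (Sum.inl (Fin.last k)) (Sum.inr (Fin.last k)) = 0 := Iff.rfl

theorem mem_CV {g : Sp (k + 1) F} :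
    g ∈ CV k F ↔ g ∈ CC (k + 1) F ∧ g.1 (Sum.inl (Fin.last k)) (Sum.inr (Fin.last k)) = 0 := Iff.rfl

theorem TT_le_VV : TT (k + 1) F ≤ Subgroup.normalizer (VV k F : Set (Sp (k + 1) F)) := by
  refine le_normalizer ?_
  rintro t ht g ⟨hg, hg0⟩
  refine ⟨(Subgroup.mem_normalizer_iff.1 (TT_le_UU ht) g).1 hg, ?_⟩
  obtain ⟨ε, hε, ht⟩ := ht
  obtain ⟨A, B, D, hg1, hA⟩ := hg
  rw [conj_TT hε ht hg1, Matrix.fromBlocks_apply₁₂, dd_apply]
  rw [hg1, Matrix.fromBlocks_apply₁₂] at hg0
  rw [hg0, mul_zero, zero_mul]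

theorem TT_le_QV : TT (k + 1) F ≤ Subgroup.normalizer (QV k F : Set (Sp (k + 1) F)) := by
  refine le_normalizer ?_
  rintro t ⟨ε, hε, ht⟩ g ⟨B, hg, hB1, hB2⟩
  refine ⟨_, by rw [conj_TT hε ht hg, Matrix.mul_zero, Matrix.zero_mul, dd_one hε], fun i => ?_, fun i => ?_⟩
  · rw [dd_apply, hB1, mul_zero, zero_mul]
  · rw [dd_apply, hB2, mul_zero, zero_mul]

theorem mem_CV_VV (h2 : (2 : F) ≠ 0) (x : Sp (k + 1) F) :
    x ∈ CV k F ↔ x ∈ VV k F ∧ ∀ a ∈ TT (k + 1) F, a * x = x * a := by
  rw [mem_CV, mem_VV, mem_CC_UU h2]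
  tauto

theorem CV_le_QV : CV k F ≤ QV k F := by
  rintro g ⟨⟨B, hg, hB⟩, h0⟩
  rw [hg, Matrix.fromBlocks_apply₁₂] at h0
  refine ⟨B, hg, fun i => ?_, fun i => ?_⟩
  · by_cases hi : i = Fin.last k
    · rw [hi, h0]
    · exact hB _ _ hi
  · by_cases hi : i = Fin.last k
    · rw [hi, h0]
    · exact hB _ _ (Ne.symm hi)

theorem QV_le_VV : QV k F ≤ VV k F := by
  rintro g ⟨B, hg, hB1, -⟩
  refine ⟨⟨1, B, 1, hg, isUT_one⟩, ?_⟩
  rw [hg, Matrix.fromBlocks_apply₁₂, hB1]

theorem mem_CV_QV (h2 : (2 : F) ≠ 0) (x : Sp (k + 1) F) :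
    x ∈ CV k F ↔ x ∈ QV k F ∧ ∀ a ∈ TT (k + 1) F, a * x = x * a := by
  constructor
  · exact fun h => ⟨CV_le_QV h, ((mem_CV_VV h2 x).1 h).2⟩
  · exact fun h => (mem_CV_VV h2 x).2 ⟨QV_le_VV h.1, h.2⟩

/-- `diag(X, 1)` -/
theorem exists_X' {r : ℕ} [Fact r.Prime] [CharP F r] (hr : r ≠ 2) (hk : 0 < k) (hk2 : Even k) :
    ∃ (X : Matrix (Fin (k + 1)) (Fin (k + 1)) F) (N : ℕ), X ^ 2 ^ N = 1 ∧
      (∀ j, X (Fin.last k) j = if j = Fin.last k then 1 else 0) ∧
      ∀ B : Matrix (Fin (k + 1)) (Fin (k + 1)) F, (∀ i, B i (Fin.last k) = 0) → (∀ i, B (Fin.last k) i = 0) →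
        X * B * Xᵀ = B → B = 0 := by
  obtain ⟨X, N, hN, hX⟩ := exists_X (F := F) (r := r) hr hk (Or.inl hk2)
  let e : Fin k ⊕ Fin 1 ≃ Fin (k + 1) := finSumFinEquiv
  have he1 : ∀ i : Fin k, e (Sum.inl i) = i.castSucc := fun i => rfl
  have he2 : ∀ i : Fin 1, e (Sum.inr i) = Fin.last k := fun i => by
    apply Fin.ext
    show k + (i : ℕ) = k
    have := i.2
    omega
  have hs1 : ∀ i : Fin k, e.symm i.castSucc = Sum.inl i := fun i => by rw [← he1, Equiv.symm_apply_apply]
  have hs2 : e.symm (Fin.last k) = Sum.inr 0 := by rw [← he2 0, Equiv.symm_apply_apply]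
  have hpow : ∀ n : ℕ, (Matrix.reindex e e (fromBlocks X 0 0 1)) ^ n = Matrix.reindex e e (fromBlocks (X ^ n) 0 0 1) := by
    intro n
    induction n with
    | zero =>
      rw [pow_zero, pow_zero, Matrix.fromBlocks_one]
      simp
    | succ n ih =>
      rw [pow_succ, ih, Matrix.reindex_apply, Matrix.reindex_apply, Matrix.submatrix_mul_equiv,
        Matrix.fromBlocks_multiply, Matrix.reindex_apply]
      simp [pow_succ]
  refine ⟨Matrix.reindex e e (fromBlocks X 0 0 1), N, ?_, ?_, ?_⟩
  · rw [hpow, hN, Matrix.fromBlocks_one]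
    simp
  · intro j
    rw [Matrix.reindex_apply, Matrix.submatrix_apply, hs2]
    induction j using Fin.lastCases with
    | last => rw [hs2, if_pos rfl, Matrix.fromBlocks_apply₂₂, Matrix.one_apply_eq]
    | cast i => rw [hs1, if_neg (Fin.castSucc_lt_last i).ne, Matrix.fromBlocks_apply₂₁, Matrix.zero_apply]
  · intro B hB1 hB2 h
    let B0 : Matrix (Fin k) (Fin k) F := B.submatrix Fin.castSucc Fin.castSucc
    have hB : B = Matrix.reindex e e (fromBlocks B0 0 0 0) := by
      ext i j
      rw [Matrix.reindex_apply, Matrix.submatrix_apply]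
      induction i using Fin.lastCases with
      | last =>
        rw [hs2, hB2]
        induction j using Fin.lastCases with
        | last => rw [hs2, Matrix.fromBlocks_apply₂₂]; rfl
        | cast j => rw [hs1, Matrix.fromBlocks_apply₂₁]; rfl
      | cast i =>
        rw [hs1]
        induction j using Fin.lastCases with
        | last => rw [hs2, Matrix.fromBlocks_apply₁₂, hB1]; rfl
        | cast j => rw [hs1, Matrix.fromBlocks_apply₁₁]; rfl
    have h1 : X * B0 * Xᵀ = B0 := by
      rw [hB, Matrix.reindex_apply, Matrix.reindex_apply, Matrix.transpose_submatrix, Matrix.submatrix_mul_equiv,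
        Matrix.submatrix_mul_equiv, Matrix.fromBlocks_transpose, Matrix.fromBlocks_multiply,
        Matrix.fromBlocks_multiply] at h
      have h3 : fromBlocks (X * B0 * Xᵀ) 0 0 0 = (fromBlocks B0 0 0 0 : Matrix (Fin k ⊕ Fin 1) (Fin k ⊕ Fin 1) F) := by
        have h4 := congrArg (fun Z : Matrix (Fin (k + 1)) (Fin (k + 1)) F => Z.submatrix e e) h
        simpa using h4
      exact (Matrix.fromBlocks_inj.1 h3).1
    rw [hB, hX B0 h1]
    simp

/-- the element `a` of the Levi complement -/
theorem exists_av {r : ℕ} [Fact r.Prime] [CharP F r] (hr : r ≠ 2) (hk : 0 < k) (hk2 : Even k) :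
    ∃ a : Sp (k + 1) F, (∃ N, a ^ 2 ^ N = 1) ∧ (∀ x ∈ QV k F, a * x * a⁻¹ ∈ QV k F) ∧
      ∀ x ∈ QV k F, a * x = x * a → x = 1 := by
  obtain ⟨X, N, hN, hXl, hX⟩ := exists_X' (F := F) (r := r) hr hk hk2
  have hu : IsUnit X := IsUnit.of_pow_eq_one hN (by positivity)
  have hdet := (Matrix.isUnit_iff_isUnit_det X).1 hu
  have hY : Xᵀ * (X⁻¹)ᵀ = 1 := by
    rw [← Matrix.transpose_mul, Matrix.nonsing_inv_mul _ hdet, Matrix.transpose_one]
  have hY' : (X⁻¹)ᵀ * Xᵀ = 1 := by
    rw [← Matrix.transpose_mul, Matrix.mul_nonsing_inv _ hdet, Matrix.transpose_one]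
  have key : ∀ (x : Sp (k + 1) F) (B : Matrix (Fin (k + 1)) (Fin (k + 1)) F), x.1 = fromBlocks 1 B 0 1 →
      (lev X (X⁻¹)ᵀ hY * x).1 = fromBlocks X (X * B) 0 (X⁻¹)ᵀ := by
    intro x B hx
    show fromBlocks X 0 0 (X⁻¹)ᵀ * x.1 = _
    rw [hx, Matrix.fromBlocks_multiply]
    simp
  have key2 : ∀ (x : Sp (k + 1) F) (B : Matrix (Fin (k + 1)) (Fin (k + 1)) F), x.1 = fromBlocks 1 B 0 1 →
      (x * lev X (X⁻¹)ᵀ hY).1 = fromBlocks X (B * (X⁻¹)ᵀ) 0 (X⁻¹)ᵀ := by
    intro x B hx
    show x.1 * fromBlocks X 0 0 (X⁻¹)ᵀ = _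
    rw [hx, Matrix.fromBlocks_multiply]
    simp
  refine ⟨lev X (X⁻¹)ᵀ hY, ⟨N, ?_⟩, ?_, ?_⟩
  · have e : ∀ n : ℕ, (lev X (X⁻¹)ᵀ hY ^ n).1 = fromBlocks (X ^ n) 0 0 (((X⁻¹)ᵀ) ^ n) := by
      intro n
      induction n with
      | zero => rw [pow_zero, pow_zero, pow_zero]; exact (Matrix.fromBlocks_one).symm
      | succ n ih =>
        rw [pow_succ, pow_succ, pow_succ]
        show (lev X (X⁻¹)ᵀ hY ^ n).1 * fromBlocks X 0 0 (X⁻¹)ᵀ = _
        rw [ih, Matrix.fromBlocks_multiply]
        simp
    apply Subtype.ext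
    rw [e, hN, ← Matrix.transpose_pow, Matrix.inv_pow', hN]
    simp
  · rintro x ⟨B, hx, hB1, hB2⟩
    have hs : Bᵀ = B := by
      have h1 := x.2
      rw [hx, SymplecticGroup.fromBlocks_mem_iff] at h1
      simpa using h1.2.1
    have hs2 : (X * B * Xᵀ)ᵀ = X * B * Xᵀ := by
      rw [Matrix.transpose_mul, Matrix.transpose_mul, Matrix.transpose_transpose, hs, Matrix.mul_assoc]
    have : lev X (X⁻¹)ᵀ hY * x * (lev X (X⁻¹)ᵀ hY)⁻¹ = nn (X * B * Xᵀ) hs2 := by
      rw [mul_inv_eq_iff_eq_mul]
      apply Subtype.ext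
      rw [key x B hx, key2 _ _ rfl, Matrix.mul_assoc (X * B), hY, Matrix.mul_one]
    rw [this]
    have hcol : ∀ i, (X * B * Xᵀ) i (Fin.last k) = 0 := by
      intro i
      rw [Matrix.mul_apply]
      refine Finset.sum_eq_zero fun j _ => ?_
      rw [Matrix.transpose_apply, hXl]
      by_cases hj : j = Fin.last k
      · rw [hj, if_pos rfl, mul_one, Matrix.mul_apply]
        exact Finset.sum_eq_zero fun l _ => by rw [hB1, mul_zero]
      · rw [if_neg hj, mul_zero]
    refine ⟨_, rfl, hcol, fun i => ?_⟩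
    rw [← hs2, Matrix.transpose_apply]
    exact hcol i
  · rintro x ⟨B, hx, hB1, hB2⟩ hc
    have h1 := congrArg Subtype.val hc
    rw [key x B hx, key2 x B hx] at h1
    obtain ⟨-, h3, -, -⟩ := Matrix.fromBlocks_inj.1 h1
    have h4 : X * B * Xᵀ = B := by
      rw [h3, Matrix.mul_assoc, hY', Matrix.mul_one]
    apply Subtype.ext
    rw [hx, hX B hB1 hB2 h4]
    exact Matrix.fromBlocks_one

theorem isPGroup_VV {r : ℕ} [Fact r.Prime] [CharP F r] : IsPGroup r (VV k F) :=
  (isPGroup_UU (m := k + 1) (F := F) (r := r)).to_le fun _ h => h.1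

theorem isPGroup_QV {r : ℕ} [Fact r.Prime] [CharP F r] : IsPGroup r (QV k F) :=
  (isPGroup_VV (k := k) (F := F) (r := r)).to_le QV_le_VV

/-- **`χ(1) ≡ dim χ^V mod 2`** -/
theorem main_VV {r : ℕ} [Fact r.Prime] [CharP F r] (hr : r ≠ 2) (hk : 0 < k) (hk2 : Even k) {χ : Sp (k + 1) F → ℂ}
    (hχ : IsCharacter (Sp (k + 1) F) χ) : ∃ z : ℤ, md (VV k F) χ - χ 1 = 2 * z := by
  have h2 : (2 : F) ≠ 0 := two_ne (r := r) hr
  obtain ⟨a, ⟨N, hN⟩, ha1, ha2⟩ := exists_av (F := F) (r := r) hr hk hk2
  obtain ⟨z1, h1⟩ := parity (TT (k + 1) F) isPGroup_TT hχ _ (VV k F) (CV k F) rfl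
    (odd_of_isPGroup hr (isPGroup_VV (r := r))) TT_le_VV (mem_CV_VV h2)
  obtain ⟨z2, h3⟩ := parity (TT (k + 1) F) isPGroup_TT hχ _ (QV k F) (CV k F) rfl
    (odd_of_isPGroup hr (isPGroup_QV (r := r))) TT_le_QV (mem_CV_QV h2)
  have hA : IsPGroup 2 (Subgroup.zpowers a) := by
    rintro ⟨_, j, rfl⟩
    refine ⟨N, Subtype.ext ?_⟩
    show (a ^ j) ^ 2 ^ N = 1
    rw [← zpow_natCast, ← _root_.zpow_mul, mul_comm, _root_.zpow_mul, zpow_natCast, hN, _root_.one_zpow]
  obtain ⟨z3, h4⟩ := parity_one (QV k F) (Subgroup.zpowers a) (odd_of_isPGroup hr (isPGroup_QV (r := r))) hA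
    (by rw [Subgroup.zpowers_le]; exact mem_normalizer ha1)
    (fun u hu h => ha2 u hu (h a (Subgroup.mem_zpowers a))) hχ
  refine ⟨z1 - z2 + z3, ?_⟩
  push_cast
  linear_combination h1 - h3 + h4

end Cfsg.Agent.H298.EP
end

-- part: H298/EP/VBridge
section
prune_inst 0x7550771437e2020000180596f1207a32be0004220148880098e20b060686fc626dc3a9614a202d1e1a322c410031000811440420426000000e00000000250729880054069348010c240019800080010000000000000000000000000000051000004410002
set_option linter.all false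
open scoped Cfsg.Agent.FastGrp

/-!
# The root group datum of `PSp_{2m}(q)` and the matrix groups (helper298, task 5324, S4929)

* `even_of_noFix` : `m` odd, `χ` without fixed vectors of the radical `V_K` of the parabolic subgroup of the last node
  (the long simple root): `χ(1)` is even.
* `rep_last` : no conjugate of the last simple root is a root of a set of nodes without the last node.
-/

set_option autoImplicit false
set_option linter.unusedSectionVars false

open Matrix Cfsg Cfsg.Agent.Characters.Core Cfsg.Agent.H892.EP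
open Cfsg.Agent.H65.EP Cfsg.Agent.H65.EP.PSp

namespace Cfsg.Agent.H298.EP

open Cfsg.Agent.ChevalleyStructure.CoxeterGeom Cfsg.Agent.Tits.Roots Cfsg.Agent.Tits.Core
  Cfsg.Agent.Nodes Cfsg.Agent.Nodes.Reps Cfsg.Agent.Nodes.BNOf Cfsg.Agent.Nodes.StabComb
  Cfsg.Agent.Nodes.Bruhat Cfsg.Agent.Nodes.OppDec Cfsg.Agent.Nodes.LeviDec
  Cfsg.Agent.Nodes.TypeC Cfsg.Agent.Nodes.WittRoot Cfsg.Agent.TitsThree Cfsg.Agent.TitsThree.WittFrame

open Cfsg.Agent.TitsThree.SpIdent (form frame e f toSp isos mat coe_toSp toPSp)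

section comb

variable {n : ℕ}

/-- partial sums of the `ε`-coordinates -/
theorem sum_ee (x : Fin n → ℤ) (m : Fin n) :
    ∑ k ∈ Finset.Iic m, ee x k = (if (m : ℕ) + 1 < n then 1 else 2) * x m := by
  have h1 : ∀ k, ee x k = ∑ j, x j * bt j k := by
    intro k
    simp [ee, Finset.sum_apply]
  simp only [h1]
  rw [Finset.sum_comm]
  simp only [← Finset.mul_sum, sum_bt]
  rw [Finset.sum_eq_single m]
  · simp only [if_true]
    split_ifs <;> ring
  · intro j _ hj
    simp [Ne.symm hj]
  · simp

theorem sum_wt (a : Fin n × Bool) (m : Fin n) :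
    ∑ k ∈ Finset.Iic m, wt a k = if a.1 ≤ m then (if a.2 then 1 else -1) else 0 := by
  simp only [wt, Finset.sum_pi_single', Finset.mem_Iic]

variable {W : Type*} [Group W] {cs : CoxeterSystem (CoxeterMatrix.B n) W}

/-- positive roots in `ε`-coordinates -/
theorem exists_pair {x : Fin n → ℤ} (hx : IsRoot cs (isCartan n) x) (h0 : 0 ≤ x) :
    ∃ (i : Fin n) (b : Fin n × Bool), Ok (i, true) b ∧ i ≤ b.1 ∧ ee x = wt (i, true) + wt b := by
  have key : ∀ a b : Fin n × Bool, Ok a b → a.1 ≤ b.1 → ee x = wt a + wt b →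
      ∃ (i : Fin n) (b : Fin n × Bool), Ok (i, true) b ∧ i ≤ b.1 ∧ ee x = wt (i, true) + wt b := by
    rintro ⟨i, s⟩ b hab hle e
    refine ⟨i, b, ?_⟩
    have h1 := sum_ee x i
    have hxi : 0 ≤ x i := h0 i
    have h2 : ∑ k ∈ Finset.Iic i, ee x k = ∑ k ∈ Finset.Iic i, wt (i, s) k + ∑ k ∈ Finset.Iic i, wt b k := by
      rw [← Finset.sum_add_distrib]
      exact Finset.sum_congr rfl fun k _ => by rw [e, Pi.add_apply]
    rw [h2, sum_wt, sum_wt] at h1
    have hs : s = true := by
      cases s
      · exfalso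
        rcases hab with hne | rfl
        · have hlt : i < b.1 := lt_of_le_of_ne hle hne
          rw [if_neg (not_le.2 hlt)] at h1
          simp only [le_refl, if_true, Bool.false_eq_true, if_false, add_zero] at h1
          split_ifs at h1 <;> omega
        · simp only [le_refl, if_true, Bool.false_eq_true, if_false] at h1
          split_ifs at h1 <;> omega
      · rfl
    subst hs
    exact ⟨hab, hle, e⟩
  obtain ⟨a, b, hab, e⟩ := exists_of_isRoot cs hx
  rcases le_total a.1 b.1 with h1 | h1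
  · exact key a b hab h1 e
  · exact key b a hab.symm h1 (by rw [e, add_comm])

/-- the conjugates of the last simple root -/
theorem exists_two (w : W) (l : Fin n) (hl : ¬ (l : ℕ) + 1 < n) : ∃ a : Fin n × Bool, ee (rep cs (isCartan n) w (sr l)) = wt a + wt a := by
  induction w using cs.simple_induction_left with
  | one =>
    rw [map_one, Module.End.one_apply]
    refine ⟨(l, true), ?_⟩
    rw [ee_sr, bt]
    unfold nx
    rw [dif_neg hl]
  | mul_simple_left w j ih =>
    obtain ⟨a, h⟩ := ih
    exact ⟨sg j a, by rw [rep_mul_apply, rep_simple, ee_refl_of h]⟩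

theorem rep_last (w : W) (l : Fin n) (hl : ¬ (l : ℕ) + 1 < n) : rep cs (isCartan n) w (sr l) l ≠ 0 := by
  intro h0
  obtain ⟨a, ha⟩ := exists_two (cs := cs) w l hl
  have h1 := sum_ee (rep cs (isCartan n) w (sr l)) l
  have h2 : ∑ k ∈ Finset.Iic l, ee (rep cs (isCartan n) w (sr l)) k = ∑ k ∈ Finset.Iic l, wt a k + ∑ k ∈ Finset.Iic l, wt a k := by
    rw [← Finset.sum_add_distrib]
    exact Finset.sum_congr rfl fun k _ => by rw [ha, Pi.add_apply]
  rw [h2, sum_wt, h0, mul_zero] at h1
  have hle : a.1 ≤ l := by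
    rw [Fin.le_def]
    have := a.1.2
    omega
  rw [if_pos hle] at h1
  split_ifs at h1 <;> omega

end comb

section mat

variable {F : Type} [Field F] [Fintype F] {k : ℕ}

/-- the Weyl element `e_i ↦ f_i ↦ - e_i` -/
def ww (k : ℕ) (F : Type) [Field F] [Fintype F] : Sp (k + 1) F := ⟨fromBlocks 0 1 (-1) 0, by
  rw [SymplecticGroup.fromBlocks_mem_iff]
  simp⟩

def ww' (k : ℕ) (F : Type) [Field F] [Fintype F] : Sp (k + 1) F := ⟨fromBlocks 0 (-1) 1 0, by
  rw [SymplecticGroup.fromBlocks_mem_iff]
  simp⟩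

theorem ww_inv : (ww k F)⁻¹ = ww' k F := by
  rw [inv_eq_iff_mul_eq_one]
  apply Subtype.ext
  show fromBlocks 0 1 (-1) 0 * fromBlocks 0 (-1) 1 0 = (1 : Matrix (Fin (k + 1) ⊕ Fin (k + 1)) (Fin (k + 1) ⊕ Fin (k + 1)) F)
  rw [Matrix.fromBlocks_multiply, ← Matrix.fromBlocks_one]
  simp

/-- the criterion for membership in the conjugate of `VV` -/
theorem conj_mem_VV (g : isos (form (k + 1) F)) (h1 : ∀ i j, g.1 (e (k + 1) F j) (Sum.inl i) = 0)
    (h2 : ∀ j, g.1 (e (k + 1) F j) (Sum.inr j) = 1) (h3 : ∀ i j, j < i → g.1 (e (k + 1) F j) (Sum.inr i) = 0)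
    (h4 : g.1 (f (k + 1) F (Fin.last k)) (Sum.inr (Fin.last k)) = 0) :
    ww k F * toSp g * (ww k F)⁻¹ ∈ VV k F := by
  have hmat : ∀ a b, (toSp g : Sp (k + 1) F).1 a b = g.1 (Pi.single b 1) a := by
    intro a b
    rw [coe_toSp, mat, LinearMap.toMatrix'_apply]
    congr 2
  set A := (toSp g : Sp (k + 1) F).1.toBlocks₁₁ with hA
  set C := (toSp g : Sp (k + 1) F).1.toBlocks₂₁ with hC
  set D := (toSp g : Sp (k + 1) F).1.toBlocks₂₂ with hD
  have hB : (toSp g : Sp (k + 1) F).1.toBlocks₁₂ = 0 := by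
    ext i j
    show (toSp g : Sp (k + 1) F).1 (Sum.inl i) (Sum.inr j) = 0
    rw [hmat]
    exact h1 i j
  have hg : (toSp g : Sp (k + 1) F).1 = fromBlocks A 0 C D := by
    simp only [hA, hC, hD, ← hB, Matrix.fromBlocks_toBlocks]
  have e1 : (ww k F * toSp g * (ww k F)⁻¹).1 = fromBlocks D (-C) 0 A := by
    rw [ww_inv]
    show fromBlocks 0 1 (-1) 0 * (toSp g : Sp (k + 1) F).1 * fromBlocks 0 (-1) 1 0 = _
    rw [hg, Matrix.fromBlocks_multiply, Matrix.fromBlocks_multiply]
    simp
  refine mem_VV.2 ⟨⟨D, -C, A, e1, ?_, ?_⟩, ?_⟩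
  · intro i
    show (toSp g : Sp (k + 1) F).1 (Sum.inr i) (Sum.inr i) = 1
    rw [hmat]
    exact h2 i
  · intro i j hij
    show (toSp g : Sp (k + 1) F).1 (Sum.inr i) (Sum.inr j) = 0
    rw [hmat]
    exact h3 i j hij
  · rw [e1, Matrix.fromBlocks_apply₁₂, Matrix.neg_apply, neg_eq_zero]
    show (toSp g : Sp (k + 1) F).1 (Sum.inr (Fin.last k)) (Sum.inl (Fin.last k)) = 0
    rw [hmat]
    exact h4

theorem e_inl (i j : Fin (k + 1)) : e (k + 1) F j (Sum.inl i) = 0 := by
  rw [e, Pi.single_eq_of_ne (by simp)]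

theorem e_inr (i j : Fin (k + 1)) : e (k + 1) F j (Sum.inr i) = if i = j then 1 else 0 := by
  rw [e, Pi.single_apply]
  simp

theorem f_inr (i j : Fin (k + 1)) : f (k + 1) F j (Sum.inr i) = 0 := by
  rw [f, Pi.single_eq_of_ne (by simp)]

theorem mem_of_rg {W : Type*} [Group W] {cs : CoxeterSystem (CoxeterMatrix.B (k + 1)) W} {x : Fin (k + 1) → ℤ}
    (hx : x ∈ NotJ cs (isCartan (k + 1)) {Fin.last k}) (g : isos (form (k + 1) F)) (hg : g.1 ∈ rg (frame (k + 1) F) x) :
    ww k F * toSp g * (ww k F)⁻¹ ∈ VV k F := by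
  obtain ⟨hr, h0, j0, hj0, hj1⟩ := hx
  obtain ⟨i, b, hib, hle, ex⟩ := exists_pair hr h0
  rw [rg_eq (frame (k + 1) F) hib ex] at hg
  have hlast : ¬ (((Fin.last k : Fin (k + 1)) : ℕ) + 1 < k + 1) := by simp
  rcases hib with hne | rfl
  · have hlt : i < b.1 := lt_of_le_of_ne hle hne
    have hne' : (((i, true) : Fin (k + 1) × Bool)).1 ≠ b.1 := hne
    rw [PG_ne (frame (k + 1) F) hne'] at hg
    obtain ⟨t, ht⟩ := hg
    obtain ⟨j, s⟩ := b
    simp only at hlt hne hle
    cases s
    · -- `e_j ↦ e_j + t e_i`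
      have hE : ∀ l, l ≠ j → g.1 (e (k + 1) F l) = e (k + 1) F l := by
        intro l hl
        rw [ht]
        exact WittWeyl.X_apply_of_ne (frame (k + 1) F) (z := (l, true)) hne' (by simp [WittFrame.neg])
          (by simp only [WittFrame.neg, ne_eq, Prod.mk.injEq, not_and]; exact fun h => absurd h hl) t
      have hE' : g.1 (e (k + 1) F j) = e (k + 1) F j + t • e (k + 1) F i := by
        rw [ht]
        exact WittWeyl.X_apply_neg (frame (k + 1) F) hne' t
      refine conj_mem_VV g ?_ ?_ ?_ ?_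
      · intro a l
        by_cases hl : l = j
        · subst hl
          rw [hE', Pi.add_apply, Pi.smul_apply, e_inl, e_inl, smul_zero, add_zero]
        · rw [hE l hl, e_inl]
      · intro l
        by_cases hl : l = j
        · subst hl
          rw [hE', Pi.add_apply, Pi.smul_apply, e_inr, e_inr, if_pos rfl, if_neg (Ne.symm hne), smul_zero, add_zero]
        · rw [hE l hl, e_inr, if_pos rfl]
      · intro a l hal
        by_cases hl : l = j
        · subst hl
          rw [hE', Pi.add_apply, Pi.smul_apply, e_inr, e_inr, if_neg hal.ne', if_neg (hlt.trans hal).ne', smul_zero, add_zero]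
        · rw [hE l hl, e_inr, if_neg hal.ne']
      · have hil : (Fin.last k) ≠ i := (lt_of_lt_of_le hlt (Fin.le_last j)).ne'
        have e1 : g.1 (f (k + 1) F (Fin.last k)) = f (k + 1) F (Fin.last k) := by
          rw [ht]
          exact WittWeyl.X_apply_of_ne (frame (k + 1) F) (z := (Fin.last k, false)) hne'
            (by simp only [WittFrame.neg, ne_eq, Prod.mk.injEq, not_and]; exact fun h => absurd h hil)
            (by simp [WittFrame.neg]) t
        rw [e1, f_inr]
    · -- `f_j ↦ f_j + t e_i`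
      have hE : ∀ l, g.1 (e (k + 1) F l) = e (k + 1) F l := by
        intro l
        rw [ht]
        exact WittWeyl.X_apply_of_ne (frame (k + 1) F) (z := (l, true)) hne' (by simp [WittFrame.neg]) (by simp [WittFrame.neg]) t
      refine conj_mem_VV g (fun a l => by rw [hE, e_inl]) (fun l => by rw [hE, e_inr, if_pos rfl])
        (fun a l hal => by rw [hE, e_inr, if_neg hal.ne']) ?_
      have hil : (Fin.last k) ≠ i := (lt_of_lt_of_le hlt (Fin.le_last j)).ne'
      by_cases hj : Fin.last k = j
      · subst hj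
        have e1 : g.1 (f (k + 1) F (Fin.last k)) = f (k + 1) F (Fin.last k) + t • e (k + 1) F i := by
          rw [ht]
          exact WittWeyl.X_apply_neg (frame (k + 1) F) hne' t
        rw [e1, Pi.add_apply, Pi.smul_apply, f_inr, e_inr, if_neg hil, smul_zero, add_zero]
      · have e1 : g.1 (f (k + 1) F (Fin.last k)) = f (k + 1) F (Fin.last k) := by
          rw [ht]
          exact WittWeyl.X_apply_of_ne (frame (k + 1) F) (z := (Fin.last k, false)) hne'
            (by simp only [WittFrame.neg, ne_eq, Prod.mk.injEq, not_and]; exact fun h => absurd h hil)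
            (by simp only [WittFrame.neg, ne_eq, Prod.mk.injEq, not_and]; exact fun h => absurd h hj) t
        rw [e1, f_inr]
  · -- `f_i ↦ f_i + c e_i`, `i ≠ last`
    have hil : Fin.last k ≠ i := by
      rintro rfl
      apply hj0
      have e1 : ee x = ee (sr (Fin.last k)) := by
        rw [ex, ee_sr, bt]
        unfold nx
        rw [dif_neg hlast]
      have e2 := ee_injective e1
      by_contra hne
      rw [e2, sr_ne hne] at hj1
      exact lt_irrefl _ hj1
    rw [PG_self] at hg
    obtain ⟨q, hq⟩ := hg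
    have hE : ∀ l, g.1 (e (k + 1) F l) = e (k + 1) F l := by
      intro l
      rw [hq]
      exact WittWeyl.Z_apply_of_ne (frame (k + 1) F) (x := (i, true)) (z := (l, true)) (by simp [WittFrame.neg]) q
    refine conj_mem_VV g (fun a l => by rw [hE, e_inl]) (fun l => by rw [hE, e_inr, if_pos rfl])
      (fun a l hal => by rw [hE, e_inr, if_neg hal.ne']) ?_
    have e1 : g.1 (f (k + 1) F (Fin.last k)) = f (k + 1) F (Fin.last k) := by
      rw [hq]
      exact WittWeyl.Z_apply_of_ne (frame (k + 1) F) (x := (i, true)) (z := (Fin.last k, false))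
        (by simp only [WittFrame.neg, ne_eq, Prod.mk.injEq, not_and]; exact fun h => absurd h hil) q
    rw [e1, f_inr]

/-- **characters of `PSp_{2m}(q)`, `m` odd, without `V`-fixed vectors have even degree** -/
theorem even_of_noFix {r : ℕ} [Fact r.Prime] [CharP F r] (hr : r ≠ 2) (hk : 0 < k) (hk2 : Even k)
    {W : Type*} [Group W] (cs : CoxeterSystem (CoxeterMatrix.B (k + 1)) W) (χ : IrrCharacter (PSp (k + 1) F))
    (hχ : NoFix (VJ cs (isCartan (k + 1)) (WittModel.X (KInstSp.model (k + 1) F)) {Fin.last k}) (χ : PSp (k + 1) F → ℂ)) :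
    2 ∣ charDegree (χ : PSp (k + 1) F → ℂ) := by
  have hfin : Finite (PSp (k + 1) F) := Quotient.finite _
  let q : Sp (k + 1) F →* PSp (k + 1) F := QuotientGroup.mk' (Subgroup.center (Matrix.symplecticGroup (Fin (k + 1)) F))
  obtain ⟨z, hz⟩ := main_VV hr hk hk2 (isCharacter_comp q (isIrr_isCharacter χ.2))
  have hV : VJ cs (isCartan (k + 1)) (WittModel.X (KInstSp.model (k + 1) F)) {Fin.last k} ≤
      (VV k F).map (q.comp (MulAut.conj (ww k F)⁻¹).toMonoidHom) := by
    refine RGD.Sup_le fun x hx => ?_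
    intro y hy
    obtain ⟨g, hg, hgx, rfl⟩ := (WittModel.mem_X (KInstSp.model (k + 1) F)).1 hy
    have h1 := mem_of_rg (F := F) hx ⟨g, hg⟩ hgx
    refine ⟨_, h1, ?_⟩
    show q ((ww k F)⁻¹ * (ww k F * toSp ⟨g, hg⟩ * (ww k F)⁻¹) * (ww k F)⁻¹⁻¹) = toPSp ⟨g, hg⟩
    have e1 : (ww k F)⁻¹ * (ww k F * toSp ⟨g, hg⟩ * (ww k F)⁻¹) * (ww k F)⁻¹⁻¹ = toSp ⟨g, hg⟩ := by group
    rw [e1]
    rfl
  obtain ⟨n, ρ, hρ, hρχ⟩ := χ.2
  let ρ' : Representation ℂ (Sp (k + 1) F) (Fin n → ℂ) := ρ.comp q
  have hρ' : ρ'.character = (χ : PSp (k + 1) F → ℂ) ∘ q := by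
    funext x
    show ρ.character (q x) = (χ : PSp (k + 1) F → ℂ) (q x)
    rw [hρχ]
  have h0 : md (VV k F) ((χ : PSp (k + 1) F → ℂ) ∘ q) = 0 := by
    by_contra hne
    rw [← hρ'] at hne
    obtain ⟨v, hv, hfix⟩ := (md_ne_zero_iff ρ' (VV k F)).1 hne
    rw [← hρχ] at hχ
    refine not_noFix ρ (w := ρ (q (ww k F)⁻¹) v) ?_ (fun y hy => ?_) hχ
    · intro h1
      apply hv
      have h2 := congrArg (ρ (q (ww k F))) h1
      rw [map_zero, ← Module.End.mul_apply, ← map_mul, ← map_mul, mul_inv_cancel, map_one, map_one,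
        Module.End.one_apply] at h2
      exact h2
    · obtain ⟨x, hx, rfl⟩ := hV hy
      have h2 : ρ (q x) v = v := hfix x hx
      show ρ (q ((ww k F)⁻¹ * x * (ww k F)⁻¹⁻¹)) (ρ (q (ww k F)⁻¹) v) = _
      rw [← Module.End.mul_apply, ← map_mul, ← map_mul]
      have e1 : (ww k F)⁻¹ * x * (ww k F)⁻¹⁻¹ * (ww k F)⁻¹ = (ww k F)⁻¹ * x := by group
      rw [e1, map_mul, map_mul, Module.End.mul_apply, h2]
  rw [h0, zero_sub] at hz
  have h1 : ((χ : PSp (k + 1) F → ℂ) ∘ q) 1 = (charDegree (χ : PSp (k + 1) F → ℂ) : ℂ) := by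
    rw [Function.comp_apply, map_one, Cfsg.Agent.Blocks.Basic.irr_one_eq_charDegree χ.2]
  rw [h1] at hz
  have h2 : ((charDegree (χ : PSp (k + 1) F → ℂ) : ℤ) : ℂ) = ((-(2 * z) : ℤ) : ℂ) := by
    push_cast
    linear_combination -hz
  have h3 : (charDegree (χ : PSp (k + 1) F → ℂ) : ℤ) = -(2 * z) := by exact_mod_cast h2
  have h4 : (2 : ℤ) ∣ (charDegree (χ : PSp (k + 1) F → ℂ) : ℤ) := ⟨-z, by rw [h3]; ring⟩
  exact_mod_cast h4

end mat

end Cfsg.Agent.H298.EP
end

-- part: H352/EP/SpEven
section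
prune_inst 0x557077551fe2020000000516b0205af6ba000422014b8800d9e20f460f87fe63cdc2ae41ec203f1e0b2084a130010008111004290230000000008000402507298c045606936ca10c240019802882010000000000000000000000000000051000004410002
set_option linter.all false
open scoped Cfsg.Agent.FastGrp

/-!
# Parity of the characters of `Om n` with vectors fixed by a large subgroup

`even_Om` : `n ≥ 3`, `S ≤ Om n` containing the root elements `rel (k, true) (m, s)`, `k < m`: a nontrivial irreducible
character of `Om n` with an `S`-fixed vector has even degree.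
-/

set_option autoImplicit false

open Matrix Module QuadraticMap

namespace Cfsg.Agent.H352.EP

open Cfsg
open CoxeterSystem Cfsg.Agent.ChevalleyStructure.CoxeterGeom Cfsg.Agent.Tits.Roots Cfsg.Agent.Tits.Core
open Cfsg.Agent.Nodes.Comb Cfsg.Agent.Nodes.Reps Cfsg.Agent.Nodes.WittRoot Cfsg.Agent.Nodes.BNOf
open Cfsg.Agent.Nodes Cfsg.Agent.Nodes.RGDLib Cfsg.Agent.Nodes.WittAll Cfsg.Agent.Nodes.WittInst
open Cfsg.Agent.Nodes.TypeC (wt)
open Cfsg.Agent.Nodes.WittRGD (Tor mem_Tor)
open Cfsg.Agent.TitsThree.Siegel Cfsg.Agent.TitsThree.SiegelGen Cfsg.Agent.TitsThree.WittFrame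
  Cfsg.Agent.TitsThree.WBridge Cfsg.Agent.TitsThree.WittWeyl Cfsg.Agent.TitsThree.KSideO
open Cfsg.Agent.Omega.EH3.Kf Cfsg.Agent.Omega.EH3.Kf.Lev
open Cfsg.Agent.LieClassical.OrthCore Cfsg.Agent.LieClassical.OrthForms
open Cfsg.Agent.Characters.Core Cfsg.Agent.H892.EP Cfsg.Agent.H274.EP

variable (k : ℕ)

theorem rgd_Om : RGD (TypeD.M k).toCoxeterSystem (TypeD.isCartan k) 2
    (((Tor (toFrame (wplus (k + 2) (ZMod 2))) (E (plusForm (k + 2) (ZMod 2)))).subgroupOf
      (E (plusForm (k + 2) (ZMod 2)))).map (fw (k + 2)))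
    (fun i => fw (k + 2) ⟨WittRGDD.nn (toFrame (wplus (k + 2) (ZMod 2))) i, WittRGDD.nn_mem (amb_plus (k + 2)) i⟩)
    (XD (wplus (k + 2) (ZMod 2)) (fw (k + 2))) := by
  have : Fact (Nat.Prime 2) := ⟨Nat.prime_two⟩
  exact rgd_map_of_injective (rgd_restrict (rgdD (amb_plus (k + 2)) (adm_plus (k + 2))
    (TypeD.M k).toCoxeterSystem) (E (plusForm (k + 2) (ZMod 2)))
    (fun x _ => rgD_le (wplus (k + 2) (ZMod 2)) (amb_plus (k + 2)) x)
    (fun i => WittRGDD.nn_mem (amb_plus (k + 2)) i)) (fw (k + 2)) fw_injective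

theorem G1_Om : G1 (TypeD.M k).toCoxeterSystem (TypeD.isCartan k) (XD (wplus (k + 2) (ZMod 2)) (fw (k + 2))) = ⊤ :=
  G1D_eq_top (wplus (k + 2) (ZMod 2)) (fw (k + 2)) fw_surjective (adm_plus _) _

theorem commGen_Om : CommGen (TypeD.M k).toCoxeterSystem (TypeD.isCartan k)
    (XD (wplus (k + 2) (ZMod 2)) (fw (k + 2))) := by
  have : Finite (TypeD.M k).Group := TypeD.finite_W (TypeD.M k).toCoxeterSystem
  have hc : ∀ i j : Fin (k + 2), TypeD.M k i j ≤ 3 := by
    intro i j
    show (if i = j then 1 else if TypeD.Adj i j ∨ TypeD.Adj j i then 3 else 2) ≤ 3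
    split_ifs <;> norm_num
  exact comm_of_sl (rgd_Om k) (Cfsg.Agent.KFacts.RgdFiltWitt.sl_of_ne (fun i j h => by have := hc i j; omega)
    (fun i j h => by have := hc i j; omega))

theorem tor_eq_one {n : ℕ} {g : (Fin n ⊕ Fin n → ZMod 2) ≃ₗ[ZMod 2] (Fin n ⊕ Fin n → ZMod 2)}
    (hg : g ∈ Tor (toFrame (wplus n (ZMod 2))) (E (plusForm n (ZMod 2)))) : g = 1 := by
  have h1 : ∀ x, g ((toFrame (wplus n (ZMod 2))).b x) = (toFrame (wplus n (ZMod 2))).b x := by
    intro x
    obtain ⟨l, hl, e⟩ := hg.2 x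
    have h2 : ∀ a : ZMod 2, a ≠ 0 → a = 1 := by decide
    rw [h2 l hl, one_smul] at e
    exact e
  ext1 v
  obtain ⟨x, y, w, hw, e⟩ := (wplus n (ZMod 2)).span v
  have hw0 : w = 0 := (Submodule.mem_bot _).1 hw
  show g v = v
  rw [e, hw0, map_add, map_add, map_sum, map_sum, map_zero]
  congr 2
  · exact Finset.sum_congr rfl fun i _ => by rw [map_smul]; congr 1; exact h1 (i, true)
  · exact Finset.sum_congr rfl fun i _ => by rw [map_smul]; congr 1; exact h1 (i, false)

/-- the positive roots of type `D` -/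
theorem pos_root {x : Fin (k + 2) → ℤ}
    (hx : x ∈ RGD.Pos (TypeD.M k).toCoxeterSystem (TypeD.isCartan k)) :
    ∃ i j : Fin (k + 2), i < j ∧ ∃ s : Bool, TypeD.ee x = wt (i, true) + wt (j, s) := by
  obtain ⟨h1, h2⟩ := hx
  obtain ⟨a, b, hab, e⟩ := TypeD.exists_of_isRoot _ h1
  have key : ∀ m : Fin (k + 2), 0 ≤ ∑ l ∈ Finset.Iic m, TypeD.ee x l := by
    intro m
    have h3 : ∀ l, TypeD.ee x l = ∑ j, x j * TypeD.bt j l := by
      intro l
      simp [TypeD.ee, Finset.sum_apply]
    simp only [h3]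
    rw [Finset.sum_comm]
    simp only [← Finset.mul_sum, TypeD.sum_bt]
    refine Finset.sum_nonneg fun i _ => mul_nonneg (h2 i) ?_
    split_ifs <;> norm_num
  have key2 : ∀ a b : Fin (k + 2) × Bool, TypeD.ee x = wt a + wt b → a.1 < b.1 → a.2 = true := by
    rintro ⟨i, s⟩ ⟨j, t⟩ e hij
    have h3 := key i
    cases s
    · exfalso
      rw [e] at h3
      simp only [Pi.add_apply, Finset.sum_add_distrib] at h3
      have e1 : ∑ l ∈ Finset.Iic i, wt ((i, false) : Fin (k + 2) × Bool) l = -1 := by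
        rw [Finset.sum_eq_single i]
        · simp [TypeC.wt_apply]
        · intro l _ hl
          simp [TypeC.wt_apply, hl]
        · simp
      have e2 : ∑ l ∈ Finset.Iic i, wt ((j, t) : Fin (k + 2) × Bool) l = 0 := by
        apply Finset.sum_eq_zero
        intro l hl
        rw [Finset.mem_Iic] at hl
        have : l ≠ j := by
          rintro rfl
          exact absurd hij (not_lt.2 hl)
        simp [TypeC.wt_apply, this]
      rw [e1, e2] at h3
      omega
    · rfl
  rcases lt_or_gt_of_ne hab with h3 | h3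
  · have h4 := key2 a b e h3
    exact ⟨a.1, b.1, h3, b.2, by rw [e, ← h4]⟩
  · have e' : TypeD.ee x = wt b + wt a := by rw [e]; exact add_comm (wt a) (wt b)
    have h4 := key2 b a e' h3
    exact ⟨b.1, a.1, h3, a.2, by rw [e', ← h4]⟩

/-- the Borel subgroup lies in every subgroup which contains the positive root elements -/
theorem B_le {S : Subgroup (Om (k + 2))} (hS : ∀ i j : Fin (k + 2), i < j → ∀ s, rel (i, true) (j, s) ∈ S) :
    RGD.B (TypeD.M k).toCoxeterSystem (TypeD.isCartan k)
      (((Tor (toFrame (wplus (k + 2) (ZMod 2))) (E (plusForm (k + 2) (ZMod 2)))).subgroupOf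
      (E (plusForm (k + 2) (ZMod 2)))).map (fw (k + 2))) (XD (wplus (k + 2) (ZMod 2)) (fw (k + 2))) ≤ S := by
  refine sup_le ?_ ?_
  · rintro _ ⟨g, hg, rfl⟩
    have h1 : g = 1 := Subtype.ext (tor_eq_one (Subgroup.mem_subgroupOf.1 hg))
    rw [h1, map_one]
    exact one_mem _
  · refine iSup_le ?_
    rintro ⟨x, hx⟩
    obtain ⟨i, j, hij, s, e⟩ := pos_root k hx
    rintro _ ⟨g, hg, rfl⟩
    have h1 := Subgroup.mem_subgroupOf.1 hg
    rw [WittRGDD.rg_eq (toFrame (wplus (k + 2) (ZMod 2))) (a := (i, true)) (b := (j, s)) hij.ne e] at h1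
    obtain ⟨t, ht⟩ := h1
    have h2 : ∀ t : ZMod 2, t = 0 ∨ t = 1 := by decide
    rcases h2 t with rfl | rfl
    · have h3 : g = 1 := Subtype.ext (ht.trans (Frame.X_zero _ _ _))
      rw [h3, map_one]
      exact one_mem _
    · have h3 : g = ⟨(toFrame (wplus (k + 2) (ZMod 2))).X (i, true) (j, s) 1, X_mem _ _ _ _⟩ := Subtype.ext ht
      rw [h3]
      exact hS i j hij s

/-- **parity for `Om n`** -/
theorem even_Om {n : ℕ} (hn : 3 ≤ n) {S : Subgroup (Om n)} (hS : ∀ i j : Fin n, i < j → ∀ s, rel (i, true) (j, s) ∈ S)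
    (χ : IrrCharacter (Om n)) (hχ : χ ≠ oneChar (Om n)) (hf : fd S (χ : Om n → ℂ) ≠ 0) :
    2 ∣ charDegree (χ : Om n → ℂ) := by
  obtain ⟨k, rfl⟩ : ∃ k, n = k + 2 := ⟨n - 2, by omega⟩
  have : Finite (TypeD.M k).Group := TypeD.finite_W (TypeD.M k).toCoxeterSystem
  refine even_par (rgd_Om k) (G1_Om k) (commGen_Om k) χ hχ ?_
  have h1 := fd_ne_of_le (B_le k hS) (isIrr_isCharacter χ.2) hf
  intro h0
  apply h1
  rw [fd, h0, mul_zero]

end Cfsg.Agent.H352.EP
end

-- part: H352/EP/SpOdd
section
prune_inst 0x757077543ee202000018059471203e76fe000422014b8800d9a202440f87be426d800e61feb03b1e0af2accd6038404811540420422000000a000400413c07a988801606a048a10834001f000086000000000000000000000000000000051004000400002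
set_option linter.all false
open scoped Cfsg.Agent.FastGrp

/-!
# The constituents of odd degree of the permutation character on maximal isotropic subspaces

`odd_constituent_aux` : an irreducible constituent of odd degree of `piL n`, `n ≥ 3`, is a constituent of `Op` or `Psi`
(given the orbits of `Om n` on `Lag n`).
-/

set_option autoImplicit false

open scoped ComplexConjugate commutatorElement
open Matrix Module QuadraticMap

namespace Cfsg.Agent.H352.EP

open Cfsg Cfsg.Agent.Characters.Core Cfsg.Agent.H274.EP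
open Cfsg.Agent.LieClassical.OrthCore Cfsg.Agent.LieClassical.OrthForms Cfsg.Agent.LieClassical.OrthTrans
  Cfsg.Agent.LieClassical.OrthFinite
open Cfsg.Agent.H797.EP (q0 dk dkHom dk_sq dk_tv dk_mul' Op Psi tv tv_smul_of_one isCharacter_Psi isCharacter_Op exists_one
  th0_qf ne_zero_of_one dk_class)

variable {n : ℕ}

theorem good_plus (hn : 3 ≤ n) : Good (plusForm n (ZMod 2)) := by
  apply good_of_finite (nondeg_plusForm n (ZMod 2))
  rw [Module.finrank_fintype_fun_eq_card, Fintype.card_sum, Fintype.card_fin]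
  omega

theorem smul_q0_iff {g : Sp n} : g • q0 n = q0 n ↔ back n g ∈ O (plusForm n (ZMod 2)) := by
  rw [back_mem_O]
  constructor
  · intro h
    exact H797.EP.sm_eq_iff.1 (congrArg Subtype.val h)
  · intro h
    exact Subtype.ext (H797.EP.sm_eq_iff.2 h)

/-- the isometry group -/
abbrev St (n : ℕ) : Subgroup (Sp n) := MulAction.stabilizer (Sp n) (q0 n)

theorem St_map : (St n).map (back n) = O (plusForm n (ZMod 2)) := by
  ext x
  constructor
  · rintro ⟨g, hg, rfl⟩
    exact smul_q0_iff.1 hg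
  · intro hx
    refine ⟨fwd x hx, ?_, back_fwd hx⟩
    show fwd x hx • q0 n = q0 n
    rw [smul_q0_iff, back_fwd]
    exact hx

theorem Om_map : (Om n).map (back n) = E (plusForm n (ZMod 2)) := by
  ext x
  constructor
  · rintro ⟨g, hg, rfl⟩
    exact hg
  · intro hx
    refine ⟨fwd x (E_le_O hx), ?_, back_fwd _⟩
    show back n (fwd x (E_le_O hx)) ∈ E (plusForm n (ZMod 2))
    rw [back_fwd]
    exact hx

theorem Om_eq (hn : 3 ≤ n) : Om n = ⁅St n, St n⁆ := by
  apply Subgroup.map_injective back_injective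
  rw [Om_map, Subgroup.map_commutator, St_map, (good_plus hn).commutator_eq_E]

theorem Om_le_St (n : ℕ) : Om n ≤ St n := fun _ hg => smul_q0_iff.2 (E_le_O hg)

theorem dk_Om (hn : 3 ≤ n) {g : Sp n} (hg : g ∈ Om n) : dk g = 1 := by
  have h1 : ⁅St n, St n⁆ ≤ ((dkHom (q0 n)).ker).map (St n).subtype := by
    rw [Subgroup.commutator_le]
    intro a ha b hb
    refine ⟨⁅(⟨a, ha⟩ : St n), (⟨b, hb⟩ : St n)⁆, ?_, rfl⟩
    show dkHom (q0 n) ⁅(⟨a, ha⟩ : St n), (⟨b, hb⟩ : St n)⁆ = 1
    rw [map_commutatorElement]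
    exact commutatorElement_eq_one_iff_mul_comm.2 (mul_comm _ _)
  rw [Om_eq hn] at hg
  obtain ⟨x, hx, rfl⟩ := h1 hg
  exact congrArg Units.val hx

/-- the index is two -/
theorem mul_mem_E (hn : 3 ≤ n) {x y : (Fin n ⊕ Fin n → ZMod 2) ≃ₗ[ZMod 2] (Fin n ⊕ Fin n → ZMod 2)}
    (hx : x ∈ O (plusForm n (ZMod 2))) (hy : y ∈ O (plusForm n (ZMod 2))) (hx' : x ∉ E (plusForm n (ZMod 2)))
    (hy' : y ∉ E (plusForm n (ZMod 2))) : x * y ∈ E (plusForm n (ZMod 2)) := by
  have hnd : (polarBilin (plusForm n (ZMod 2))).Nondegenerate :=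
    ⟨fun x hx => nondeg_plusForm n (ZMod 2) x fun y => by
      have := hx y; rwa [polarBilin_apply_apply] at this,
    fun x hx => nondeg_plusForm n (ZMod 2) x fun y => by
      have := hx y
      rw [polarBilin_apply_apply, polar_comm] at this
      exact this⟩
  have : Nonempty (Fin n ⊕ Fin n) := ⟨Sum.inl ⟨0, by omega⟩⟩
  have hi := ClassicalGeometry.OrthDickson.index_commutator_two (plusForm n (ZMod 2)) (by decide) hnd (Or.inr (by
    rw [Fintype.card_sum, Fintype.card_fin]; omega))
  have hm := map_Omega (plusForm n (ZMod 2))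
  rw [(good_plus hn).commutator_eq_E] at hm
  rw [← isometryHom_range] at hx hy
  obtain ⟨a, rfl⟩ := hx
  obtain ⟨b, rfl⟩ := hy
  have ha : a ∉ Cfsg.Omega (ZMod 2) ⇑(plusForm n (ZMod 2)) := fun h => hx' (hm ▸ ⟨a, h, rfl⟩)
  have hb : b ∉ Cfsg.Omega (ZMod 2) ⇑(plusForm n (ZMod 2)) := fun h => hy' (hm ▸ ⟨b, h, rfl⟩)
  rw [← map_mul, ← hm]
  refine ⟨a * b, ?_, rfl⟩
  show a * b ∈ commutator _
  rw [Subgroup.mul_mem_iff_of_index_two hi]
  exact ⟨fun h => absurd h ha, fun h => absurd h hb⟩

theorem mem_Om_iff (hn : 3 ≤ n) {g : Sp n} : g ∈ Om n ↔ g ∈ St n ∧ dk g = 1 := by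
  constructor
  · intro h
    exact ⟨Om_le_St n h, dk_Om hn h⟩
  · rintro ⟨h1, h2⟩
    by_contra h3
    obtain ⟨v, hv⟩ := exists_one (n := n) _ th0_qf (by omega)
    have hr : tv v ∈ St n := tv_smul_of_one (q0 n) hv
    have hr1 : dk (tv v) = -1 := dk_tv (ne_zero_of_one th0_qf hv)
    have hr2 : tv v ∉ Om n := by
      intro h4
      have h5 := dk_Om hn h4
      rw [hr1] at h5
      norm_num at h5
    have h4 : g * tv v ∈ Om n := by
      rw [mem_Om, map_mul]
      exact mul_mem_E hn (smul_q0_iff.1 h1) (smul_q0_iff.1 hr) h3 hr2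
    have h5 := dk_Om hn h4
    rw [dk_mul' (q0 n) h1 hr, h2, hr1] at h5
    norm_num at h5

/-- **fixed vectors of `Om n`** -/
theorem op_or_psi (hn : 3 ≤ n) {χ : Sp n → ℂ} (hχ : IsCharacter (Sp n) χ)
    (h : fd (⊤ : Subgroup (Om n)) (χ ∘ (Om n).subtype) ≠ 0) :
    classInner (Op (n := n)) χ ≠ 0 ∨ classInner (Psi (n := n)) χ ≠ 0 := by
  classical
  by_contra hcon
  push Not at hcon
  obtain ⟨h1, h2⟩ := hcon
  have : Fintype (Om n) := Fintype.ofFinite _
  have : Fintype (St n) := Fintype.ofFinite _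
  have hcl : IsClassFunction (Sp n) χ := isCharacter_isClassFunction hχ
  have e1 : (Op (n := n)) = indFun (St n) (fun _ => 1) := Cfsg.Agent.S0190.result (H797.EP.QP n) (q0 n)
  have e2 : (Psi (n := n)) = indFun (St n) (fun h => dk (h : Sp n)) := by
    have h3 := Cfsg.Agent.Characters.Brauer.indFun_mul (St n) (fun _ => 1) (dk (n := n)) dk_class
    have h4 : (Psi (n := n)) = Op * dk := by
      funext g
      rw [Pi.mul_apply, Psi, mul_comm]
    simp only [h4, e1, h3]
    congr 1
    funext h
    rw [one_mul]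
  rw [e1, Cfsg.Agent.Characters.Brauer.classInner_indFun _ _ _ _ hcl, classInner_def] at h1
  rw [e2, Cfsg.Agent.Characters.Brauer.classInner_indFun _ _ _ _ hcl, classInner_def] at h2
  have hc : (Nat.card (St n) : ℂ)⁻¹ ≠ 0 := inv_ne_zero card_ne_zero_complex
  have h1' := (mul_eq_zero.1 h1).resolve_left hc
  simp only [one_mul] at h1'
  have h2' := (mul_eq_zero.1 h2).resolve_left hc
  have h3 : ∑ x : St n, (if dk (x : Sp n) = 1 then conj (χ x) else 0) = 0 := by
    have h4 : ∀ x : St n, (if dk (x : Sp n) = 1 then conj (χ x) else 0) =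
        (1 / 2 : ℂ) * conj (χ x) + (1 / 2 : ℂ) * (dk (x : Sp n) * conj (χ x)) := by
      intro x
      rcases dk_sq (x : Sp n) with h5 | h5
      · rw [h5, if_pos rfl]; ring
      · rw [h5, if_neg (by norm_num)]; ring
    simp only [Finset.sum_congr rfl fun x _ => h4 x, Finset.sum_add_distrib, ← Finset.mul_sum, ← Finset.mul_sum, h1', h2',
      mul_zero, add_zero]
  apply h
  rw [fd_top_eq, classInner_def]
  have h4 : ∑ y : Om n, (χ ∘ (Om n).subtype) y * conj ((1 : Om n → ℂ) y) = ∑ y : Om n, χ (y : Sp n) :=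
    Finset.sum_congr rfl fun y _ => by simp
  have h5 : ∑ y : Om n, χ (y : Sp n) = 0 := by
    rw [← Finset.sum_filter] at h3
    have h6 : ∑ y : Om n, conj (χ (y : Sp n)) = ∑ x ∈ Finset.univ.filter (fun x : St n => dk (x : Sp n) = 1), conj (χ x) := by
      refine Finset.sum_bij (fun y _ => ⟨y, Om_le_St n y.2⟩) ?_ ?_ ?_ ?_
      · intro y _
        rw [Finset.mem_filter]
        exact ⟨Finset.mem_univ _, dk_Om hn y.2⟩
      · intro a _ b _ hab
        exact Subtype.ext (congrArg (fun z : St n => (z : Sp n)) hab)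
      · intro x hx
        rw [Finset.mem_filter] at hx
        exact ⟨⟨x, (mem_Om_iff hn).2 ⟨x.2, hx.2⟩⟩, Finset.mem_univ _, rfl⟩
      · intro y _
        rfl
    rw [← map_eq_zero (starRingEnd ℂ), map_sum, h6, h3]
  rw [h4, h5, mul_zero]

/-- the main step -/
theorem odd_constituent_aux (hn : 3 ≤ n)
    (H : ∀ x : Lag n, ∃ y : Om n, ∀ i j : Fin n, i < j → ∀ s, rel (i, true) (j, s) • (y • x) = y • x)
    (χ : IrrCharacter (Sp n)) (hπ : classInner (piL n) (χ : Sp n → ℂ) ≠ 0)
    (ho : Odd (charDegree (χ : Sp n → ℂ))) :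
    classInner (Op (n := n)) (χ : Sp n → ℂ) ≠ 0 ∨ classInner (Psi (n := n)) (χ : Sp n → ℂ) ≠ 0 := by
  classical
  have : Fintype (Om n) := Fintype.ofFinite _
  apply op_or_psi hn (isIrr_isCharacter χ.2)
  refine one_of_odd (isCharacter_comp (Om n).subtype (isIrr_isCharacter χ.2)) (d := charDegree (χ : Sp n → ℂ)) ?_ ho ?_
  · rw [Function.comp_apply, map_one, Cfsg.Agent.Blocks.Basic.irr_one_eq_charDegree χ.2]
  · intro η hη1 hη
    obtain ⟨x, hx⟩ := exists_stab (Ω := Lag n) (Om n) χ.2 hπ η.2 hη
    obtain ⟨y, hy⟩ := H x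
    rw [← fd_stab_smul (Om n) (isIrr_isClassFunction η.2) y x] at hx
    exact even_Om hn (fun i j hij s => MulAction.mem_stabilizer_iff.2 (hy i j hij s)) η hη1 hx

end Cfsg.Agent.H352.EP
end

-- part: H352/EP/SpFin
section
prune_inst 0x557077040fe2020000180592f3205e76b60004b2014b8800f9e607460fc6fe62ad82ae61f8300f1e0af0b6cd60394048115404304028000000000400413d07a988864606b348a10c24001f800002010000000000000000000000000000051004004410000
set_option linter.all false
open scoped Cfsg.Agent.FastGrp

/-!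
# The orbits of `Ω⁺(θ₀)` on the maximal isotropic subspaces; the constituents of odd degree of `piL`

* `lag_trans_th` : the isometry group of `θ₀` is transitive on the singular and on the non-singular Lagrangians;
* `odd_constituent` : an irreducible constituent of odd degree of `piL n`, `n ≥ 3`, is a constituent of `Op` or `Psi`;
* `odd_cases` : it is `1`, `rho` or `beta`.
-/

set_option autoImplicit false

open Matrix Module

namespace Cfsg.Agent.H352.EP

open Cfsg Cfsg.Agent.Characters.Core
open Cfsg.Agent.H797.EP (q0 dk dk_sq dk_tv dk_mul' Op Psi tv tv_smul tv_smul_of_one th0_qf ne_zero_of_one lagW mem_lagW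
  lag_mem_iff z2 z2add vadd)

variable {n : ℕ}

local notation "θ₀" => Cfsg.Agent.H797.EP.th0

theorem th_St {g : Sp n} (hg : g ∈ St n) (v : Vv n) : θ₀ (g • v) = θ₀ v :=
  H797.EP.sm_eq_iff.1 (congrArg Subtype.val hg) v

/-- **Witt's lemma** for the Lagrangians -/
theorem lag_trans_th (k : ℕ) : ∀ S S' : Lag n, n - finrank (ZMod 2) ↥(S.1 ⊓ S'.1) = k →
    ((∀ v ∈ S.1, θ₀ v = 0) ↔ (∀ v ∈ S'.1, θ₀ v = 0)) → ∃ g ∈ St n, g • S = S' := by
  induction k using Nat.strong_induction_on with
  | _ k ih =>
  intro S S' h hty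
  have hSn : finrank (ZMod 2) S.1 = n := S.2.2
  have hSn' : finrank (ZMod 2) S'.1 = n := S'.2.2
  by_cases hle : S.1 ≤ S'.1
  · refine ⟨1, one_mem _, ?_⟩
    rw [one_smul]
    exact Lag.ext (Submodule.eq_of_le_of_finrank_eq hle (hSn.trans hSn'.symm))
  -- the vectors
  obtain ⟨v, u, hv, hu, huv1, hθ⟩ : ∃ v u : Vv n, v ∈ S.1 ∧ u ∈ S'.1 ∧ form u v = 1 ∧ θ₀ u = θ₀ v := by
    obtain ⟨v0, hv0, hv0'⟩ := SetLike.not_le_iff_exists.1 hle
    by_cases hs : ∀ v ∈ S.1, θ₀ v = 0
    · rw [lag_mem_iff] at hv0'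
      push Not at hv0'
      obtain ⟨u, hu, huv⟩ := hv0'
      exact ⟨v0, u, hv0, hu, (z2 _).resolve_left huv, by rw [hs v0 hv0, hty.1 hs u hu]⟩
    · have hs' : ¬ ∀ v ∈ S'.1, θ₀ v = 0 := fun h1 => hs (hty.2 h1)
      push Not at hs hs'
      obtain ⟨a, ha, ha1⟩ := hs
      obtain ⟨b, hb, hb1⟩ := hs'
      have ha1 := (z2 _).resolve_left ha1
      have hb1 := (z2 _).resolve_left hb1
      obtain ⟨v, hv, hv', hv1⟩ : ∃ v ∈ S.1, v ∉ S'.1 ∧ θ₀ v = 1 := by
        rcases z2 (θ₀ v0) with h1 | h1
        · by_cases haS : a ∈ S'.1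
          · refine ⟨v0 + a, S.1.add_mem hv0 ha, fun h2 => hv0' ?_, ?_⟩
            · have h3 := S'.1.add_mem h2 haS
              rwa [add_assoc, vadd, add_zero] at h3
            · rw [th0_qf, h1, ha1, S.2.1 _ hv0 _ ha, zero_add, add_zero]
          · exact ⟨a, ha, haS, ha1⟩
        · exact ⟨v0, hv0, hv0', h1⟩
      rw [lag_mem_iff] at hv'
      push Not at hv'
      obtain ⟨u0, hu0, huv⟩ := hv'
      have huv := (z2 _).resolve_left huv
      rcases z2 (θ₀ u0) with h1 | h1
      · rcases z2 (form b v) with h2 | h2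
        · exact ⟨v, u0 + b, hv, S'.1.add_mem hu0 hb, by rw [form_add_left, huv, h2, add_zero], by
            rw [th0_qf, h1, hb1, S'.2.1 _ hu0 _ hb, zero_add, add_zero, hv1]⟩
        · exact ⟨v, b, hv, hb, h2, by rw [hb1, hv1]⟩
      · exact ⟨v, u0, hv, hu0, huv, by rw [h1, hv1]⟩
  have ht1 : θ₀ (u + v) = 1 := by
    rw [th0_qf, hθ, z2add, zero_add, huv1]
  have htSt : tv (u + v) ∈ St n := tv_smul_of_one (q0 n) ht1
  -- the transvection `t` with `t v = u`
  have htv : tv (u + v) • v = u := by
    rw [tv_smul, form_add_right, form_comm v u, huv1, form_self, add_zero, one_smul, add_comm u v,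
      ← add_assoc, vadd, zero_add]
  have hfix : ∀ s ∈ S.1 ⊓ S'.1, tv (u + v) • s = s := by
    intro s hs
    rw [tv_smul, form_add_right, S.2.1 s hs.1 v hv, S'.2.1 s hs.2 u hu, add_zero, zero_smul, add_zero]
  have huS : u ∉ S.1 := fun h1 => by
    rw [S.2.1 u h1 v hv] at huv1
    exact zero_ne_one huv1
  -- the intersection grows
  have hlt : S.1 ⊓ S'.1 < (tv (u + v) • S).1 ⊓ S'.1 := by
    refine lt_of_le_of_ne ?_ ?_
    · intro s hs
      refine ⟨?_, hs.2⟩
      rw [← hfix s hs]
      exact (smul_mem_act _ _ _).2 hs.1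
    · intro he
      apply huS
      have h1 : u ∈ (tv (u + v) • S).1 ⊓ S'.1 := by
        refine ⟨?_, hu⟩
        have h2 : tv (u + v) • v ∈ (tv (u + v) • S).1 := (smul_mem_act _ _ _).2 hv
        rw [htv] at h2
        exact h2
      rw [← he] at h1
      exact h1.1
  have hlt' := Submodule.finrank_lt_finrank_of_lt hlt
  have hle' : finrank (ZMod 2) ↥((tv (u + v) • S).1 ⊓ S'.1) ≤ n := by
    have := Submodule.finrank_mono (inf_le_right : (tv (u + v) • S).1 ⊓ S'.1 ≤ S'.1)
    omega
  have hty' : (∀ v' ∈ (tv (u + v) • S).1, θ₀ v' = 0) ↔ (∀ v ∈ S'.1, θ₀ v = 0) := by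
    rw [← hty]
    constructor
    · intro h1 s hs
      rw [← th_St htSt]
      exact h1 _ ((smul_mem_act _ _ _).2 hs)
    · intro h1 s hs
      have h2 : (tv (u + v))⁻¹ • s ∈ S.1 := (mem_act _ _ _).1 hs
      rw [← th_St ((St n).inv_mem htSt)]
      exact h1 _ h2
  obtain ⟨g, hg, hgS⟩ := ih (n - finrank (ZMod 2) ↥((tv (u + v) • S).1 ⊓ S'.1)) (by omega) (tv (u + v) • S) S' rfl hty'
  exact ⟨g * tv (u + v), (St n).mul_mem hg htSt, by rw [mul_smul]; exact hgS⟩

theorem form_bv (i j : Fin n) (s t : Bool) :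
    form (bv (i, s)) (bv (j, t)) = if i = j ∧ s ≠ t then 1 else 0 := by
  cases s <;> cases t <;> by_cases h : i = j <;> simp [form, bv, h, eq_comm]

/-- the orbits of `Om n` -/
theorem Om_orbit (hn : 3 ≤ n) (x : Lag n) :
    ∃ y : Om n, ∀ i : Fin n, i ≠ ⟨n - 1, by omega⟩ → bv (i, true) ∈ (y • x).1 := by
  set l : Fin n := ⟨n - 1, by omega⟩ with hl
  have hr1 : θ₀ (bv (l, true) + bv (l, false) : Vv n) = 1 := by
    simp [H797.EP.th0, bv]
  have hne := ne_zero_of_one (n := n) th0_qf hr1
  set r : Sp n := tv (bv (l, true) + bv (l, false)) with hr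
  have hrSt : r ∈ St n := tv_smul_of_one (q0 n) hr1
  have hrfix : ∀ i : Fin n, i ≠ l → r • bv (i, true) = bv (i, true) := by
    intro i hi
    rw [hr, tv_smul, form_add_right, form_bv, form_bv]
    simp [hi]
  -- an element of the isometry group
  obtain ⟨g, hg, hgx⟩ : ∃ g ∈ St n, ∀ i : Fin n, i ≠ l → bv (i, true) ∈ (g • x).1 := by
    have hW : ∀ i : Fin n, bv (i, true) ∈ (lagW n).1 := fun i => by
      rw [mem_lagW]
      simp [bv]
    by_cases hs : ∀ v ∈ x.1, θ₀ v = 0
    · obtain ⟨g, hg, hgx⟩ := lag_trans_th _ x (lagW n) rfl ⟨fun _ => H797.EP.th0_lagW, fun _ => hs⟩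
      exact ⟨g, hg, fun i _ => by rw [hgx]; exact hW i⟩
    · set F : Lag n := tv (bv (l, true)) • r • lagW n with hF
      have h1 : bv (l, false) ∈ (r • lagW n).1 := by
        have h2 : r • bv (l, true) ∈ (r • lagW n).1 := (smul_mem_act _ _ _).2 (hW l)
        have h3 : r • bv (l, true) = bv (l, false) := by
          rw [hr, tv_smul, form_add_right, form_bv, form_bv]
          simp only [ne_eq, not_true_eq_false, and_false, if_false, true_and, Bool.true_eq_false, not_false_eq_true,
            if_true, zero_add, one_smul]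
          rw [← add_assoc, vadd, zero_add]
        rwa [h3] at h2
      have h2 : bv (l, false) + bv (l, true) ∈ F.1 := by
        have h3 : tv (bv (l, true)) • bv (l, false) ∈ F.1 := (smul_mem_act _ _ _).2 h1
        have h4 : tv (bv (l, true)) • bv (l, false) = bv (l, false) + bv (l, true) := by
          rw [tv_smul, form_bv]
          simp
        rwa [h4] at h3
      have hF1 : ¬ ∀ v ∈ F.1, θ₀ v = 0 := by
        intro h3
        have h4 := h3 _ h2
        rw [add_comm, hr1] at h4
        exact one_ne_zero h4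
      obtain ⟨g, hg, hgx⟩ := lag_trans_th _ x F rfl ⟨fun h => absurd h hs, fun h => absurd h hF1⟩
      refine ⟨g, hg, fun i hi => ?_⟩
      rw [hgx, hF]
      have h3 : tv (bv (l, true)) • bv (i, true) = bv (i, true) := by
        rw [tv_smul, form_bv]
        simp
      have h4 : r • bv (i, true) ∈ (r • lagW n).1 := (smul_mem_act _ _ _).2 (hW i)
      rw [hrfix i hi] at h4
      rw [← h3]
      exact (smul_mem_act _ _ _).2 h4
  rcases dk_sq g with h1 | h1
  · exact ⟨⟨g, (mem_Om_iff hn).2 ⟨hg, h1⟩⟩, hgx⟩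
  · refine ⟨⟨r * g, (mem_Om_iff hn).2 ⟨(St n).mul_mem hrSt hg, ?_⟩⟩, fun i hi => ?_⟩
    · rw [dk_mul' (q0 n) hrSt hg, h1, hr, dk_tv hne]
      norm_num
    · have h2 : r • bv (i, true) ∈ (r • g • x).1 := (smul_mem_act _ _ _).2 (hgx i hi)
      rw [hrfix i hi] at h2
      have h3 : (r * g) • x = r • g • x := mul_smul r g x
      show bv (i, true) ∈ ((r * g) • x).1
      rw [h3]
      exact h2

theorem rel_fix {S : Lag n} {l : Fin n} (hl : ∀ j : Fin n, j ≤ l) (hS : ∀ i : Fin n, i ≠ l → bv (i, true) ∈ S.1)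
    {i j : Fin n} (hij : i < j) (s : Bool) : rel (i, true) (j, s) • S = S := by
  have hi : i ≠ l := (lt_of_lt_of_le hij (hl j)).ne
  have h1 : ∀ v ∈ S.1, ((rel (i, true) (j, s) : Om n) : Sp n) • v ∈ S.1 := by
    intro v hv
    rw [rel_smul (a := (i, true)) (b := (j, s)) hij.ne, S.2.1 v hv _ (hS i hi), zero_smul, add_zero]
    exact S.1.add_mem hv (S.1.smul_mem _ (hS i hi))
  apply Lag.ext
  have h2 : (rel (i, true) (j, s) • S).1 ≤ S.1 := by
    intro v hv
    have h3 : ((rel (i, true) (j, s) : Om n) : Sp n)⁻¹ • v ∈ S.1 := (mem_act _ _ _).1 hv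
    have h4 := h1 _ h3
    rwa [smul_inv_smul] at h4
  exact Submodule.eq_of_le_of_finrank_eq h2 ((rel (i, true) (j, s) • S).2.2.trans S.2.2.symm)

/-- **The constituents of odd degree of the permutation character on the maximal isotropic subspaces.** -/
theorem odd_constituent (hn : 3 ≤ n) (χ : IrrCharacter (Sp n)) (hπ : classInner (piL n) (χ : Sp n → ℂ) ≠ 0)
    (ho : Odd (charDegree (χ : Sp n → ℂ))) :
    classInner (Op (n := n)) (χ : Sp n → ℂ) ≠ 0 ∨ classInner (Psi (n := n)) (χ : Sp n → ℂ) ≠ 0 := by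
  refine odd_constituent_aux hn (fun x => ?_) χ hπ ho
  obtain ⟨y, hy⟩ := Om_orbit hn x
  exact ⟨y, fun i j hij s => rel_fix (fun j => Fin.le_def.2 (by have := j.2; show (j : ℕ) ≤ n - 1; omega)) hy hij s⟩

/-- the constituents of `Op` -/
theorem op_cases (hn : 0 < n) (χ : IrrCharacter (Sp n)) (h : classInner (Op (n := n)) (χ : Sp n → ℂ) ≠ 0) :
    χ = Cfsg.Agent.H892.EP.oneChar (Sp n) ∨ χ = H797.EP.rho hn := by
  by_contra hcon
  push Not at hcon
  obtain ⟨h1, h2⟩ := hcon
  apply h
  have e : (Op (n := n)) = ((Cfsg.Agent.H892.EP.oneChar (Sp n) : IrrCharacter (Sp n)) : Sp n → ℂ) +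
      (H797.EP.rho hn : Sp n → ℂ) := by
    funext g
    rw [Pi.add_apply, H797.EP.rho_apply]
    ring
  rw [e, classInner_add_left, classInner_irr_ne (Cfsg.Agent.H892.EP.oneChar (Sp n)).2 χ.2
    (fun h3 => h1 (Subtype.ext h3.symm)), classInner_irr_ne (H797.EP.rho hn).2 χ.2
    (fun h3 => h2 (Subtype.ext h3.symm)), add_zero]

/-- **the constituents of odd degree of `piL`** -/
theorem odd_cases (hn : 3 ≤ n) {β : IrrCharacter (Sp n)} (hβ : H797.EP.IsBeta β) (χ : IrrCharacter (Sp n))
    (hπ : classInner (piL n) (χ : Sp n → ℂ) ≠ 0) (ho : Odd (charDegree (χ : Sp n → ℂ))) :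
    χ = Cfsg.Agent.H892.EP.oneChar (Sp n) ∨ χ = H797.EP.rho (by omega : 0 < n) ∨ χ = β := by
  rcases odd_constituent hn χ hπ ho with h | h
  · rcases op_cases (by omega) χ h with h1 | h1
    · exact Or.inl h1
    · exact Or.inr (Or.inl h1)
  · exact Or.inr (Or.inr (hβ.uniq χ hπ h))

end Cfsg.Agent.H352.EP

private theorem dce_54baff251619 : _root_.True := by
  try have : _root_.True := by simp only [_root_.Cfsg.Agent.H797.EP.rho.congr_simp]
  exact _root_.True.intro
end

-- part: H352/EP/SpFin_mg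
section

end

-- part: H352/EP/SpThree_mg
section
prune_inst 0x53016000be200000000001080201e56860004200148880008a0054204823c400d8200608c200c140a20000d00300008115404004000000000000000013c0789080004048008a008000010000000000000000000000000000000000000051000000400000
set_option linter.all false
open scoped Cfsg.Agent.FastGrp

-- part: H352/EP/SpRho
section
/-!
# The multiplicities of `1`, `rho`, `beta`; the even type

* `classInner_piL_op` : `⟨piL, Op⟩ = 2`, `classInner_piL_rho` : `⟨piL, rho⟩ = 1`, `rho_ne_one`, `rho_ne_beta`;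
* `noFix_beta` : `beta` has no vector fixed by the group generated by `tv u`, `tv v`, `form u v = 1`;
* `evAt_even` : the elements without invariant Lagrangian which fix a hyperbolic plane and a form of plus type.
-/

set_option autoImplicit false

open scoped ComplexConjugate
open Matrix Module

namespace Cfsg.Agent.H352.EP

open Cfsg Cfsg.Agent.Characters.Core Cfsg.Agent.H892.EP
open Cfsg.Agent.H797.EP (q0 dk dk_sq dk_tv dk_mul' Op Psi tv tv_smul tv_smul_of_one th0_qf ne_zero_of_one lagW mem_lagW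
  lag_mem_iff z2 z2add vadd rho rho_apply IsBeta QP IsQF psi_sum_zero classInner_piL_one exists_one isCharacter_Op
  isCharacter_piL isCharacter_Psi beta_coset)

variable {n : ℕ}

local notation "θ₀" => Cfsg.Agent.H797.EP.th0

theorem op_ind : (Op (n := n)) = indFun (St n) (fun _ => 1) := Cfsg.Agent.S0190.result (H797.EP.QP n) (q0 n)

theorem classInner_op [Fintype (St n)] {χ : Sp n → ℂ} (hχ : IsClassFunction (Sp n) χ) :
    classInner (Op (n := n)) χ = (Nat.card (St n) : ℂ)⁻¹ * ∑ g : St n, conj (χ (g : Sp n)) := by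
  rw [op_ind, Cfsg.Agent.Characters.Brauer.classInner_indFun _ _ _ _ hχ, classInner_def]
  congr 1
  exact Finset.sum_congr rfl fun g _ => one_mul _

theorem classInner_op_one : classInner (Op (n := n)) 1 = 1 := by
  have := Fintype.ofFinite (St n)
  rw [classInner_op (fun _ _ => rfl)]
  simp only [Pi.one_apply, map_one, Finset.sum_const, Finset.card_univ, nsmul_eq_mul, mul_one,
    ← Nat.card_eq_fintype_card]
  exact inv_mul_cancel₀ card_ne_zero_complex

/-- a non-singular Lagrangian -/
theorem exists_nonsing (hn : 0 < n) : ∃ S : Lag n, ¬ ∀ v ∈ S.1, θ₀ v = 0 := by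
  obtain ⟨w, hw⟩ := exists_one (n := n) θ₀ th0_qf hn
  have hw0 := ne_zero_of_one (n := n) th0_qf hw
  have he : (bv (⟨0, hn⟩, true) : Vv n) ≠ 0 := by
    intro h
    have h1 := congrFun (congrArg Prod.fst h) ⟨0, hn⟩
    simp only [bv, ↓ _root_.reduceIte, _root_.Pi.single_eq_same, _root_.Prod.fst_zero, _root_.Pi.zero_apply, _root_.one_ne_zero] at h1
  obtain ⟨g, hg⟩ := Cfsg.Agent.H902.EP.exists_smul_eq he hw0
  refine ⟨g • lagW n, fun h => ?_⟩
  have h1 : g • (bv (⟨0, hn⟩, true) : Vv n) ∈ (g • lagW n).1 := by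
    refine (smul_mem_act _ _ _).2 ?_
    rw [mem_lagW]
    simp [bv]
  rw [hg] at h1
  rw [h w h1] at hw
  exact zero_ne_one hw

/-- the two orbits -/
theorem card_orbits (hn : 0 < n) : Nat.card (MulAction.orbitRel.Quotient (St n) (Lag n)) = 2 := by
  classical
  have hinv : ∀ (S T : Lag n), (MulAction.orbitRel (St n) (Lag n)) S T →
      ((∀ v ∈ S.1, θ₀ v = 0) = (∀ v ∈ T.1, θ₀ v = 0)) := by
    rintro S T ⟨g, rfl⟩
    apply propext
    constructor
    · intro h v hv
      rw [← th_St g.2]
      exact h _ ((smul_mem_act (g : Sp n) T.1 v).2 hv)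
    · intro h v hv
      have h2 : (g : Sp n)⁻¹ • v ∈ T.1 := (mem_act _ _ _).1 hv
      rw [← th_St ((St n).inv_mem g.2)]
      exact h _ h2
  let f : MulAction.orbitRel.Quotient (St n) (Lag n) → Prop :=
    Quotient.lift (fun S : Lag n => ∀ v ∈ S.1, θ₀ v = 0) hinv
  have hf : Function.Bijective f := by
    constructor
    · intro a b
      induction a using Quotient.inductionOn with
      | _ S =>
      induction b using Quotient.inductionOn with
      | _ T =>
      intro h
      have h1 : (∀ v ∈ T.1, θ₀ v = 0) ↔ (∀ v ∈ S.1, θ₀ v = 0) := by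
        have h2 : (∀ v ∈ S.1, θ₀ v = 0) = (∀ v ∈ T.1, θ₀ v = 0) := h
        rw [h2]
      obtain ⟨g, hg, hgT⟩ := lag_trans_th _ T S rfl h1
      exact Quotient.sound ⟨⟨g, hg⟩, hgT⟩
    · intro P
      by_cases hP : P
      · refine ⟨Quotient.mk _ (lagW n), ?_⟩
        have h1 : ∀ v ∈ (lagW n).1, θ₀ v = 0 := H797.EP.th0_lagW
        show (∀ v ∈ (lagW n).1, θ₀ v = 0) = P
        exact propext ⟨fun _ => hP, fun _ => h1⟩
      · obtain ⟨S, hS⟩ := exists_nonsing hn
        refine ⟨Quotient.mk _ S, ?_⟩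
        show (∀ v ∈ S.1, θ₀ v = 0) = P
        exact propext ⟨fun h => absurd h hS, fun h => absurd h hP⟩
  rw [Nat.card_eq_of_bijective f hf]
  rw [Nat.card_eq_fintype_card]
  exact Fintype.card_prop

theorem classInner_op_piL (hn : 0 < n) : classInner (Op (n := n)) (piL n) = 2 := by
  classical
  have := Fintype.ofFinite (St n)
  have := Fintype.ofFinite (MulAction.orbitRel.Quotient (St n) (Lag n))
  have : ∀ a : St n, Fintype (MulAction.fixedBy (Lag n) a) := fun a => Fintype.ofFinite _
  rw [classInner_op (isCharacter_isClassFunction isCharacter_piL)]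
  have h1 := MulAction.sum_card_fixedBy_eq_card_orbits_mul_card_group (St n) (Lag n)
  have h2 : ∑ g : St n, conj (piL n (g : Sp n)) = ((∑ a : St n, Fintype.card (MulAction.fixedBy (Lag n) a) : ℕ) : ℂ) := by
    push_cast
    refine Finset.sum_congr rfl fun g _ => ?_
    unfold piL
    rw [Complex.conj_natCast, ← Nat.card_eq_fintype_card]
    rfl
  rw [h2, h1, ← Nat.card_eq_fintype_card, ← Nat.card_eq_fintype_card]
  have h3 : Nat.card (Quotient (MulAction.orbitRel (St n) (Lag n))) = 2 := card_orbits hn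
  rw [h3]
  push_cast
  have hc : (Nat.card (St n) : ℂ) ≠ 0 := card_ne_zero_complex
  field_simp

theorem classInner_piL_op (hn : 0 < n) : classInner (piL n) (Op (n := n)) = 2 := by
  rw [← classInner_conj_symm, classInner_op_piL hn]
  exact Complex.conj_ofNat 2

theorem op_eq (hn : 0 < n) : (Op (n := n)) = (1 : Sp n → ℂ) + (rho hn : Sp n → ℂ) := by
  funext g
  rw [Pi.add_apply, rho_apply, Pi.one_apply]
  ring

theorem rho_ne_one (hn : 0 < n) : rho hn ≠ oneChar (Sp n) := by
  intro h
  have h1 := classInner_op_one (n := n)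
  rw [op_eq hn, classInner_add_left, h] at h1
  have h2 : classInner (1 : Sp n → ℂ) 1 = 1 := classInner_irr_self isIrr_one
  have h3 : classInner ((oneChar (Sp n) : IrrCharacter (Sp n)) : Sp n → ℂ) (1 : Sp n → ℂ) = 1 := h2
  rw [h2, h3] at h1
  norm_num at h1

theorem classInner_piL_rho (hn : 0 < n) : classInner (piL n) (rho hn : Sp n → ℂ) = 1 := by
  have h1 := classInner_piL_op hn
  rw [op_eq hn, classInner_add_right, classInner_piL_one] at h1
  linear_combination h1

/-- a vector with `θ₀ v = 1` orthogonal to a given vector -/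
theorem exists_perp (hn : 2 ≤ n) (w : Vv n) : ∃ v, θ₀ v = 1 ∧ form w v = 0 := by
  have hq : ∀ i : Fin n, θ₀ (bv (i, true) + bv (i, false) : Vv n) = 1 := fun i => by
    simp only [H797.EP.th0, bv, ↓ _root_.reduceIte, _root_.Bool.false_eq_true, _root_.Prod.mk_add_mk, _root_.add_zero, _root_.zero_add, _root_.dotProduct_single, _root_.Pi.single_eq_same, _root_.mul_one]
  have hw : ∀ i : Fin n, form w (bv (i, true) + bv (i, false)) = w.2 i + w.1 i := fun i => by
    rw [form_add_right, form_e, form_f]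
  set i0 : Fin n := ⟨0, by omega⟩ with hi0
  set i1 : Fin n := ⟨1, by omega⟩ with hi1
  have hne : i0 ≠ i1 := by simp [hi0, hi1]
  rcases z2 (w.2 i0 + w.1 i0) with h0 | h0
  · exact ⟨_, hq i0, by rw [hw, h0]⟩
  · rcases z2 (w.2 i1 + w.1 i1) with h1 | h1
    · exact ⟨_, hq i1, by rw [hw, h1]⟩
    · obtain ⟨s, hs⟩ : ∃ s : Bool, form w (bv (i1, s)) = 1 := by
        rcases z2 (w.2 i1) with h2 | h2
        · rw [h2, zero_add] at h1
          exact ⟨false, by rw [form_f, h1]⟩
        · exact ⟨true, by rw [form_e, h2]⟩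
      refine ⟨(bv (i0, true) + bv (i0, false)) + bv (i1, s), ?_, ?_⟩
      · rw [th0_qf, hq, form_add_left, form_bv, form_bv, if_neg (fun h => hne h.1), if_neg (fun h => hne h.1)]
        have : θ₀ (bv (i1, s) : Vv n) = 0 := by
          cases s <;> simp only [H797.EP.th0, bv, _root_.Bool.false_eq_true, ↓ _root_.reduceIte, _root_.dotProduct_single, _root_.Pi.zero_apply, _root_.mul_one, _root_.dotProduct_zero]
        rw [this]
        rfl
      · rw [form_add_right, hw, h0, hs]
        rfl

theorem classInner_psi_op (hn : 2 ≤ n) : classInner (Op (n := n)) (Psi (n := n)) = 0 := by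
  have := Fintype.ofFinite (St n)
  rw [classInner_op (isCharacter_isClassFunction isCharacter_Psi)]
  have h1 : ∑ g : St n, conj (Psi (g : Sp n)) = ∑ g : St n, Psi ((St n).subtype g) :=
    Finset.sum_congr rfl fun g _ => H797.EP.psi_real _
  rw [h1, psi_sum_zero, mul_zero]
  intro θ
  obtain ⟨w, hw⟩ := H797.EP.exists_shift (th0_qf (n := n)) θ.2.1
  obtain ⟨v, hv, hwv⟩ := exists_perp hn w
  refine ⟨⟨tv v, tv_smul_of_one (q0 n) hv⟩, tv_smul_of_one θ (by rw [hw, hv, hwv, add_zero]), ?_⟩
  exact dk_tv (ne_zero_of_one (n := n) th0_qf hv)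

theorem rho_ne_beta (hn : 2 ≤ n) {β : IrrCharacter (Sp n)} (hβ : IsBeta β) : rho (by omega : 0 < n) ≠ β := by
  intro h
  have h1 := classInner_psi_op hn
  rw [op_eq (by omega : 0 < n), classInner_add_left, h] at h1
  have h2 : classInner (1 : Sp n → ℂ) (Psi (n := n)) = 0 := by
    rw [← classInner_conj_symm, H797.EP.classInner_psi_one (by omega), map_zero]
  have h3 : classInner (β : Sp n → ℂ) (Psi (n := n)) = 1 := by
    rw [← classInner_conj_symm, hβ.psi, map_one]
  rw [h2, h3] at h1
  norm_num at h1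

theorem tv_eq (u : Vv n) : Cfsg.Agent.H902.EP.tv u = tv u := by
  apply sp_ext
  intro v
  rw [tv_smul]
  rfl

/-- `beta` has no vector fixed by `Sp_2(2)` -/
theorem noFix_beta {β : IrrCharacter (Sp n)} (hβ : IsBeta β) {u v : Vv n} (huv : form u v = 1) :
    NoFix (Subgroup.closure {Cfsg.Agent.H902.EP.tv u, Cfsg.Agent.H902.EP.tv v}) (β : Sp n → ℂ) := by
  set D : Subgroup (Sp n) := Subgroup.closure {Cfsg.Agent.H902.EP.tv u, Cfsg.Agent.H902.EP.tv v} with hD
  have := Fintype.ofFinite D
  have hu : tv u ∈ D := by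
    rw [← tv_eq]
    exact Subgroup.subset_closure (Or.inl rfl)
  have hv : tv v ∈ D := by
    rw [← tv_eq]
    exact Subgroup.subset_closure (Or.inr rfl)
  have huv' : tv (u + v) ∈ D := by
    have h1 := Cfsg.Agent.H902.EP.tv_aba huv
    rw [tv_eq, tv_eq, tv_eq] at h1
    rw [← h1]
    exact D.mul_mem (D.mul_mem hu hv) hu
  rw [NoFix, finsum_eq_sum_of_fintype]
  have h1 := beta_coset hβ D.subtype (fun θ => ?_) 1
  · simpa only [_root_.Subgroup.subtype_apply, _root_.one_mul] using h1
  · obtain ⟨w, hw, hw1⟩ : ∃ w, tv w ∈ D ∧ θ.1 w = 1 := by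
      rcases z2 (θ.1 u) with h1 | h1
      · rcases z2 (θ.1 v) with h2 | h2
        · exact ⟨u + v, huv', by rw [θ.2.1, h1, h2, huv, add_zero, zero_add]⟩
        · exact ⟨v, hv, h2⟩
      · exact ⟨u, hu, h1⟩
    exact ⟨⟨tv w, hw⟩, tv_smul_of_one θ hw1, dk_tv (ne_zero_of_one θ.2.1 hw1)⟩

/-- **the even type, `p ≥ 5`** -/
theorem evAt_even {p : ℕ} [Fact p.Prime] (hn : 3 ≤ n) (hp2 : p ≠ 2) (hp3 : p ≠ 3) {x : Sp n}
    (hx : ∃ k : ℕ, orderOf x = p ^ k) (hL : ∀ S : Lag n, x • S ≠ S) {u v : Vv n} (huv : form u v = 1)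
    (hxu : x • u = u) (hxv : x • v = v) {θ : QP n} (hθ : x • θ = θ) : EvAt p (Sp n) := by
  intro M hM
  obtain ⟨β, hβ⟩ := H797.EP.exists_beta (n := n)
  have hn0 : 0 < n := by omega
  refine Cfsg.Agent.H902.EP.even_ge_five hM hp2 hp3 hx hL huv hxu hxv (rho hn0) β (rho_ne_one hn0)
    (fun h => hβ.ne_one hn0 (by rw [h]; rfl)) (rho_ne_beta (by omega) hβ)
    (fun g => (Nat.card (MulAction.fixedBy (QP n) g) : ℝ)) (fun g => ?_) (fun g => Nat.cast_nonneg _) ?_
    (noFix_beta hβ huv) classInner_piL_one (classInner_piL_rho hn0) (fun χ h1 h2 => odd_cases hn hβ χ h1 ?_)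
  · rw [rho_apply]
    unfold Op
    push_cast
    ring
  · have : Nonempty (MulAction.fixedBy (QP n) x) := ⟨⟨θ, hθ⟩⟩
    exact_mod_cast Nat.card_pos
  · rw [← Nat.not_even_iff_odd, even_iff_two_dvd]
    exact h2

end Cfsg.Agent.H352.EP
end

-- part: H352/EP/SpLagFix
section
/-!
# `beta` has a vector fixed by the stabilizer of a Lagrangian

`stab_beta` : the stabilizer of a Lagrangian has a fixed vector in `beta`; `not_noFix_tv` : so has the group generated by
the transvections `tv w`, `w` in the Lagrangian.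
-/

set_option autoImplicit false

open scoped ComplexConjugate
open Matrix Module

namespace Cfsg.Agent.H352.EP

open Cfsg Cfsg.Agent.Characters.Core Cfsg.Agent.H892.EP Cfsg.Agent.H274.EP
open Cfsg.Agent.H797.EP (lagW IsBeta)

variable {n : ℕ}

theorem fd_of_piL {χ : Sp n → ℂ} (hχ : IsCharacter (Sp n) χ) (h : classInner (piL n) χ ≠ 0) (S : Lag n) :
    fd (MulAction.stabilizer (Sp n) S) χ ≠ 0 := by
  classical
  have := Fintype.ofFinite (MulAction.stabilizer (Sp n) S)
  have hcl : IsClassFunction (Sp n) χ := isCharacter_isClassFunction hχ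
  have e : (piL n) = indFun (MulAction.stabilizer (Sp n) S) (fun _ => 1) := Cfsg.Agent.S0190.result (Lag n) S
  rw [e, Cfsg.Agent.Characters.Brauer.classInner_indFun _ _ _ _ hcl, classInner_def] at h
  intro h0
  apply h
  rw [fd_eq] at h0
  have h1 := (mul_eq_zero.1 h0).resolve_left (inv_ne_zero card_ne_zero_complex)
  have h2 : ∑ g : MulAction.stabilizer (Sp n) S, (1 : ℂ) * conj (χ (g : Sp n)) =
      conj (∑ g : MulAction.stabilizer (Sp n) S, χ (g : Sp n)) := by
    rw [map_sum]
    exact Finset.sum_congr rfl fun g _ => one_mul _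
  rw [h2, h1, map_zero, mul_zero]

theorem tv_mem_stab {S : Lag n} {w : Vv n} (hw : w ∈ S.1) : H797.EP.tv w ∈ MulAction.stabilizer (Sp n) S := by
  have h1 : ∀ v ∈ S.1, H797.EP.tv w • v = v := fun v hv => by
    rw [H797.EP.tv_smul, S.2.1 v hv w hw, zero_smul, add_zero]
  rw [MulAction.mem_stabilizer_iff]
  apply Lag.ext
  symm
  apply Submodule.eq_of_le_of_finrank_eq
  · intro v hv
    rw [← h1 v hv]
    exact (smul_mem_act _ _ _).2 hv
  · exact S.2.2.trans (H797.EP.tv w • S).2.2.symm

/-- for helper902's `val_tv` -/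
theorem not_noFix_tv {β : IrrCharacter (Sp n)} (hβ : IsBeta β) (S : Lag n) :
    ¬ NoFix (Subgroup.closure {x : Sp n | ∃ w ∈ S.1, x = Cfsg.Agent.H902.EP.tv w}) (β : Sp n → ℂ) := by
  have h1 := fd_of_piL (isIrr_isCharacter β.2) (by rw [hβ.piL]; exact one_ne_zero) S
  have h2 : Subgroup.closure {x : Sp n | ∃ w ∈ S.1, x = Cfsg.Agent.H902.EP.tv w} ≤ MulAction.stabilizer (Sp n) S := by
    rw [Subgroup.closure_le]
    rintro _ ⟨w, hw, rfl⟩
    rw [tv_eq]
    exact tv_mem_stab hw
  have h3 := fd_ne_of_le h2 (isIrr_isCharacter β.2) h1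
  intro h4
  apply h3
  rw [NoFix] at h4
  rw [fd, h4, mul_zero]

end Cfsg.Agent.H352.EP
end

-- part: H902/EP/SpThree
section
/-!
# `Sp_{2n}(2)`, `p = 3`

The class sum of the transvections on an irreducible character without vectors fixed by `Sp_2(2)`.
-/

set_option autoImplicit false
set_option linter.unusedSectionVars false

open Cfsg Cfsg.Agent.Characters.Core Cfsg.Agent.H892.EP Cfsg.Agent.H352.EP
open Matrix Module

namespace Cfsg.Agent.H902.EP

variable {n : ℕ}

/-! ### maximal isotropic subspaces -/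

/-- the bilinear form -/
noncomputable def bform (n : ℕ) : LinearMap.BilinForm (ZMod 2) (Vv n) :=
  LinearMap.mk₂ (ZMod 2) form form_add_left form_smul_left form_add_right form_smul_right

theorem bform_nondeg : (bform n).Nondegenerate := by
  refine ⟨fun u h => eq_zero_of_form u h, fun u h => eq_zero_of_form u fun v => ?_⟩
  rw [form_comm]
  exact h v

theorem finrank_Vv : finrank (ZMod 2) (Vv n) = n + n := by
  rw [Module.finrank_prod]
  simp only [_root_.Module.finrank_fintype_fun_eq_card, _root_.Fintype.card_fin, _root_.Nat.add_left_cancel_iff]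

/-- `Sᗮ = S` -/
theorem mem_of_perp {S : Submodule (ZMod 2) (Vv n)} (hS : IsLag S) {w : Vv n}
    (hw : ∀ s ∈ S, form s w = 0) : w ∈ S := by
  have h1 : S ≤ (bform n).orthogonal S := fun s hs t ht => hS.1 t ht s hs
  have h2 : finrank (ZMod 2) ↥((bform n).orthogonal S) = n := by
    rw [LinearMap.BilinForm.finrank_orthogonal bform_nondeg, finrank_Vv, hS.2]
    omega
  have h3 : S = (bform n).orthogonal S := by
    apply Submodule.eq_of_le_of_finrank_eq h1
    rw [h2, hS.2]
  rw [h3]
  exact fun s hs => hw s hs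

/-- `t_u t_v` fixes no maximal isotropic subspace -/
theorem no_lag {u v : Vv n} (huv : form u v = 1) (S : Lag n) : (tv u * tv v) • S ≠ S := by
  intro hS
  have hmem : ∀ s : Vv n, s ∈ S.1 → (tv u * tv v) • s ∈ S.1 := by
    intro s hs
    have h1 := (smul_mem_act (tv u * tv v) S.1 s).2 hs
    have h2 : act (tv u * tv v) S.1 = S.1 := congrArg Subtype.val hS
    rwa [h2] at h1
  have hvu : form v u = 1 := by rw [form_comm]; exact huv
  have hc : ∀ s : Vv n, (tv u * tv v) • s = s + (form s v • v + (form s u + form s v) • u) := by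
    intro s
    rw [mul_smul, tv_smul v s, tv_smul, form_add_left, form_smul_left, hvu, mul_one, add_assoc]
  have hd : ∀ s ∈ S.1, form s v • v + (form s u + form s v) • u ∈ S.1 := by
    intro s hs
    have h1 := S.1.add_mem (hmem s hs) hs
    rw [hc, add_assoc, add_comm _ s, ← add_assoc, vv_add_self, zero_add] at h1
    exact h1
  have two : ∀ c : ZMod 2, c = 0 ∨ c = 1 := by decide
  have hu_not : ¬ (u ∈ S.1 ∧ v ∈ S.1) := by
    rintro ⟨h1, h2⟩
    have := S.2.1 u h1 v h2
    rw [huv] at this
    exact one_ne_zero this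
  have e11 : (1 : ZMod 2) + 1 = 0 := by decide
  -- if one nonzero vector of `⟨u, v⟩` is in `S` then so are all
  have hu1 : u ∉ S.1 := by
    intro h
    have h1 := hd u h
    rw [huv, form_self, one_smul, zero_add, one_smul] at h1
    refine hu_not ⟨h, ?_⟩
    have h2 := S.1.add_mem h1 h
    rwa [add_assoc, vv_add_self, add_zero] at h2
  have hv1 : v ∉ S.1 := by
    intro h
    have h1 := hd v h
    rw [form_self, hvu, zero_smul, zero_add, add_zero, one_smul] at h1
    exact hu1 h1
  have huv1 : v + u ∉ S.1 := by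
    intro h
    have h1 := hd (v + u) h
    rw [form_add_left, form_add_left, form_self, form_self, hvu, huv, zero_add, add_zero, one_smul, e11,
      zero_smul, add_zero] at h1
    exact hv1 h1
  have hperp : ∀ s ∈ S.1, form s u = 0 ∧ form s v = 0 := by
    intro s hs
    have h1 := hd s hs
    rcases two (form s u) with hu | hu <;> rcases two (form s v) with hv | hv
    · exact ⟨hu, hv⟩
    · rw [hu, hv, one_smul, zero_add, one_smul] at h1
      exact absurd h1 huv1
    · rw [hu, hv, zero_smul, zero_add, add_zero, one_smul] at h1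
      exact absurd h1 hu1
    · rw [hu, hv, one_smul, e11, zero_smul, add_zero] at h1
      exact absurd h1 hv1
  exact hu1 (mem_of_perp S.2 fun s hs => (hperp s hs).1)

/-! ### the class of transvections -/

theorem tv_inj {u v : Vv n} (hu : u ≠ 0) (h : tv u = tv v) : u = v := by
  obtain ⟨w, hw, -⟩ := exists_form_one hu hu
  have h1 : tv u • w = tv v • w := by rw [h]
  rw [tv_one (by rw [form_comm]; exact hw), tv_smul] at h1
  have h2 : u = form w v • v := add_left_cancel h1
  have two : ∀ c : ZMod 2, c = 0 ∨ c = 1 := by decide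
  rcases two (form w v) with h3 | h3
  · rw [h3, zero_smul] at h2
    exact absurd h2 hu
  · rwa [h3, one_smul] at h2

open scoped Classical in
theorem filter_isConj {u : Vv n} (hu : u ≠ 0) :
    (Finset.univ.filter (IsConj (tv u))) = (Finset.univ.filter fun v : Vv n => v ≠ 0).image tv := by
  ext x
  simp only [Finset.mem_filter, Finset.mem_univ, true_and, Finset.mem_image]
  constructor
  · intro h
    obtain ⟨c, hc⟩ := isConj_iff.1 h
    refine ⟨c • u, fun h0 => hu ?_, by rw [← hc, tv_conj]⟩
    have := congrArg (fun w => c⁻¹ • w) h0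
    simp only [inv_smul_smul] at this
    rw [this]
    exact map_zero ((c⁻¹ : Sp n) : Vv n ≃ₗ[ZMod 2] Vv n)
  · rintro ⟨v, hv, rfl⟩
    obtain ⟨g, hg⟩ := exists_smul_eq hu hv
    exact isConj_iff.2 ⟨g, by rw [tv_conj, hg]⟩

open scoped Classical in
theorem card_ne_zero_vec : (Finset.univ.filter fun v : Vv n => v ≠ 0).card = 2 ^ n * 2 ^ n - 1 := by
  have h1 : (Finset.univ.filter fun v : Vv n => v ≠ 0) = Finset.univ.erase 0 := by
    ext v
    simp only [_root_.ne_eq, _root_.Finset.mem_filter, _root_.Finset.mem_univ, _root_.true_and, _root_.Finset.mem_erase, _root_.and_true]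
  rw [h1, Finset.card_erase_of_mem (Finset.mem_univ _), Finset.card_univ, Fintype.card_prod]
  simp only [ZMod.card, _root_.Fintype.card_pi, _root_.Finset.prod_const, _root_.Finset.card_univ, _root_.Fintype.card_fin]

section rep
variable {V : Type*} [AddCommGroup V] [Module ℂ V] [FiniteDimensional ℂ V] (ρ : Representation ℂ (Sp n) V)

theorem card_lag (S : Lag n) : Nat.card S.1 = 2 ^ n := by
  have h := Module.natCard_eq_pow_finrank (K := ZMod 2) (V := S.1)
  rw [S.2.2] at h
  rw [h]
  simp

open scoped Classical in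
/-- the number of `w ∈ S` with `form w v = 1` -/
theorem card_half (S : Lag n) {v : Vv n} (hv : v ∉ S.1) [Fintype S.1] :
    2 * (Finset.univ.filter fun w : S.1 => form (w : Vv n) v = 1).card = 2 ^ n := by
  have two : ∀ c : ZMod 2, c = 0 ∨ c = 1 := by decide
  obtain ⟨w0, hw0⟩ : ∃ w0 : S.1, form (w0 : Vv n) v = 1 := by
    by_contra h
    push Not at h
    exact hv (mem_of_perp S.2 fun s hs => (two _).resolve_right (h ⟨s, hs⟩))
  have hself : ∀ w : S.1, w + w0 + w0 = w := fun w => Subtype.ext (by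
    show (w : Vv n) + w0 + w0 = w
    rw [add_assoc, vv_add_self, add_zero])
  have h1 : (Finset.univ.filter fun w : S.1 => form (w : Vv n) v = 1).card =
      (Finset.univ.filter fun w : S.1 => ¬ form (w : Vv n) v = 1).card := by
    refine Finset.card_bij' (fun a _ => a + w0) (fun a _ => a + w0) ?_ ?_ (fun a _ => hself a)
      (fun a _ => hself a)
    · intro a ha
      rw [Finset.mem_filter] at ha ⊢
      refine ⟨Finset.mem_univ _, ?_⟩
      rw [Submodule.coe_add, form_add_left, ha.2, hw0]
      decide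
    · intro a ha
      rw [Finset.mem_filter] at ha ⊢
      refine ⟨Finset.mem_univ _, ?_⟩
      have : form (a : Vv n) v = 0 := (two _).resolve_right ha.2
      rw [Submodule.coe_add, form_add_left, this, hw0]
      decide
  have h2 := Finset.card_filter_add_card_filter_not (s := (Finset.univ : Finset S.1))
    (fun w : S.1 => form (w : Vv n) v = 1)
  rw [Finset.card_univ] at h2
  have h3 : Fintype.card S.1 = 2 ^ n := by rw [← Nat.card_eq_fintype_card, card_lag]
  omega

open scoped Classical in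
/-- `2 ∑_v ρ(t_v) f = 2^n (3 - 2^n) f` -/
theorem sum_tv (S : Lag n) {f : V} (hf : ∀ w ∈ S.1, ρ (tv w) f = f)
    (hk : ∀ u v : Vv n, form u v = 1 → ∀ w : V, ρ (tv u) w = w → ρ (tv v) w = w → w = 0) :
    (2 : ℂ) • ∑ v : Vv n, ρ (tv v) f = ((2 : ℂ) ^ n * (3 - 2 ^ n)) • f := by
  have := Fintype.ofFinite S.1
  -- the relation
  have hrel : ∀ (a : S.1) (v : Vv n), form (a : Vv n) v = 1 →
      f + ρ (tv v) f + ρ (tv (v + a)) f = 0 := by
    intro a v huv
    have h1 := op6 ρ (tv_mul_self (a : Vv n)) (tv_mul_self v) (tv_braid huv) (hk _ _ huv)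
    have h2 := congrArg (fun T => T f) h1
    simp only [LinearMap.add_apply, Module.End.one_apply, LinearMap.zero_apply] at h2
    rw [tv_aba huv, tv_mul huv] at h2
    rw [map_mul, map_mul, Module.End.mul_apply, Module.End.mul_apply, hf _ a.2,
      add_comm (a : Vv n) v] at h2
    have h3 : (2 : ℂ) • (f + ρ (tv v) f + ρ (tv (v + a)) f) = 0 := by
      rw [two_smul]
      rw [← h2]
      abel
    exact (smul_eq_zero.1 h3).resolve_left two_ne_zero
  -- double sum
  have hsum : ∑ v : Vv n, ∑ a ∈ Finset.univ.filter (fun a : S.1 => form (a : Vv n) v = 1),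
      (f + ρ (tv v) f + ρ (tv (v + a)) f) = 0 :=
    Finset.sum_eq_zero fun v _ => Finset.sum_eq_zero fun a ha => hrel a v (Finset.mem_filter.1 ha).2
  have hswap : ∑ v : Vv n, ∑ a ∈ Finset.univ.filter (fun a : S.1 => form (a : Vv n) v = 1),
      ρ (tv (v + a)) f = ∑ v : Vv n, ∑ a ∈ Finset.univ.filter (fun a : S.1 => form (a : Vv n) v = 1),
      ρ (tv v) f := by
    simp only [Finset.sum_filter]
    rw [Finset.sum_comm]
    conv_rhs => rw [Finset.sum_comm]
    refine Finset.sum_congr rfl fun a _ => ?_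
    refine Fintype.sum_equiv (Equiv.addRight (a : Vv n)) _ _ fun v => ?_
    rw [Equiv.coe_addRight]
    have : form (a : Vv n) (v + a) = form (a : Vv n) v := by
      rw [form_add_right, form_self, add_zero]
    rw [this]
  have h1 : ∑ v : Vv n, ((Finset.univ.filter (fun a : S.1 => form (a : Vv n) v = 1)).card : ℂ) •
      (f + (2 : ℂ) • ρ (tv v) f) = 0 := by
    rw [← hsum]
    simp only [Finset.sum_add_distrib]
    rw [hswap, add_assoc, ← Finset.sum_add_distrib, ← Finset.sum_add_distrib]
    refine Finset.sum_congr rfl fun v _ => ?_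
    rw [Finset.sum_const, Finset.sum_const, ← two_smul ℂ, ← Nat.cast_smul_eq_nsmul ℂ,
      ← Nat.cast_smul_eq_nsmul ℂ, smul_add, smul_comm (2 : ℂ)]
  -- multiply by two
  have h2 : ∑ v : Vv n, (if v ∈ S.1 then (0 : V) else (2 : ℂ) ^ n • (f + (2 : ℂ) • ρ (tv v) f)) = 0 := by
    have h3 := congrArg (fun w => (2 : ℂ) • w) h1
    simp only [smul_zero] at h3
    rw [Finset.smul_sum] at h3
    refine Eq.trans (Finset.sum_congr rfl fun v _ => ?_) h3
    by_cases hv : v ∈ S.1
    · rw [if_pos hv]
      have : (Finset.univ.filter (fun a : S.1 => form (a : Vv n) v = 1)) = ∅ := by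
        rw [Finset.filter_eq_empty_iff]
        intro a _
        rw [S.2.1 _ a.2 _ hv]
        decide
      rw [this, Finset.card_empty, Nat.cast_zero, zero_smul, smul_zero]
    · rw [if_neg hv, smul_smul]
      congr 1
      exact_mod_cast (card_half S hv).symm
  have h3 : ∑ v : Vv n, (if v ∈ S.1 then (0 : V) else (f + (2 : ℂ) • ρ (tv v) f)) = 0 := by
    have h4 : (2 : ℂ) ^ n • ∑ v : Vv n, (if v ∈ S.1 then (0 : V) else (f + (2 : ℂ) • ρ (tv v) f)) = 0 := by
      rw [Finset.smul_sum]
      refine Eq.trans (Finset.sum_congr rfl fun v _ => ?_) h2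
      split_ifs
      · rw [smul_zero]
      · rfl
    exact (smul_eq_zero.1 h4).resolve_left (pow_ne_zero _ two_ne_zero)
  have h4 : ∑ v : Vv n, (f + (2 : ℂ) • ρ (tv v) f) =
      ∑ v : Vv n, (if v ∈ S.1 then (3 : ℂ) • f else 0) := by
    have h6 : ∑ v : Vv n, (f + (2 : ℂ) • ρ (tv v) f) = ∑ v : Vv n, (f + (2 : ℂ) • ρ (tv v) f) -
        ∑ v : Vv n, (if v ∈ S.1 then (0 : V) else (f + (2 : ℂ) • ρ (tv v) f)) := by rw [h3, sub_zero]
    rw [h6, ← Finset.sum_sub_distrib]
    refine Finset.sum_congr rfl fun v _ => ?_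
    by_cases hv : v ∈ S.1
    · rw [if_pos hv, if_pos hv, sub_zero, hf v hv]
      module
    · rw [if_neg hv, if_neg hv, sub_self]
  have hc1 : ∑ v : Vv n, f = ((2 : ℂ) ^ n * 2 ^ n) • f := by
    rw [Finset.sum_const, Finset.card_univ, ← Nat.cast_smul_eq_nsmul ℂ, Fintype.card_prod]
    simp only [ZMod.card, _root_.Fintype.card_pi, _root_.Finset.prod_const, _root_.Finset.card_univ, _root_.Fintype.card_fin, _root_.Nat.cast_mul, _root_.Nat.cast_pow, _root_.Nat.cast_ofNat]
  have hc2 : ∑ v : Vv n, (if v ∈ S.1 then (3 : ℂ) • f else 0) = ((2 : ℂ) ^ n * 3) • f := by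
    rw [← Finset.sum_filter, Finset.sum_const, ← Nat.cast_smul_eq_nsmul ℂ, smul_smul]
    have h7 : (Finset.univ.filter fun v : Vv n => v ∈ S.1).card = 2 ^ n := by
      rw [← card_lag S, Nat.card_eq_fintype_card, Fintype.card_subtype]
    rw [h7]
    simp
  rw [Finset.sum_add_distrib, hc1, hc2, ← Finset.smul_sum] at h4
  have h5 : (2 : ℂ) • ∑ v : Vv n, ρ (tv v) f = ((2 : ℂ) ^ n * 3) • f - ((2 : ℂ) ^ n * 2 ^ n) • f := by
    rw [← h4]
    abel
  rw [h5, ← sub_smul]
  congr 1
  ring

end rep

open scoped Classical in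
/-- the value at a transvection -/
theorem val_tv {χ : IrrCharacter (Sp n)} (hk : ∀ u v : Vv n, form u v = 1 →
      NoFix (Subgroup.closure {tv u, tv v}) (χ : Sp n → ℂ)) {S : Lag n}
    (hS : ¬ NoFix (Subgroup.closure {x : Sp n | ∃ w ∈ S.1, x = tv w}) (χ : Sp n → ℂ)) {u : Vv n} (hu : u ≠ 0) :
    ((2 : ℂ) ^ n + 1) * 2 * (χ : Sp n → ℂ) (tv u) = -((2 : ℂ) ^ n - 2) * (χ : Sp n → ℂ) 1 := by
  obtain ⟨N, ρ, hirr, hρ⟩ := χ.2
  have hk' : ∀ u v : Vv n, form u v = 1 → ∀ w : Fin N → ℂ, ρ (tv u) w = w → ρ (tv v) w = w → w = 0 := by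
    intro u v huv w h1 h2
    by_contra hw
    have h3 := (md_ne_zero_iff ρ (Subgroup.closure {tv u, tv v})).2 ⟨w, hw, fun d hd => by
      induction hd using Subgroup.closure_induction with
      | mem x hx =>
        rcases hx with rfl | hx
        · exact h1
        · rw [Set.mem_singleton_iff.1 hx]
          exact h2
      | one => rw [map_one, Module.End.one_apply]
      | mul x y _ _ hx hy => rw [map_mul, Module.End.mul_apply, hy, hx]
      | inv x _ hx =>
        conv_lhs => rw [← hx]
        rw [← Module.End.mul_apply, ← map_mul, inv_mul_cancel, map_one, Module.End.one_apply]⟩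
    rw [hρ] at h3
    exact h3 ((md_eq_zero_iff _ _).2 (hk u v huv))
  obtain ⟨f, hf0, hf⟩ : ∃ w : Fin N → ℂ, w ≠ 0 ∧ ∀ d ∈ Subgroup.closure {x : Sp n | ∃ w ∈ S.1, x = tv w},
      ρ d w = w := by
    rw [← md_ne_zero_iff, hρ]
    exact fun h => hS ((md_eq_zero_iff _ _).1 h)
  have hsum := sum_tv ρ S (f := f) (fun w hw => hf _ (Subgroup.subset_closure ⟨w, hw, rfl⟩)) hk'
  have hcl := Cfsg.Agent.Characters.ClassMul.classSum_smul ρ hirr (tv u)
  rw [filter_isConj hu, Finset.sum_image (fun a ha b _ h => tv_inj (Finset.mem_filter.1 ha).2 h)] at hcl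
  have hidx : ((Subgroup.centralizer ({tv u} : Set (Sp n))).index : ℂ) = 2 ^ n * 2 ^ n - 1 := by
    rw [← Cfsg.Agent.Characters.ClassMul.card_filter_isConj, filter_isConj hu,
      Finset.card_image_of_injOn (fun a ha b _ h => tv_inj (Finset.mem_filter.1 ha).2 h),
      card_ne_zero_vec, Nat.cast_sub (Nat.one_le_iff_ne_zero.2 (by positivity))]
    push_cast
    ring
  rw [hidx, hρ] at hcl
  set c : ℂ := ((2 : ℂ) ^ n * 2 ^ n - 1) * (χ : Sp n → ℂ) (tv u) / (χ : Sp n → ℂ) 1 with hc
  have h1 : ∑ v : Vv n, ρ (tv v) f = (1 + c) • f := by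
    have h2 : ∑ v : Vv n, ρ (tv v) f = ρ (tv (0 : Vv n)) f +
        ∑ v ∈ Finset.univ.filter (fun v : Vv n => v ≠ 0), ρ (tv v) f := by
      rw [← Finset.add_sum_erase Finset.univ _ (Finset.mem_univ (0 : Vv n))]
      congr 1
      refine Finset.sum_congr ?_ fun _ _ => rfl
      ext v
      simp only [_root_.Finset.mem_erase, _root_.ne_eq, _root_.Finset.mem_univ, _root_.and_true, _root_.Finset.mem_filter, _root_.true_and]
    have h3 := congrArg (fun T => T f) hcl
    simp only [LinearMap.sum_apply, LinearMap.smul_apply, Module.End.one_apply] at h3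
    rw [h2, h3, tv_zero, map_one, Module.End.one_apply, add_smul, one_smul]
  rw [h1, smul_smul] at hsum
  have h4 : (2 : ℂ) * (1 + c) = 2 ^ n * (3 - 2 ^ n) := by
    have h5 : ((2 : ℂ) * (1 + c) - 2 ^ n * (3 - 2 ^ n)) • f = 0 := by
      rw [sub_smul, hsum, sub_self]
    exact sub_eq_zero.1 ((smul_eq_zero.1 h5).resolve_right hf0)
  have hχ1 : (χ : Sp n → ℂ) 1 ≠ 0 := isIrr_apply_one_ne_zero χ.2
  have h6 : c * (χ : Sp n → ℂ) 1 = ((2 : ℂ) ^ n * 2 ^ n - 1) * (χ : Sp n → ℂ) (tv u) := by
    rw [hc]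
    field_simp
  -- `(4^n - 1) χ(t) = - (2^n - 1)(2^n - 2)/2 χ(1)`
  have hne : (2 : ℂ) ^ n - 1 ≠ 0 ∨ n = 0 := by
    by_cases h0 : n = 0
    · exact Or.inr h0
    · left
      intro h
      have h7 : (2 : ℂ) ^ n = 1 := sub_eq_zero.1 h
      have h8 : (2 : ℕ) ^ n = 1 := by exact_mod_cast h7
      have h9 := Nat.one_lt_two_pow h0
      omega
  rcases hne with hne | h0
  · apply mul_left_cancel₀ hne
    linear_combination (-2 : ℂ) * h6 + (χ : Sp n → ℂ) 1 * h4
  · subst h0
    exact absurd (Subsingleton.elim u 0) hu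

end Cfsg.Agent.H902.EP
end

-- part: H352/EP/SpThree
section
/-!
# `Sp_2n(2)`, `p = 3`
-/

set_option autoImplicit false

open scoped ComplexConjugate
open Matrix Module

namespace Cfsg.Agent.H352.EP

open Cfsg Cfsg.Agent.Characters.Core Cfsg.Agent.H892.EP
open Cfsg.Agent.H797.EP (q0 Op rho rho_apply IsBeta QP th0_qf classInner_piL_one tv_smul_of_one)
open Cfsg.Agent.H902.EP (tv)

variable {n : ℕ}

local notation "θ₀" => Cfsg.Agent.H797.EP.th0

theorem ne_zero_of_form {u v : Vv n} (h : form u v = 1) : u ≠ 0 := by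
  rintro rfl
  rw [form_zero_left] at h
  exact zero_ne_one h

/-- the value of `beta` at the product of two transvections -/
theorem beta_mul {β : IrrCharacter (Sp n)} (hβ : IsBeta β) {u v : Vv n} (huv : form u v = 1) :
    4 * ((2 : ℂ) ^ n + 1) * (β : Sp n → ℂ) (tv u * tv v) = ((2 : ℂ) ^ n - 8) * (β : Sp n → ℂ) 1 := by
  have hvu : form v u = 1 := by rw [form_comm]; exact huv
  have hcl := isIrr_isClassFunction β.2
  have hk : ∀ u v : Vv n, form u v = 1 → NoFix (Subgroup.closure {tv u, tv v}) (β : Sp n → ℂ) :=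
    fun u v h => noFix_beta hβ h
  have hS := not_noFix_tv hβ (H797.EP.lagW n)
  have hu := Cfsg.Agent.H902.EP.val_tv hk hS (ne_zero_of_form huv)
  have hv := Cfsg.Agent.H902.EP.val_tv hk hS (ne_zero_of_form hvu)
  have huv1 : form (u + v) v = 1 := by rw [form_add_left, huv, form_self, add_zero]
  have huv' := Cfsg.Agent.H902.EP.val_tv hk hS (ne_zero_of_form huv1)
  have h6 := Cfsg.Agent.H902.EP.coset6 (isIrr_isCharacter β.2) (Cfsg.Agent.H902.EP.tv_mul_self u)
    (Cfsg.Agent.H902.EP.tv_mul_self v) (Cfsg.Agent.H902.EP.tv_braid huv) (hk u v huv) 1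
  rw [one_mul, one_mul, one_mul, one_mul, one_mul, Cfsg.Agent.H902.EP.tv_aba huv] at h6
  have hba : (β : Sp n → ℂ) (tv v * tv u) = (β : Sp n → ℂ) (tv u * tv v) := by
    have h1 := hcl (tv u * tv v) (tv v)
    rw [← h1, mul_assoc, mul_assoc, mul_inv_cancel, mul_one]
  rw [hba] at h6
  linear_combination (2 * ((2 : ℂ) ^ n + 1)) * h6 - hu - hv - huv'

/-- **`p = 3`** -/
theorem evAt_three (hn : 3 ≤ n) : EvAt 3 (Sp n) := by
  classical
  intro M hM
  by_contra hcon
  push Not at hcon
  have hp3 : Fact (Nat.Prime 3) := ⟨Nat.prime_three⟩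
  obtain ⟨β, hβ⟩ := H797.EP.exists_beta (n := n)
  have hn0 : 0 < n := by omega
  set i0 : Fin n := ⟨0, hn0⟩ with hi0
  set i1 : Fin n := ⟨1, by omega⟩ with hi1
  have hne : i0 ≠ i1 := by simp [hi0, hi1]
  set u : Vv n := bv (i0, true) + bv (i0, false) with hu
  set v : Vv n := bv (i0, true) + (bv (i1, true) + bv (i1, false)) with hv
  have huv : form u v = 1 := by
    rw [hu, hv]
    simp only [form_add_left, form_add_right, form_bv]
    simp [hne]
  have hθu : θ₀ u = 1 := by
    rw [hu]
    simp only [H797.EP.th0, bv, ↓ _root_.reduceIte, _root_.Bool.false_eq_true, _root_.Prod.mk_add_mk, _root_.add_zero, _root_.zero_add, _root_.dotProduct_single, _root_.Pi.single_eq_same, _root_.mul_one]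
  have hθv : θ₀ v = 1 := by
    rw [hv]
    simp only [H797.EP.th0, bv, hne.symm, ↓ _root_.reduceIte, _root_.Bool.false_eq_true, _root_.Prod.mk_add_mk, _root_.add_zero, _root_.zero_add, _root_.dotProduct_single, _root_.Pi.add_apply, _root_.ne_eq, _root_.not_false_eq_true, _root_.Pi.single_eq_of_ne, _root_.Pi.single_eq_same, _root_.mul_one]
  set x : Sp n := tv u * tv v with hx
  have hxq : x • q0 n = q0 n := by
    rw [hx, tv_eq, tv_eq, mul_smul, tv_smul_of_one (q0 n) hθv, tv_smul_of_one (q0 n) hθu]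
  have hx3 : ∃ k : ℕ, orderOf x = 3 ^ k := by
    have h1 : x ^ 3 = 1 := by
      have hb := Cfsg.Agent.H902.EP.tv_braid huv
      have ha := Cfsg.Agent.H902.EP.tv_aba huv
      calc x ^ 3 = (tv u * tv v * tv u) * (tv v * tv u * tv v) := by
            rw [hx, pow_succ, pow_succ, pow_one]
            simp only [mul_assoc]
        _ = (tv u * tv v * tv u) * (tv u * tv v * tv u) := by rw [← hb]
        _ = 1 := by rw [ha, Cfsg.Agent.H902.EP.tv_mul_self]
    have h2 : orderOf x ∣ 3 ^ 1 := by
      rw [pow_one]; exact orderOf_dvd_of_pow_eq_one h1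
    obtain ⟨k, -, hk⟩ := (Nat.dvd_prime_pow Nat.prime_three).1 h2
    exact ⟨k, hk⟩
  have hL : ∀ S : Lag n, x • S ≠ S := fun S => Cfsg.Agent.H902.EP.no_lag huv S
  have hz := Cfsg.Agent.H902.EP.blockPart_vanish hM hx3 hL (Commute.one_right x) (by rw [orderOf_one]; decide)
  rw [mul_one, Cfsg.Agent.H902.EP.blockPart_piL hM (rho hn0) β (rho_ne_one hn0)
    (fun h => hβ.ne_one hn0 (by rw [h]; rfl)) (rho_ne_beta (by omega) hβ) classInner_piL_one
    (fun χ hχ h => odd_cases hn hβ χ h (by
      rw [← Nat.not_even_iff_odd, even_iff_two_dvd]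
      exact hcon χ hχ)), classInner_piL_rho hn0, hβ.piL, rho_apply] at hz
  -- the values are real
  obtain ⟨d, hd0, hd⟩ := isIrr_apply_one β.2
  have hβx := beta_mul hβ huv
  have h2n : (8 : ℝ) ≤ 2 ^ n := by
    have h1 : (2 : ℕ) ^ 3 ≤ 2 ^ n := Nat.pow_le_pow_right (by norm_num) hn
    have h2 : ((2 ^ 3 : ℕ) : ℝ) ≤ ((2 ^ n : ℕ) : ℝ) := by exact_mod_cast h1
    push_cast at h2
    linarith only [h2]
  obtain ⟨b, hb0, hb⟩ : ∃ b : ℝ, 0 ≤ b ∧ (β : Sp n → ℂ) x = b := by
    refine ⟨((2 : ℝ) ^ n - 8) * d / (4 * ((2 : ℝ) ^ n + 1)), ?_, ?_⟩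
    · apply div_nonneg
      · exact mul_nonneg (by linarith only [h2n]) (Nat.cast_nonneg d)
      · positivity
    · have h3 : (4 * ((2 : ℂ) ^ n + 1)) ≠ 0 := by
        have : (4 * ((2 : ℝ) ^ n + 1)) ≠ 0 := by positivity
        exact_mod_cast this
      rw [hd] at hβx
      push_cast
      rw [eq_div_iff h3, mul_comm]
      exact hβx
  have hOp : (1 : ℝ) ≤ Nat.card (MulAction.fixedBy (QP n) x) := by
    have : Nonempty (MulAction.fixedBy (QP n) x) := ⟨⟨q0 n, hxq⟩⟩
    have h1 : 0 < Nat.card (MulAction.fixedBy (QP n) x) := Nat.card_pos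
    exact_mod_cast h1
  rw [hb] at hz
  unfold Op at hz
  split_ifs at hz with h1 h2 h2
  · have h3 : (1 : ℝ) + 1 * ((Nat.card (MulAction.fixedBy (QP n) x) : ℝ) - 1) + 1 * b = 0 := by exact_mod_cast hz
    linarith only [hb0, hOp, h3]
  · have h3 : (1 : ℝ) + 1 * ((Nat.card (MulAction.fixedBy (QP n) x) : ℝ) - 1) + 0 * b = 0 := by exact_mod_cast hz
    linarith only [hOp, h3]
  · have h3 : (1 : ℝ) + 0 * ((Nat.card (MulAction.fixedBy (QP n) x) : ℝ) - 1) + 1 * b = 0 := by exact_mod_cast hz
    linarith only [hb0, h3]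
  · have h3 : (1 : ℝ) + 0 * ((Nat.card (MulAction.fixedBy (QP n) x) : ℝ) - 1) + 0 * b = 0 := by exact_mod_cast hz
    linarith only [h3]

end Cfsg.Agent.H352.EP
end

-- part: H797/EP/Sec
section
/-!
# Sums over sections

`sec_sum`: the sum over the `p`-section of `u` is `|G : C(u)|` times the sum of `f (u r)` over the `p`-regular
elements `r` of `C(u)`; `t0_sum`: if every constituent of `Φ` in the principal block belongs to the list `T` (with
multiplicity one), then `∑ Φ (u r) = ∑_{χ ∈ T} ∑ χ (u r)`.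
-/

set_option autoImplicit false
set_option linter.unusedSectionVars false

open scoped ComplexConjugate
open Cfsg Cfsg.Agent.Characters.Core Cfsg.Agent.H892.EP

namespace Cfsg.Agent.H797.EP

universe u

variable {G : Type u} [Group G] [Fintype G] {p : ℕ} [hp : Fact p.Prime]

open scoped Classical in
/-- the `p`-regular elements of the centralizer of `u` -/
noncomputable def reg (p : ℕ) (u : G) : Finset G := Finset.univ.filter fun r => Commute u r ∧ ¬ p ∣ orderOf r

theorem mem_reg {u r : G} : r ∈ reg p u ↔ Commute u r ∧ ¬ p ∣ orderOf r := by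
  simp [reg]

theorem one_mem_reg (u : G) : (1 : G) ∈ reg p u :=
  mem_reg.2 ⟨Commute.one_right u, by rw [orderOf_one]; exact hp.out.not_dvd_one⟩

open scoped Classical in
theorem sec_sum {f : G → ℂ} (hf : IsClassFunction G f) {u : G} (hu : ∃ k : ℕ, orderOf u = p ^ k) :
    (Nat.card (Subgroup.centralizer ({u} : Set G)) : ℂ) *
      ∑ᶠ z ∈ {z : G | ∃ w, IsPPart p z w ∧ IsConj u w}, f z =
    (Nat.card G : ℂ) * ∑ r ∈ reg p u, f (u * r) := by
  rw [finsum_mem_eq_finite_toFinset_sum _ (Set.toFinite _)]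
  set S := (Set.toFinite {z : G | ∃ w, IsPPart p z w ∧ IsConj u w}).toFinset with hS
  have hmem : ∀ z, z ∈ S ↔ ∃ w, IsPPart p z w ∧ IsConj u w := fun z => by
    rw [hS, Set.Finite.mem_toFinset]
    rfl
  -- double counting
  have h1 : ∀ z ∈ S, (Nat.card (Subgroup.centralizer ({u} : Set G)) : ℂ) * f z =
      ∑ g : G, if IsPPart p z (g * u * g⁻¹) then f z else 0 := by
    intro z hz
    obtain ⟨w, hw, hconj⟩ := (hmem z).1 hz
    obtain ⟨g0, rfl⟩ := isConj_iff.1 hconj
    rw [← Finset.sum_filter, Finset.sum_const, nsmul_eq_mul]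
    congr 2
    rw [Nat.card_eq_fintype_card, ← Finset.card_univ]
    refine Finset.card_bij (fun c _ => g0 * (c : G)) ?_ ?_ ?_
    · intro c _
      rw [Finset.mem_filter]
      refine ⟨Finset.mem_univ _, ?_⟩
      have hc := Subgroup.mem_centralizer_singleton_iff.1 c.2
      have e1 : g0 * (c : G) * u * (g0 * (c : G))⁻¹ = g0 * u * g0⁻¹ := by
        rw [mul_assoc g0, hc]
        group
      rw [e1]
      exact hw
    · intro c _ c' _ h
      exact Subtype.ext (mul_left_cancel h)
    · intro g hg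
      rw [Finset.mem_filter] at hg
      have e1 := Blocks.PPart.isPPart_unique hw hg.2
      refine ⟨⟨g0⁻¹ * g, ?_⟩, Finset.mem_univ _, by group⟩
      rw [Subgroup.mem_centralizer_singleton_iff]
      calc g0⁻¹ * g * u = g0⁻¹ * (g * u * g⁻¹) * g := by group
        _ = g0⁻¹ * (g0 * u * g0⁻¹) * g := by rw [e1]
        _ = u * (g0⁻¹ * g) := by group
  have h2 : ∀ g : G, ∑ z ∈ S, (if IsPPart p z (g * u * g⁻¹) then f z else 0) = ∑ r ∈ reg p u, f (u * r) := by
    intro g
    rw [← Finset.sum_filter]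
    symm
    refine Finset.sum_bij (fun r _ => g * (u * r) * g⁻¹) ?_ ?_ ?_ ?_
    · intro r hr
      rw [mem_reg] at hr
      have h3 : IsPPart p (g * (u * r) * g⁻¹) (g * u * g⁻¹) :=
        Blocks.PPart.isPPart_conj (Blocks.PPart.isPPart_mul hr.1 hu hr.2) g
      rw [Finset.mem_filter, hmem]
      exact ⟨⟨_, h3, isConj_iff.2 ⟨g, rfl⟩⟩, h3⟩
    · intro r _ r' _ h
      have h3 := mul_left_cancel (mul_right_cancel h)
      exact mul_left_cancel h3
    · intro z hz
      rw [Finset.mem_filter] at hz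
      obtain ⟨y, hy1, hy2, hy3, hy4⟩ := hz.2
      refine ⟨g⁻¹ * y * g, ?_, ?_⟩
      · rw [mem_reg]
        constructor
        · show u * (g⁻¹ * y * g) = g⁻¹ * y * g * u
          have h5 : g * u * g⁻¹ * y = y * (g * u * g⁻¹) := hy2
          calc u * (g⁻¹ * y * g) = g⁻¹ * (g * u * g⁻¹ * y) * g := by group
            _ = g⁻¹ * (y * (g * u * g⁻¹)) * g := by rw [h5]
            _ = _ := by group
        · have h5 : orderOf (g⁻¹ * y * g) = orderOf y := by
            have := (MulAut.conj g⁻¹).orderOf_eq y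
            simpa only [_root_.map_inv, _root_.MulAut.inv_apply, _root_.MulAut.conj_symm_apply] using this
          rw [h5]
          exact hy4
      · rw [← hy1]
        group
    · intro r _
      exact (hf (u * r) g).symm
  rw [Finset.mul_sum, Finset.sum_congr rfl h1, Finset.sum_comm, Finset.sum_congr rfl fun g _ => h2 g,
    Finset.sum_const, Finset.card_univ, nsmul_eq_mul, Nat.card_eq_fintype_card]

variable {M : Ideal AlgInt}

/-- **(T0)** -/
theorem mem_of_sum (hM : IsPModular p M) (χ : IrrCharacter G) {u : G} (hu : ∃ k : ℕ, orderOf u = p ^ k)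
    (h : ∑ r ∈ reg p u, (χ : G → ℂ) (u * r) ≠ 0) : χ ∈ principalBlock M G := by
  refine mem_of_section_sum hM χ u fun h0 => h ?_
  have h1 := sec_sum (isIrr_isClassFunction χ.2) hu
  rw [h0, mul_zero] at h1
  exact (mul_eq_zero.1 h1.symm).resolve_left card_ne_zero_complex

/-- comparison of section sums -/
theorem t0_sum (hM : IsPModular p M) {Φ : G → ℂ} (hΦ : IsCharacter G Φ) (T : Finset (IrrCharacter G))
    (hT : ∀ χ : IrrCharacter G, classInner Φ (χ : G → ℂ) ≠ 0 → χ ∈ principalBlock M G → χ ∈ T) {u : G}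
    (hu : ∃ k : ℕ, orderOf u = p ^ k) :
    ∑ r ∈ reg p u, Φ (u * r) = ∑ χ ∈ T, classInner Φ (χ : G → ℂ) * ∑ r ∈ reg p u, (χ : G → ℂ) (u * r) := by
  classical
  have : Finite (IrrCharacter G) := finite_irr
  have := Fintype.ofFinite (IrrCharacter G)
  have h1 : ∀ g, Φ g = ∑ χ : IrrCharacter G, classInner Φ (χ : G → ℂ) * (χ : G → ℂ) g := by
    intro g
    have h5 := congrFun (classFunction_eq_sum (isCharacter_isClassFunction hΦ)) g
    rw [Finset.sum_apply] at h5
    simpa only [Pi.smul_apply, smul_eq_mul] using h5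
  rw [Finset.sum_congr rfl fun r _ => h1 (u * r), Finset.sum_comm]
  have h4 : ∀ χ : IrrCharacter G, ∑ r ∈ reg p u, classInner Φ (χ : G → ℂ) * (χ : G → ℂ) (u * r) =
      classInner Φ (χ : G → ℂ) * ∑ r ∈ reg p u, (χ : G → ℂ) (u * r) := fun χ => (Finset.mul_sum _ _ _).symm
  rw [Finset.sum_congr rfl fun χ _ => h4 χ]
  symm
  refine Finset.sum_subset (Finset.subset_univ T) fun χ _ hχ => ?_
  by_cases h2 : classInner Φ (χ : G → ℂ) = 0
  · rw [h2, zero_mul]
  · by_cases h3 : ∑ r ∈ reg p u, (χ : G → ℂ) (u * r) = 0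
    · rw [h3, mul_zero]
    · exact absurd (hT χ h2 (mem_of_sum hM χ hu h3)) hχ

/-- counting on a coset of a subgroup which is transitive on a subset -/
theorem coset_count {Ω : Type*} [MulAction G Ω] [Finite Ω] (X : Set Ω) (Y : Subgroup G) [Fintype Y] (g : G)
    (hg : ∀ ω ∈ X, g⁻¹ • ω ∈ X) (hY : ∀ y ∈ Y, ∀ ω ∈ X, y • ω ∈ X)
    (htr : ∀ ω ∈ X, ∀ ω' ∈ X, ∃ y ∈ Y, y • ω = ω') (hne : X.Nonempty) :
    ∑ y : Y, (Nat.card {ω : Ω // ω ∈ X ∧ (g * (y : G)) • ω = ω} : ℂ) = Nat.card Y := by
  classical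
  have := Fintype.ofFinite Ω
  obtain ⟨ω₀, hω₀⟩ := hne
  have h1 : ∀ y : Y, (Nat.card {ω : Ω // ω ∈ X ∧ (g * (y : G)) • ω = ω} : ℂ) =
      ((∑ ω : Ω, if ω ∈ X ∧ (g * (y : G)) • ω = ω then 1 else 0 : ℕ) : ℂ) := by
    intro y
    rw [Nat.card_eq_fintype_card, Fintype.card_subtype, ← Finset.sum_filter, Finset.sum_const, smul_eq_mul,
      mul_one]
  rw [Finset.sum_congr rfl fun y _ => h1 y, ← Nat.cast_sum, Finset.sum_comm]
  congr 1
  -- for `ω ∈ X`: the number of `y` with `y ω = g⁻¹ ω` is the number of `y` with `y ω₀ = ω`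
  have h2 : ∀ ω : Ω, (∑ y : Y, if ω ∈ X ∧ (g * (y : G)) • ω = ω then 1 else 0) =
      ∑ y : Y, if (y : G) • ω₀ = ω then 1 else 0 := by
    intro ω
    by_cases hω : ω ∈ X
    · obtain ⟨a, ha, haω⟩ := htr ω₀ hω₀ ω hω
      obtain ⟨b, hb, hbω⟩ := htr ω hω (g⁻¹ • ω) (hg ω hω)
      -- y ↦ b⁻¹ y a
      refine Fintype.sum_equiv ((Equiv.mulLeft (⟨b, hb⟩ : Y)⁻¹).trans (Equiv.mulRight (⟨a, ha⟩ : Y))) _ _
        fun y => ?_
      show (if ω ∈ X ∧ (g * (y : G)) • ω = ω then 1 else 0) =
        if ((((⟨b, hb⟩ : Y)⁻¹ * y) * (⟨a, ha⟩ : Y) : Y) : G) • ω₀ = ω then 1 else 0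
      have e1 : ((((⟨b, hb⟩ : Y)⁻¹ * y) * (⟨a, ha⟩ : Y) : Y) : G) = b⁻¹ * y * a := rfl
      have e2 : (ω ∈ X ∧ (g * (y : G)) • ω = ω) ↔ (b⁻¹ * (y : G) * a) • ω₀ = ω := by
        rw [mul_smul _ a, haω, mul_smul b⁻¹, inv_smul_eq_iff, hbω, and_iff_right hω, mul_smul,
          eq_inv_smul_iff]
      rw [e1]
      by_cases h3 : (b⁻¹ * (y : G) * a) • ω₀ = ω
      · rw [if_pos h3, if_pos (e2.2 h3)]
      · rw [if_neg h3, if_neg fun h4 => h3 (e2.1 h4)]
    · rw [Finset.sum_eq_zero fun y _ => if_neg fun h => hω h.1, Finset.sum_eq_zero]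
      intro y _
      refine if_neg fun h => hω ?_
      rw [← h]
      exact hY y y.2 ω₀ hω₀
  rw [Finset.sum_congr rfl fun ω _ => h2 ω, Finset.sum_comm]
  simp only [_root_.Finset.sum_ite_eq, _root_.Finset.mem_univ, ↓ _root_.reduceIte, _root_.Finset.sum_const, _root_.Finset.card_univ, _root_.smul_eq_mul, _root_.mul_one, _root_.Nat.card_eq_fintype_card]

end Cfsg.Agent.H797.EP
end

-- part: H797/EP/OddX
section
/-!
# The section of an element of odd type

`XD p x N N' V2`: `x` of order `p` with `Vv n = N + N' + V2`, `V2 = Fix x`, `N`, `N'` isotropic, preserved by the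
centralizer of `x`. `Yg V2` = the group generated by the transvections of `V2`. Section sums of `piL`, `Op`, `beta`.
-/

set_option autoImplicit false
set_option linter.unusedSectionVars false

open scoped Pointwise Matrix ComplexConjugate
open Matrix Module Cfsg Cfsg.Agent.Characters.Core

namespace Cfsg.Agent.H797.EP

open Cfsg.Agent.H352.EP

variable {n : ℕ}

/-- the configuration -/
structure XD (p : ℕ) (x : Sp n) (N N' V2 : Submodule (ZMod 2) (Vv n)) : Prop where
  ord : orderOf x = p
  fix : ∀ v, v ∈ V2 ↔ x • v = v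
  isoN : ∀ u ∈ N, ∀ v ∈ N, form u v = 0
  isoN' : ∀ u ∈ N', ∀ v ∈ N', form u v = 0
  dec : ∀ v, ∃ a ∈ N, ∃ b ∈ N', ∃ c ∈ V2, v = a + b + c
  orthN : ∀ u ∈ N, ∀ v ∈ V2, form u v = 0
  orthN' : ∀ u ∈ N', ∀ v ∈ V2, form u v = 0
  centN : ∀ c : Sp n, Commute x c → ∀ v ∈ N, c • v ∈ N
  centN' : ∀ c : Sp n, Commute x c → ∀ v ∈ N', c • v ∈ N'
  leW : N ≤ (lagW n).1
  leC : N' ≤ (lagC n).1
  qfix : x • q0 n = q0 n

/-- the group generated by the transvections of a subspace -/
def Yg (V2 : Submodule (ZMod 2) (Vv n)) : Subgroup (Sp n) := Subgroup.closure {g | ∃ w ∈ V2, g = tv w}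

theorem tv_mem_Yg {V2 : Submodule (ZMod 2) (Vv n)} {w : Vv n} (hw : w ∈ V2) : tv w ∈ Yg V2 :=
  Subgroup.subset_closure ⟨w, hw, rfl⟩

theorem Yg_fix {V2 : Submodule (ZMod 2) (Vv n)} {y : Sp n} (hy : y ∈ Yg V2) :
    ∀ u : Vv n, (∀ w ∈ V2, form u w = 0) → y • u = u := by
  have h : Yg V2 ≤ { carrier := {y : Sp n | ∀ u : Vv n, (∀ w ∈ V2, form u w = 0) → y • u = u},
                     one_mem' := fun u _ => one_smul _ u,
                     mul_mem' := fun {a b} ha hb u hu => by rw [mul_smul, hb u hu, ha u hu],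
                     inv_mem' := fun {a} ha u hu => by rw [inv_smul_eq_iff, ha u hu] } := by
    refine (Subgroup.closure_le _).2 ?_
    rintro _ ⟨w, hw, rfl⟩ u hu
    rw [tv_smul, hu w hw, zero_smul, add_zero]
  exact h hy

theorem conj_tv (c : Sp n) (w : Vv n) : c * tv w * c⁻¹ = tv (c • w) := by
  refine Subtype.ext (LinearEquiv.ext fun v => ?_)
  show (c * tv w * c⁻¹) • v = tv (c • w) • v
  rw [mul_smul, mul_smul, tv_smul, tv_smul, smul_add, smul_inv_smul]
  congr 1
  have h1 : form (c⁻¹ • v) w = form v (c • w) := by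
    rw [← form_smul c, smul_inv_smul]
  rw [h1]
  rcases z2 (form v (c • w)) with h | h <;> rw [h]
  · rw [zero_smul, zero_smul, smul_zero]
  · rw [one_smul, one_smul]

variable {p : ℕ} {x : Sp n} {N N' V2 : Submodule (ZMod 2) (Vv n)}

theorem XD.c_mem (D : XD p x N N' V2) {c : Sp n} (hc : Commute x c) {v : Vv n} (hv : v ∈ V2) : c • v ∈ V2 := by
  rw [D.fix] at hv ⊢
  rw [← mul_smul, hc.eq, mul_smul, hv]

theorem XD.conj_mem (D : XD p x N N' V2) {c : Sp n} (hc : Commute x c) {y : Sp n} (hy : y ∈ Yg V2) :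
    c * y * c⁻¹ ∈ Yg V2 := by
  induction hy using Subgroup.closure_induction with
  | mem y hy =>
    obtain ⟨w, hw, rfl⟩ := hy
    rw [conj_tv]
    exact tv_mem_Yg (D.c_mem hc hw)
  | one => rw [mul_one, mul_inv_cancel]; exact one_mem _
  | mul a b _ _ ha hb =>
    have e : c * (a * b) * c⁻¹ = (c * a * c⁻¹) * (c * b * c⁻¹) := by group
    rw [e]
    exact mul_mem ha hb
  | inv a _ ha =>
    have e : c * a⁻¹ * c⁻¹ = (c * a * c⁻¹)⁻¹ := by group
    rw [e]
    exact inv_mem ha

theorem XD.comm (D : XD p x N N' V2) {y : Sp n} (hy : y ∈ Yg V2) : Commute x y := by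
  induction hy using Subgroup.closure_induction with
  | mem y hy =>
    obtain ⟨w, hw, rfl⟩ := hy
    have h1 := conj_tv x w
    rw [(D.fix w).1 hw] at h1
    exact mul_inv_eq_iff_eq_mul.1 h1
  | one => exact Commute.one_right x
  | mul a b _ _ ha hb => exact ha.mul_right hb
  | inv a _ ha => exact ha.inv_right

/-- the order of `r y` -/
theorem XD.mul_mem_reg [Fact p.Prime] (D : XD p x N N' V2) (hpY : ¬ p ∣ Nat.card (Yg V2)) {r y : Sp n}
    (hr : r ∈ reg p x) (hy : y ∈ Yg V2) : r * y ∈ reg p x := by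
  rw [mem_reg] at hr ⊢
  refine ⟨hr.1.mul_right (D.comm hy), fun hd => ?_⟩
  have h1 : ∀ k : ℕ, ∃ z ∈ Yg V2, (r * y) ^ k = r ^ k * z := by
    intro k
    induction k with
    | zero => exact ⟨1, one_mem _, by simp⟩
    | succ k ih =>
      obtain ⟨z, hz, h2⟩ := ih
      refine ⟨r⁻¹ * z * r * y, mul_mem ?_ hy, ?_⟩
      · have := D.conj_mem hr.1.inv_right hz
        rwa [inv_inv] at this
      · rw [pow_succ, h2, pow_succ]
        group
  obtain ⟨z, hz, h2⟩ := h1 (orderOf r)
  rw [pow_orderOf_eq_one, one_mul] at h2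
  have h3 : orderOf (r * y) ∣ orderOf r * Nat.card (Yg V2) := by
    apply orderOf_dvd_of_pow_eq_one
    rw [pow_mul, h2]
    have h4 : orderOf z ∣ Nat.card (Yg V2) := by
      have := orderOf_dvd_natCard (⟨z, hz⟩ : Yg V2)
      rwa [Subgroup.orderOf_mk] at this
    exact orderOf_dvd_iff_pow_eq_one.1 h4
  rcases (Nat.Prime.dvd_mul Fact.out).1 (hd.trans h3) with h4 | h4
  · exact hr.2 h4
  · exact hpY h4

/-- averaging over cosets of `Y` -/
theorem XD.avg [Fact p.Prime] (D : XD p x N N' V2) (hpY : ¬ p ∣ Nat.card (Yg V2)) [Fintype (Yg V2)]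
    (f : Sp n → ℂ) : ∑ r ∈ reg p x, ∑ y : Yg V2, f (x * r * (y : Sp n)) =
      Nat.card (Yg V2) * ∑ r ∈ reg p x, f (x * r) := by
  rw [Finset.sum_comm]
  have h1 : ∀ y : Yg V2, ∑ r ∈ reg p x, f (x * r * (y : Sp n)) = ∑ r ∈ reg p x, f (x * r) := by
    intro y
    refine Finset.sum_bij (fun r _ => r * (y : Sp n)) ?_ ?_ ?_ ?_
    · intro r hr
      exact D.mul_mem_reg hpY hr y.2
    · intro r _ r' _ h
      exact mul_right_cancel h
    · intro r hr
      exact ⟨r * (y : Sp n)⁻¹, D.mul_mem_reg hpY hr (inv_mem y.2), by group⟩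
    · intro r _
      rw [mul_assoc]
  rw [Finset.sum_congr rfl fun y _ => h1 y, Finset.sum_const, Finset.card_univ, nsmul_eq_mul,
    Nat.card_eq_fintype_card]

/-! ### Fixed forms -/

theorem XD.trans_forms (D : XD p x N N' V2) {θ θ' : QP n} (h : x • θ = θ) (h' : x • θ' = θ') :
    ∃ y ∈ Yg V2, y • θ = θ' := by
  obtain ⟨w, hw⟩ := exists_shift θ.2.1 θ'.2.1
  refine ⟨tv w, tv_mem_Yg ?_, ?_⟩
  · rw [D.fix]
    have h1 : ∀ v, form w (x⁻¹ • v) = form w v := by
      intro v
      have e1 : θ'.1 (x⁻¹ • v) = θ'.1 v := congrFun (congrArg Subtype.val h') v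
      have e2 : θ.1 (x⁻¹ • v) = θ.1 v := congrFun (congrArg Subtype.val h) v
      have e3 := hw (x⁻¹ • v)
      rw [e1, e2, hw] at e3
      exact (add_left_cancel e3).symm
    have h2 : x • w + w = 0 := by
      apply eq_zero_of_form
      intro v
      rw [form_add_left]
      have e1 : form (x • w) v = form w (x⁻¹ • v) := by
        rw [← form_smul x w, smul_inv_smul]
      rw [e1, h1, z2add]
    calc x • w = x • w + w + w := by rw [add_assoc, vadd, add_zero]
      _ = w := by rw [h2, zero_add]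
  · refine Subtype.ext (funext fun v => ?_)
    rw [QP.coe_smul, sm_tv_of_zero θ.2.1 (arf θ.2 θ'.2 hw), hw]

theorem XD.sum_Op [Fact p.Prime] (D : XD p x N N' V2) (hpY : ¬ p ∣ Nat.card (Yg V2)) [Fintype (Yg V2)]
    {r : Sp n} (hr : r ∈ reg p x) : ∑ y : Yg V2, Op (x * r * (y : Sp n)) = Nat.card (Yg V2) := by
  rw [← coset_count (Ω := QP n) {θ | x • θ = θ} (Yg V2) (x * r)]
  · refine Finset.sum_congr rfl fun y _ => ?_
    unfold Op
    congr 1
    refine Nat.card_congr (Equiv.subtypeEquivRight fun θ => ?_)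
    constructor
    · intro h
      refine ⟨?_, h⟩
      obtain ⟨m, hm⟩ := Cfsg.Agent.Blocks.PPart.exists_pow_eq (G := Sp n) p
      have h1 := mem_reg.1 (D.mul_mem_reg hpY hr y.2)
      have h2 := hm (x * (r * (y : Sp n))) x ⟨_, rfl, h1.1, ⟨1, by rw [D.ord, pow_one]⟩, h1.2⟩
      show x • θ = θ
      have h3 : (x * r * (y : Sp n)) ^ m • θ = θ := by
        have h4 : x * r * (y : Sp n) ∈ MulAction.stabilizer (Sp n) θ := h
        exact pow_mem h4 m
      rw [mul_assoc, h2] at h3
      exact h3
    · exact fun h => h.2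
  · intro θ hθ
    have hθ' : x • θ = θ := hθ
    have hr' := (mem_reg.1 hr).1
    show x • (x * r)⁻¹ • θ = (x * r)⁻¹ • θ
    have hc : Commute x (x * r)⁻¹ := ((Commute.refl x).mul_right hr').inv_right
    rw [← mul_smul, hc.eq, mul_smul, hθ']
  · intro y hy θ hθ
    have hθ' : x • θ = θ := hθ
    show x • y • θ = y • θ
    rw [← mul_smul, (D.comm hy).eq, mul_smul, hθ']
  · intro θ hθ θ' hθ'
    exact D.trans_forms hθ hθ'
  · exact ⟨q0 n, D.qfix⟩

/-! ### Lagrangians -/

/-- `Y` is transitive on the Lagrangians containing `N`. -/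
theorem trans_lag_aux (N V2 : Submodule (ZMod 2) (Vv n))
    (hN : ∀ S : Lag n, N ≤ S.1 → ∀ v ∈ S.1, ∃ a ∈ N, ∃ c ∈ V2, c ∈ S.1 ∧ v = a + c) (horth : ∀ u ∈ N, ∀ v ∈ V2, form u v = 0)
    (k : ℕ) : ∀ S S' : Lag n, N ≤ S.1 → N ≤ S'.1 → n - finrank (ZMod 2) ↥(S.1 ⊓ S'.1) = k →
    ∃ g ∈ Yg V2, g • S = S' := by
  induction k using Nat.strong_induction_on with
  | _ k ih =>
  intro S S' hNS hNS' h
  have hSn : finrank (ZMod 2) S.1 = n := S.2.2
  have hSn' : finrank (ZMod 2) S'.1 = n := S'.2.2
  by_cases hle : S.1 ≤ S'.1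
  · refine ⟨1, one_mem _, ?_⟩
    rw [one_smul]
    exact Lag.ext (Submodule.eq_of_le_of_finrank_eq hle (hSn.trans hSn'.symm))
  obtain ⟨v0, hv0, hv0'⟩ := SetLike.not_le_iff_exists.1 hle
  obtain ⟨a, ha, v, hvV, hv, rfl⟩ := hN S hNS v0 hv0
  have hv' : v ∉ S'.1 := fun h1 => hv0' (add_mem (hNS' ha) h1)
  rw [lag_mem_iff] at hv'
  push Not at hv'
  obtain ⟨u0, hu0, huv0⟩ := hv'
  obtain ⟨a', ha', u, huV, hu, rfl⟩ := hN S' hNS' u0 hu0
  have huv : form u v ≠ 0 := by
    rw [form_add_left, horth a' ha' v hvV, zero_add] at huv0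
    exact huv0
  have huv1 : form u v = 1 := (z2 _).resolve_left huv
  have htv : tv (u + v) • v = u := by
    rw [tv_smul, form_add_right, form_comm v u, huv1, form_self, add_zero, one_smul, add_comm u v,
      ← add_assoc, vadd, zero_add]
  have hfix : ∀ s ∈ S.1 ⊓ S'.1, tv (u + v) • s = s := by
    intro s hs
    rw [tv_smul, form_add_right, S.2.1 s hs.1 v hv, S'.2.1 s hs.2 u hu, add_zero, zero_smul, add_zero]
  have huS : u ∉ S.1 := fun h1 => huv (S.2.1 u h1 v hv)
  have hlt : S.1 ⊓ S'.1 < (tv (u + v) • S).1 ⊓ S'.1 := by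
    refine lt_of_le_of_ne ?_ ?_
    · intro s hs
      refine ⟨?_, hs.2⟩
      rw [← hfix s hs]
      exact (smul_mem_act _ _ _).2 hs.1
    · intro he
      apply huS
      have h1 : u ∈ (tv (u + v) • S).1 ⊓ S'.1 := by
        refine ⟨?_, hu⟩
        have h2 : tv (u + v) • v ∈ (tv (u + v) • S).1 := (smul_mem_act _ _ _).2 hv
        rw [htv] at h2
        exact h2
      rw [← he] at h1
      exact h1.1
  have hlt' := Submodule.finrank_lt_finrank_of_lt hlt
  have hle' : finrank (ZMod 2) ↥((tv (u + v) • S).1 ⊓ S'.1) ≤ n := by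
    have := Submodule.finrank_mono (inf_le_right : (tv (u + v) • S).1 ⊓ S'.1 ≤ S'.1)
    omega
  have hNt : N ≤ (tv (u + v) • S).1 := fun s hs => by
    have h1 := hfix s ⟨hNS hs, hNS' hs⟩
    rw [← h1]
    exact (smul_mem_act _ _ _).2 (hNS hs)
  obtain ⟨g, hg, hgS⟩ := ih (n - finrank (ZMod 2) ↥((tv (u + v) • S).1 ⊓ S'.1)) (by omega) (tv (u + v) • S) S'
    hNt hNS' rfl
  exact ⟨g * tv (u + v), mul_mem hg (tv_mem_Yg (add_mem huV hvV)), by rw [mul_smul]; exact hgS⟩

/-- coset sums on the Lagrangians containing `N` -/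
theorem sum_lag (D : XD p x N N' V2) (T : Submodule (ZMod 2) (Vv n)) (hT : ∀ c : Sp n, Commute x c → ∀ v ∈ T, c • v ∈ T)
    (hdec : ∀ S : Lag n, T ≤ S.1 → ∀ v ∈ S.1, ∃ a ∈ T, ∃ c ∈ V2, c ∈ S.1 ∧ v = a + c)
    (horth : ∀ u ∈ T, ∀ v ∈ V2, form u v = 0) (L0 : Lag n) (hL0 : T ≤ L0.1) [Fintype (Yg V2)]
    {r : Sp n} (hr : Commute x r) :
    ∑ y : Yg V2, (Nat.card {S : Lag n // S ∈ {S : Lag n | T ≤ S.1} ∧ (x * r * (y : Sp n)) • S = S} : ℂ) =
      Nat.card (Yg V2) := by
  have hst : ∀ c : Sp n, Commute x c → ∀ S : Lag n, T ≤ S.1 → T ≤ (c • S).1 := by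
    intro c hc S hS v hv
    have h1 : v ∈ (c • S).1 ↔ c⁻¹ • v ∈ S.1 := mem_act _ _ _
    rw [h1]
    exact hS (hT _ hc.inv_right v hv)
  refine coset_count {S : Lag n | T ≤ S.1} (Yg V2) (x * r) ?_ ?_ ?_ ⟨L0, hL0⟩
  · intro S hS
    exact hst _ ((Commute.refl x).mul_right hr).inv_right S hS
  · intro y hy S hS
    exact hst _ (D.comm hy) S hS
  · intro S hS S' hS'
    exact trans_lag_aux T V2 hdec horth _ S S' hS hS' rfl

theorem XD.dec_lag (D : XD p x N N' V2) (S : Lag n) (hS : N ≤ S.1) (v : Vv n) (hv : v ∈ S.1) :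
    ∃ a ∈ N, ∃ c ∈ V2, c ∈ S.1 ∧ v = a + c := by
  obtain ⟨a, ha, b, hb, c, hc, rfl⟩ := D.dec v
  -- `b = 0`
  have hb0 : b = 0 := by
    apply eq_zero_of_form
    intro u
    obtain ⟨a', ha', b', hb', c', hc', rfl⟩ := D.dec u
    rw [form_add_right, form_add_right, D.isoN' b hb b' hb', D.orthN' b hb c' hc', add_zero, add_zero]
    have h1 := S.2.1 _ hv a' (hS ha')
    rw [form_add_left, form_add_left, D.isoN a ha a' ha', zero_add, form_comm c, D.orthN a' ha' c hc,
      add_zero] at h1
    exact h1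
  subst hb0
  rw [add_zero] at hv
  refine ⟨a, ha, c, hc, ?_, by rw [add_zero]⟩
  have := sub_mem hv (hS ha)
  rwa [add_sub_cancel_left] at this

theorem XD.dec_lag' (D : XD p x N N' V2) (S : Lag n) (hS : N' ≤ S.1) (v : Vv n) (hv : v ∈ S.1) :
    ∃ a ∈ N', ∃ c ∈ V2, c ∈ S.1 ∧ v = a + c := by
  obtain ⟨a, ha, b, hb, c, hc, rfl⟩ := D.dec v
  have ha0 : a = 0 := by
    apply eq_zero_of_form
    intro u
    obtain ⟨a', ha', b', hb', c', hc', rfl⟩ := D.dec u
    rw [form_add_right, form_add_right, D.isoN a ha a' ha', D.orthN a ha c' hc', add_zero, zero_add]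
    have h1 := S.2.1 _ hv b' (hS hb')
    rw [form_add_left, form_add_left, D.isoN' b hb b' hb', add_zero, form_comm c, D.orthN' b' hb' c hc,
      add_zero] at h1
    exact h1
  subst ha0
  rw [zero_add] at hv
  refine ⟨b, hb, c, hc, ?_, by rw [zero_add]⟩
  have := sub_mem hv (hS hb)
  rwa [add_sub_cancel_left] at this

/-- `N ≠ 0` -/
theorem XD.ne_bot [Fact p.Prime] (D : XD p x N N' V2) : N ≠ ⊥ := by
  rintro rfl
  -- then `N' = 0`, so `x = 1`
  have h1 : ∀ b ∈ N', b = 0 := by
    intro b hb
    apply eq_zero_of_form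
    intro u
    obtain ⟨a', ha', b', hb', c', hc', rfl⟩ := D.dec u
    rw [(Submodule.mem_bot _).1 ha', zero_add, form_add_right, D.isoN' b hb b' hb', D.orthN' b hb c' hc', add_zero]
  have h2 : x = 1 := by
    refine Subtype.ext (LinearEquiv.ext fun v => ?_)
    show x • v = v
    obtain ⟨a', ha', b', hb', c', hc', rfl⟩ := D.dec v
    rw [(Submodule.mem_bot _).1 ha', h1 b' hb', zero_add, zero_add]
    exact (D.fix c').1 hc'
  have h3 := D.ord
  rw [h2, orderOf_one] at h3
  exact (Fact.out : p.Prime).one_lt.ne h3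

theorem XD.not_both [Fact p.Prime] (D : XD p x N N' V2) (S : Lag n) (h : N ≤ S.1) (h' : N' ≤ S.1) : False := by
  apply D.ne_bot
  rw [eq_bot_iff]
  intro a ha
  rw [Submodule.mem_bot]
  apply eq_zero_of_form
  intro u
  obtain ⟨a', ha', b', hb', c', hc', rfl⟩ := D.dec u
  rw [form_add_right, form_add_right, D.isoN a ha a' ha', D.orthN a ha c' hc', S.2.1 a (h ha) b' (h' hb'),
    add_zero, add_zero]

/-- the coset sums of `piL` -/
theorem XD.sum_piL [Fact p.Prime] (D : XD p x N N' V2) [Fintype (Yg V2)] {r : Sp n} (hr : Commute x r) :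
    2 * Nat.card (Yg V2) ≤ ∑ y : Yg V2, Nat.card (MulAction.fixedBy (Lag n) (x * r * (y : Sp n))) := by
  have h1 := sum_lag D N D.centN D.dec_lag D.orthN (lagW n) D.leW hr
  have h2 := sum_lag D N' D.centN' D.dec_lag' D.orthN' (lagC n) D.leC hr
  have h1' : ∑ y : Yg V2, Nat.card {S : Lag n // S ∈ {S : Lag n | N ≤ S.1} ∧ (x * r * (y : Sp n)) • S = S} =
      Nat.card (Yg V2) := by exact_mod_cast h1
  have h2' : ∑ y : Yg V2, Nat.card {S : Lag n // S ∈ {S : Lag n | N' ≤ S.1} ∧ (x * r * (y : Sp n)) • S = S} =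
      Nat.card (Yg V2) := by exact_mod_cast h2
  have h3 : 2 * Nat.card (Yg V2) =
      ∑ y : Yg V2, (Nat.card {S : Lag n // S ∈ {S : Lag n | N ≤ S.1} ∧ (x * r * (y : Sp n)) • S = S} +
        Nat.card {S : Lag n // S ∈ {S : Lag n | N' ≤ S.1} ∧ (x * r * (y : Sp n)) • S = S}) := by
    rw [Finset.sum_add_distrib, h1', h2', two_mul]
  rw [h3]
  refine Finset.sum_le_sum fun y _ => ?_
  rw [← Nat.card_sum]
  refine Nat.card_le_card_of_injective (Sum.elim (fun S => ⟨S.1, S.2.2⟩) (fun S => ⟨S.1, S.2.2⟩)) ?_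
  rintro (S | S) (T | T) h
  · have h3 := congrArg Subtype.val h
    have h3' : S.1 = T.1 := h3
    exact congrArg Sum.inl (Subtype.ext h3')
  · exfalso
    have h3 : S.1 = T.1 := congrArg Subtype.val h
    exact D.not_both S.1 S.2.1 (by rw [h3]; exact T.2.1)
  · exfalso
    have h3 : S.1 = T.1 := congrArg Subtype.val h
    exact D.not_both T.1 T.2.1 (by rw [← h3]; exact S.2.1)
  · have h3 := congrArg Subtype.val h
    have h3' : S.1 = T.1 := h3
    exact congrArg Sum.inr (Subtype.ext h3')

/-- `beta` sums to zero on the cosets of `Y` if `V2 ≠ 0` -/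
theorem XD.sum_beta (D : XD p x N N' V2) [Fintype (Yg V2)] {β : IrrCharacter (Sp n)} (hβ : IsBeta β)
    (hV2 : V2 ≠ ⊥) (g : Sp n) : ∑ y : Yg V2, (β : Sp n → ℂ) (g * (y : Sp n)) = 0 := by
  refine beta_coset hβ (Yg V2).subtype (fun θ => ?_) g
  obtain ⟨w, hw, hw1⟩ : ∃ w ∈ V2, θ.1 w = 1 := by
    by_contra hcon
    push Not at hcon
    apply hV2
    rw [eq_bot_iff]
    intro c hc
    rw [Submodule.mem_bot]
    apply eq_zero_of_form
    intro u
    obtain ⟨a', ha', b', hb', c', hc', rfl⟩ := D.dec u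
    rw [form_add_right, form_add_right, form_comm c, form_comm c, D.orthN a' ha' c hc, D.orthN' b' hb' c hc,
      zero_add, zero_add]
    have h0 : ∀ w ∈ V2, θ.1 w = 0 := fun w hw => (z2 _).resolve_right (hcon w hw)
    have h1 := θ.2.1 c c'
    rw [h0 _ (add_mem hc hc'), h0 c hc, h0 c' hc', zero_add, zero_add] at h1
    exact h1.symm
  exact ⟨⟨tv w, tv_mem_Yg hw⟩, tv_smul_of_one θ hw1, dk_tv (ne_zero_of_one θ.2.1 hw1)⟩

/-- `beta = 1` on the section if `V2 = 0` -/
theorem XD.beta_eq_one [Fact p.Prime] (D : XD p x N N' V2) {β : IrrCharacter (Sp n)} (hβ : IsBeta β)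
    (hV2 : V2 = ⊥) {r : Sp n} (hr : r ∈ reg p x) : (β : Sp n → ℂ) (x * r) = 1 := by
  have hr' := (mem_reg.1 hr).1
  -- `N = lagW`, `N' = lagC`
  have hNW : ∀ v ∈ (lagW n).1, v ∈ N := by
    intro v hv
    obtain ⟨a, ha, b, hb, c, hc, rfl⟩ := D.dec v
    rw [hV2, Submodule.mem_bot] at hc
    subst hc
    rw [add_zero] at hv ⊢
    have h1 : b ∈ (lagW n).1 := by
      have := sub_mem hv (D.leW ha)
      rwa [add_sub_cancel_left] at this
    have h2 : b = 0 := Prod.ext ((mem_lagC b).1 (D.leC hb)) ((mem_lagW b).1 h1)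
    rw [h2, add_zero]
    exact ha
  have hNC : ∀ v ∈ (lagC n).1, v ∈ N' := by
    intro v hv
    obtain ⟨a, ha, b, hb, c, hc, rfl⟩ := D.dec v
    rw [hV2, Submodule.mem_bot] at hc
    subst hc
    rw [add_zero] at hv ⊢
    have h1 : a ∈ (lagC n).1 := by
      have := sub_mem hv (D.leC hb)
      rwa [add_sub_cancel_right] at this
    have h2 : a = 0 := Prod.ext ((mem_lagC a).1 h1) ((mem_lagW a).1 (D.leW ha))
    rw [h2, zero_add]
    exact hb
  have hst : ∀ c : Sp n, Commute x c → c • lagW n = lagW n := by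
    intro c hc
    apply Lag.ext
    symm
    apply Submodule.eq_of_le_of_finrank_eq
    · intro v hv
      have h1 : v ∈ (c • lagW n).1 ↔ c⁻¹ • v ∈ (lagW n).1 := mem_act _ _ _
      rw [h1]
      exact D.leW (D.centN _ hc.inv_right v (hNW v hv))
    · have e1 : finrank (ZMod 2) (c • lagW n).1 = n := (c • lagW n).2.2
      have e2 : finrank (ZMod 2) (lagW n).1 = n := (lagW n).2.2
      rw [e1, e2]
  refine beta_one hβ (hst _ ((Commute.refl x).mul_right hr')) fun s hs => ?_
  -- `qel s` commutes with `x`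
  have hcx : Commute x (qel s) := by
    obtain ⟨m, hm⟩ := Cfsg.Agent.Blocks.PPart.exists_pow_eq (G := Sp n) p
    have h2 := hm (x * r) x ⟨_, rfl, hr', ⟨1, by rw [D.ord, pow_one]⟩, (mem_reg.1 hr).2⟩
    have h3 : Commute (x * r) (qel s) := hs.symm
    have h4 := h3.pow_left m
    rw [h2] at h4
    exact h4
  -- it preserves `lagC`
  have h1 : ∀ b : Fin n → ZMod 2, ((s.toAdd : Sym n) : Matrix (Fin n) (Fin n) (ZMod 2)) *ᵥ b = 0 := by
    intro b
    have h2 : qel s • ((0, b) : Vv n) ∈ (lagC n).1 :=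
      D.leC (D.centN' _ hcx _ (hNC _ ((mem_lagC _).2 rfl)))
    rw [mem_lagC, qel_smul] at h2
    simpa using h2
  apply qel_injective
  rw [map_one]
  refine Subtype.ext (LinearEquiv.ext fun v => ?_)
  show qel s • v = v
  rw [qel_smul, h1, add_zero]

theorem three_le {α : Type*} [Finite α] {a b c : α} (hab : a ≠ b) (hac : a ≠ c) (hbc : b ≠ c) :
    3 ≤ Nat.card α := by
  classical
  have := Fintype.ofFinite α
  have h := Finset.card_le_univ ({a, b, c} : Finset α)
  rw [Finset.card_eq_three.2 ⟨a, b, c, hab, hac, hbc, rfl⟩] at h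
  rwa [Nat.card_eq_fintype_card]

theorem XD.three [Fact p.Prime] (D : XD p x N N' V2) (hV : V2 = ⊥) {S : Lag n} (hS : x • S = S)
    (hSW : S ≠ lagW n) (hSC : S ≠ lagC n) : 3 ≤ Nat.card (MulAction.fixedBy (Lag n) x) := by
  have hstab : ∀ (T : Submodule (ZMod 2) (Vv n)) (L : Lag n), (∀ v ∈ T, x⁻¹ • v ∈ T) → (∀ v ∈ L.1, v ∈ T) →
      T ≤ L.1 → x • L = L := by
    intro T L hT hL hT'
    apply Lag.ext
    symm
    apply Submodule.eq_of_le_of_finrank_eq
    · intro v hv
      have h1 : v ∈ (x • L).1 ↔ x⁻¹ • v ∈ L.1 := mem_act _ _ _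
      rw [h1]
      exact hT' (hT v (hL v hv))
    · have e1 : finrank (ZMod 2) (x • L).1 = n := (x • L).2.2
      have e2 : finrank (ZMod 2) L.1 = n := L.2.2
      rw [e1, e2]
  have hNW : ∀ v ∈ (lagW n).1, v ∈ N := by
    intro v hv
    obtain ⟨a, ha, b, hb, c, hc, rfl⟩ := D.dec v
    rw [hV, Submodule.mem_bot] at hc
    subst hc
    rw [add_zero] at hv ⊢
    have h1 : b ∈ (lagW n).1 := by
      have := sub_mem hv (D.leW ha)
      rwa [add_sub_cancel_left] at this
    have h2 : b = 0 := Prod.ext ((mem_lagC b).1 (D.leC hb)) ((mem_lagW b).1 h1)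
    rw [h2, add_zero]
    exact ha
  have hNC : ∀ v ∈ (lagC n).1, v ∈ N' := by
    intro v hv
    obtain ⟨a, ha, b, hb, c, hc, rfl⟩ := D.dec v
    rw [hV, Submodule.mem_bot] at hc
    subst hc
    rw [add_zero] at hv ⊢
    have h1 : a ∈ (lagC n).1 := by
      have := sub_mem hv (D.leC hb)
      rwa [add_sub_cancel_right] at this
    have h2 : a = 0 := Prod.ext ((mem_lagC a).1 h1) ((mem_lagW a).1 (D.leW ha))
    rw [h2, zero_add]
    exact hb
  have hxW : x • lagW n = lagW n :=
    hstab N (lagW n) (fun v hv => D.centN _ (Commute.refl x).inv_right v hv) hNW D.leW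
  have hxC : x • lagC n = lagC n :=
    hstab N' (lagC n) (fun v hv => D.centN' _ (Commute.refl x).inv_right v hv) hNC D.leC
  have hWC : lagW n ≠ lagC n := by
    intro he
    exact D.not_both (lagW n) D.leW (by rw [he]; exact D.leC)
  refine three_le (a := (⟨lagW n, hxW⟩ : MulAction.fixedBy (Lag n) x)) (b := ⟨lagC n, hxC⟩) (c := ⟨S, hS⟩) ?_ ?_ ?_
  · intro h
    exact hWC (congrArg Subtype.val h)
  · intro h
    exact hSW (congrArg Subtype.val h).symm
  · intro h
    exact hSC (congrArg Subtype.val h).symm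

/-- the final comparison: `Φ = piL` would satisfy `∑ piL = |R| + m ∑ rho + ∑ beta` -/
theorem XD.main [hp : Fact p.Prime] (D : XD p x N N' V2) (hpY : ¬ p ∣ Nat.card (Yg V2)) {β : IrrCharacter (Sp n)}
    (hβ : IsBeta β) (hV2 : V2 = ⊥ → ∃ S : Lag n, x • S = S ∧ S ≠ lagW n ∧ S ≠ lagC n) (m : ℂ) :
    ∑ r ∈ reg p x, piL n (x * r) ≠ ∑ r ∈ reg p x, (1 : ℂ) + m * ∑ r ∈ reg p x, (Op (x * r) - 1) +
      ∑ r ∈ reg p x, (β : Sp n → ℂ) (x * r) := by
  classical
  have := Fintype.ofFinite (Yg V2)
  have hcY : (Nat.card (Yg V2) : ℂ) ≠ 0 := by exact_mod_cast Nat.card_pos.ne'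
  have hY0 : 0 < Nat.card (Yg V2) := Nat.card_pos
  have hOp : ∑ r ∈ reg p x, (Op (x * r) - 1) = 0 := by
    have h1 := D.avg hpY Op
    rw [Finset.sum_congr rfl fun r hr => D.sum_Op hpY hr, Finset.sum_const, nsmul_eq_mul] at h1
    rw [Finset.sum_sub_distrib, Finset.sum_const, nsmul_eq_mul, mul_one]
    have h2 : (Nat.card (Yg V2) : ℂ) * (∑ r ∈ reg p x, Op (x * r) - ((reg p x).card : ℂ)) = 0 := by
      rw [mul_sub, ← h1]; ring
    exact (mul_eq_zero.1 h2).resolve_left hcY
  rw [hOp, mul_zero, add_zero, Finset.sum_const, nsmul_eq_mul, mul_one]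
  -- lower bound for the left side
  have hpi : 2 * (reg p x).card ≤ ∑ r ∈ reg p x, Nat.card (MulAction.fixedBy (Lag n) (x * r)) := by
    have h1 := D.avg hpY (piL n)
    unfold piL at h1
    have h2 : ∑ r ∈ reg p x, ∑ y : Yg V2, Nat.card (MulAction.fixedBy (Lag n) (x * r * (y : Sp n))) =
        Nat.card (Yg V2) * ∑ r ∈ reg p x, Nat.card (MulAction.fixedBy (Lag n) (x * r)) := by
      exact_mod_cast h1
    have h3 : (reg p x).card * (2 * Nat.card (Yg V2)) ≤
        ∑ r ∈ reg p x, ∑ y : Yg V2, Nat.card (MulAction.fixedBy (Lag n) (x * r * (y : Sp n))) := by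
      rw [← smul_eq_mul, ← Finset.sum_const]
      exact Finset.sum_le_sum fun r hr => D.sum_piL (mem_reg.1 hr).1
    rw [h2] at h3
    have h4 : Nat.card (Yg V2) * (2 * (reg p x).card) ≤
        Nat.card (Yg V2) * ∑ r ∈ reg p x, Nat.card (MulAction.fixedBy (Lag n) (x * r)) := by
      calc _ = (reg p x).card * (2 * Nat.card (Yg V2)) := by ring
        _ ≤ _ := h3
    exact Nat.le_of_mul_le_mul_left h4 hY0
  have hR : 0 < (reg p x).card := Finset.card_pos.2 ⟨1, one_mem_reg x⟩
  have hcast : ∑ r ∈ reg p x, piL n (x * r) =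
      ((∑ r ∈ reg p x, Nat.card (MulAction.fixedBy (Lag n) (x * r)) : ℕ) : ℂ) := by
    unfold piL
    push_cast
    rfl
  by_cases hV : V2 = ⊥
  · have hb : ∑ r ∈ reg p x, (β : Sp n → ℂ) (x * r) = ((reg p x).card : ℂ) := by
      rw [Finset.sum_congr rfl fun r hr => D.beta_eq_one hβ hV hr, Finset.sum_const, nsmul_eq_mul, mul_one]
    rw [hb, hcast]
    intro h
    have h1 : ∑ r ∈ reg p x, Nat.card (MulAction.fixedBy (Lag n) (x * r)) = (reg p x).card + (reg p x).card := by
      exact_mod_cast h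
    -- pointwise
    have hY1 : ∀ y : Yg V2, (y : Sp n) = 1 := by
      intro y
      refine Subtype.ext (LinearEquiv.ext fun v => ?_)
      refine Yg_fix y.2 v fun w hw => ?_
      rw [hV, Submodule.mem_bot] at hw
      rw [hw, form_zero_right]
    have hcY1 : Nat.card (Yg V2) = 1 := by
      have : Subsingleton (Yg V2) := ⟨fun a b => Subtype.ext ((hY1 a).trans (hY1 b).symm)⟩
      exact Nat.card_unique
    have hge : ∀ r ∈ reg p x, 2 ≤ Nat.card (MulAction.fixedBy (Lag n) (x * r)) := by
      intro r hr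
      have h2 := D.sum_piL (mem_reg.1 hr).1
      rw [hcY1, mul_one, Finset.sum_congr rfl fun y _ => by rw [hY1 y, mul_one], Finset.sum_const,
        Finset.card_univ, ← Nat.card_eq_fintype_card, hcY1, one_smul] at h2
      exact h2
    have hgt : 3 ≤ Nat.card (MulAction.fixedBy (Lag n) (x * 1)) := by
      rw [mul_one]
      obtain ⟨S, hS, hSW, hSC⟩ := hV2 hV
      exact D.three hV hS hSW hSC
    have hsum : ∑ r ∈ reg p x, 2 < ∑ r ∈ reg p x, Nat.card (MulAction.fixedBy (Lag n) (x * r)) :=
      Finset.sum_lt_sum hge ⟨1, one_mem_reg x, hgt⟩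
    rw [h1, Finset.sum_const, smul_eq_mul] at hsum
    omega
  · have hb : ∑ r ∈ reg p x, (β : Sp n → ℂ) (x * r) = 0 := by
      have h1 := D.avg hpY (β : Sp n → ℂ)
      rw [Finset.sum_congr rfl fun r _ => D.sum_beta hβ hV (x * r), Finset.sum_const, smul_zero] at h1
      exact (mul_eq_zero.1 h1.symm).resolve_left hcY
    rw [hb, hcast, add_zero]
    intro h
    have h1 : ∑ r ∈ reg p x, Nat.card (MulAction.fixedBy (Lag n) (x * r)) = (reg p x).card := by exact_mod_cast h
    omega

end Cfsg.Agent.H797.EP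
end

private theorem dce_f6b8b203e6ae : _root_.True := by
  try have : _root_.True := by simp only [_root_.Cfsg.Agent.H892.EP.NoFix.eq_1]
  try have : _root_.True := by simp only [_root_.Cfsg.Agent.H797.EP.reg.eq_1]
  exact _root_.True.intro
end

-- part: H781/EP/SpCyc
section
prune_inst 0x10000004410002
set_option linter.all false
open scoped Cfsg.Agent.FastGrp

/-!
# S4929, `Sp_{2m}(2)`: the cyclic case (helper781)

`psp2_cyc` : `d` the order of `2` modulo `p`, `m < d` or `m = d` odd: the Sylow `p`-subgroups are cyclic, `EvAt p`.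
-/

set_option autoImplicit false

open Cfsg Cfsg.Agent.H892.EP Cfsg.Agent.H352.EP Matrix

namespace Cfsg.Agent.H781.EP

theorem lel_injective (n : ℕ) : Function.Injective (lel (n := n)) := by
  intro g h hgh
  apply Units.ext
  apply Matrix.toLin'.injective
  refine LinearMap.ext fun a => ?_
  have h1 := lel_smul g (a, 0)
  rw [hgh, lel_smul] at h1
  exact (congrArg Prod.fst h1).symm

/-- `p ^ k ∣ |Sp_{2m}(2)|` implies `p ^ k ∣ 2 ^ m - 1` when `m` is odd and the order of `2` modulo `p` -/
theorem dvd_of_dvd_card {m p k : ℕ} [hp : Fact p.Prime] (hp2 : p ≠ 2) (hm : 1 ≤ m) (ho : Odd m)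
    (hd : ∀ j, p ∣ 2 ^ j - 1 ↔ m ∣ j) {N : ℕ} (hN : N ∣ 2 ^ (m ^ 2) * ∏ i ∈ Finset.range m, (2 ^ (2 * (i + 1)) - 1))
    (hk : p ^ k ∣ N) : p ^ k ∣ 2 ^ m - 1 := by
  have h2 : Nat.Coprime p 2 := (Nat.coprime_primes hp.out Nat.prime_two).2 hp2
  obtain ⟨n, rfl⟩ := Nat.exists_eq_add_of_le' hm
  have h1 := hk.trans hN
  rw [Finset.prod_range_succ] at h1
  have hc1 : Nat.Coprime (p ^ k) (2 ^ ((n + 1) ^ 2)) := Nat.Coprime.pow _ _ h2
  have h3 := hc1.dvd_of_dvd_mul_left h1
  have hc2 : Nat.Coprime (p ^ k) (∏ i ∈ Finset.range n, (2 ^ (2 * (i + 1)) - 1)) := by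
    refine Nat.Coprime.pow_left _ (Nat.Coprime.prod_right fun i hi => ?_)
    rw [Nat.Prime.coprime_iff_not_dvd hp.out, hd]
    intro hdv
    have h4 : (n + 1) ∣ i + 1 := (Nat.Coprime.dvd_mul_left (Nat.Coprime.symm (by
      rw [Nat.coprime_two_left]; exact ho))).1 hdv
    have h5 := Nat.le_of_dvd (Nat.succ_pos _) h4
    have h6 := Finset.mem_range.1 hi
    omega
  have h4 := hc2.dvd_of_dvd_mul_left h3
  have h5 : 2 ^ (2 * (n + 1)) - 1 = (2 ^ (n + 1) - 1) * (2 ^ (n + 1) + 1) := by
    have : 1 ≤ 2 ^ (n + 1) := Nat.one_le_two_pow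
    obtain ⟨t, ht⟩ := Nat.exists_eq_add_of_le' this
    rw [mul_comm 2 (n + 1), pow_mul, ht]
    have : (t + 1) ^ 2 = t * (t + 1 + 1) + 1 := by ring
    rw [this, Nat.add_sub_cancel, Nat.add_sub_cancel]
  rw [h5] at h4
  refine (Nat.Coprime.pow_left k ?_).dvd_of_dvd_mul_right h4
  rw [Nat.Prime.coprime_iff_not_dvd hp.out]
  intro h6
  have h7 : p ∣ 2 ^ (n + 1) - 1 := (hd _).2 dvd_rfl
  have h8 : p ∣ 2 := by
    have h9 := Nat.dvd_sub h6 h7
    have : 1 ≤ 2 ^ (n + 1) := Nat.one_le_two_pow
    rwa [show 2 ^ (n + 1) + 1 - (2 ^ (n + 1) - 1) = 2 by omega] at h9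
  exact hp2 ((Nat.prime_dvd_prime_iff_eq hp.out Nat.prime_two).1 h8)

/-- cyclic Sylow subgroups for `m = d` odd -/
theorem cyc_odd {m : ℕ} (hm : 2 ≤ m) {F : Type} [Field F] [Fintype F] (hF : Fintype.card F = 2) {p : ℕ}
    [hp : Fact p.Prime] (hp2 : p ≠ 2) (ho : Odd m) (hd : ∀ j, p ∣ 2 ^ j - 1 ↔ m ∣ j) (P : Sylow p (PSp m F)) :
    IsCyclic P := by
  have hfin : Finite (PSp m F) := Quotient.finite _
  obtain ⟨e⟩ := nonempty_psp_equiv (m := m) hF (by omega)
  let φ : GL (Fin m) (ZMod 2) →* PSp m F := e.toMonoidHom.comp lel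
  have hφ : Function.Injective φ := e.injective.comp (lel_injective m)
  obtain ⟨R⟩ : Nonempty (Sylow p (GL (Fin m) (ZMod 2))) := inferInstance
  have hR : IsCyclic R := Cfsg.Agent.H124.LinCyc.isCyclic_sylow_of_gl (F := ZMod 2) (ι := Fin m) hp2 (e := m) (by omega)
    (by rw [ZMod.card]; exact hd) (by rw [Fintype.card_fin]; omega) (MonoidHom.id _) Function.injective_id
    (MonoidHom.id (GL (Fin m) (ZMod 2))) Function.surjective_id R
  have hcR : IsCyclic ((R : Subgroup (GL (Fin m) (ZMod 2))).map φ) :=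
    (isCyclic_of_surjective (φ.subgroupMap (R : Subgroup _)) (φ.subgroupMap_surjective _) :)
  have hcard : Nat.card ((R : Subgroup (GL (Fin m) (ZMod 2))).map φ) = Nat.card R :=
    (Nat.card_congr (Subgroup.equivMapOfInjective _ φ hφ).toEquiv).symm
  obtain ⟨Q, hQ⟩ := (R.isPGroup'.map φ).exists_le_sylow
  -- the orders agree
  have h1 : Nat.card Q ∣ Nat.card R := by
    rw [Q.card_eq_multiplicity, R.card_eq_multiplicity, Nat.pow_dvd_pow_iff_le_right hp.out.one_lt,
      ← hp.out.pow_dvd_iff_le_factorization (Nat.card_pos.ne')]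
    have h2 : Nat.card (PSp m F) ∣ 2 ^ (m ^ 2) * ∏ i ∈ Finset.range m, (2 ^ (2 * (i + 1)) - 1) := by
      have h3 := LieClassical.SympCount.card_symplecticGroup (F := F) m
      rw [hF] at h3
      rw [← h3]
      exact Subgroup.card_quotient_dvd_card _
    refine (dvd_of_dvd_card hp2 (by omega) ho hd h2 (Nat.ordProj_dvd _ _)).trans ?_
    rw [Matrix.card_GL_field, ZMod.card]
    have h3 := Finset.dvd_prod_of_mem (fun i : Fin m => 2 ^ m - 2 ^ (i : ℕ)) (Finset.mem_univ (⟨0, by omega⟩ : Fin m))
    simpa only [_root_.pow_zero] using h3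
  have h2 : (R : Subgroup (GL (Fin m) (ZMod 2))).map φ = Q := by
    refine Subgroup.eq_of_le_of_card_ge hQ ?_
    rw [hcard]
    exact Nat.le_of_dvd Nat.card_pos h1
  have hcQ : IsCyclic Q := by
    have h3 := hcR
    rw [h2] at h3
    exact h3
  exact isCyclic_of_surjective (Q.equiv P).toMonoidHom (Q.equiv P).surjective

/-- **The cyclic case of `row_psp2`.** -/
theorem psp2_cyc {m : ℕ} (hm : 2 ≤ m) {F : Type} [Field F] [Fintype F] (hF : Fintype.card F = 2) {p : ℕ}
    [hp : Fact p.Prime] (hp2 : p ≠ 2) {d : ℕ} (hd : ∀ j, p ∣ 2 ^ j - 1 ↔ d ∣ j) (h : m < d ∨ (m = d ∧ Odd d))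
    (hdiv : p ∣ Nat.card (PSp m F)) : EvAt p (PSp m F) := by
  have h2 : Fact (Nat.Prime 2) := ⟨Nat.prime_two⟩
  have hc : CharP F 2 := charP_of_card_eq_prime hF
  rcases h with h | ⟨rfl, ho⟩
  · refine Cfsg.Agent.H188.EP.rest_psp (r := 2) hp2 hp2 hm hdiv fun i h0 hi hdv => ?_
    rw [hF, hd] at hdv
    have := Nat.le_of_dvd h0 hdv
    omega
  · have hfin : Finite (PSp m F) := Quotient.finite _
    obtain ⟨z, hz⟩ := exists_prime_orderOf_dvd_card' p hdiv
    exact evAt_of_real_cyclic hp2 (fun P => cyc_odd hm hF hp2 ho hd P) hz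
      (Cfsg.Agent.H188.EP.real_psp (r := 2) hp.out hp2 hp2 z hz)

end Cfsg.Agent.H781.EP
end

-- part: H797/EP/OddY
section
prune_inst 0x757073050fe20200001c0592f3205ef7b70004b0000b8800b8e605460d86dc62ad82ae61fc700d1e0ab0a0cd40310048105404300000000000008400013d07a98c835606b37cad0c34001f800002010000000000000000000000000000041004004410000
set_option linter.all false
open scoped Cfsg.Agent.FastGrp

/-!
# The group `Yg V2` is a `p'`-group

`ord 2 mod p = d` odd, `dim V2 = 2 b`, `b < d`, `dim N = a d`, `n = a d + b`.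
-/

set_option autoImplicit false
set_option linter.unusedSectionVars false

open scoped Pointwise Matrix ComplexConjugate
open Matrix Module Cfsg

namespace Cfsg.Agent.H797.EP

open Cfsg.Agent.H352.EP

variable {n : ℕ} {p : ℕ} {x : Sp n} {N N' V2 : Submodule (ZMod 2) (Vv n)}

/-- isotropic subspaces have dimension at most `n` -/
theorem finrank_iso {T : Submodule (ZMod 2) (Vv n)} (h : ∀ u ∈ T, ∀ v ∈ T, form u v = 0) :
    finrank (ZMod 2) T ≤ n := by
  have h1 : T ≤ (bf n).orthogonal T := fun u hu v hv => h v hv u hu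
  have h2 := Submodule.finrank_mono h1
  rw [LinearMap.BilinForm.finrank_orthogonal bf_nondeg, finrank_Vv] at h2
  have h3 : finrank (ZMod 2) T ≤ 2 * n := by
    rw [← finrank_Vv (n := n)]
    exact Submodule.finrank_le T
  omega

/-- nondegenerate subspaces have even dimension -/
theorem even_finrank_nd {T : Submodule (ZMod 2) (Vv n)} (h : ∀ u ∈ T, (∀ v ∈ T, form u v = 0) → u = 0) :
    Even (finrank (ZMod 2) T) := by
  obtain ⟨m, hm⟩ := Cfsg.Agent.ClassicalGeometry.TwoFamilies.exists_finrank_eq_ker_add ((bf n).restrict T)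
    (fun v => form_self v.1)
  have h1 : LinearMap.ker ((bf n).restrict T) = ⊥ := by
    rw [eq_bot_iff]
    intro u hu
    rw [LinearMap.mem_ker] at hu
    rw [Submodule.mem_bot]
    apply Subtype.ext
    apply h u.1 u.2
    intro v hv
    exact LinearMap.congr_fun hu ⟨v, hv⟩
  rw [h1, finrank_bot, zero_add] at hm
  exact ⟨m, hm⟩

/-- a fixed point free action of an element of order `p` on the nonzero vectors of `U` -/
theorem dvd_of_free [hp : Fact p.Prime] {y : Sp n} (hy : orderOf y = p) {U : Submodule (ZMod 2) (Vv n)}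
    (hU : ∀ v ∈ U, y • v ∈ U) (hfix : ∀ v ∈ U, y • v = v → v = 0) :
    p ∣ 2 ^ finrank (ZMod 2) U - 1 := by
  classical
  have := Fintype.ofFinite U
  let f : Function.End U := fun u => ⟨y • u.1, hU _ u.2⟩
  have hfk : ∀ (k : ℕ) (u : U), ((f ^ k) u : Vv n) = y ^ k • (u : Vv n) := by
    intro k
    induction k with
    | zero => intro u; rw [pow_zero, pow_zero, one_smul]; rfl
    | succ k ih =>
      intro u
      have h1 : (f ^ (k + 1)) u = (f ^ k) (f u) := by rw [pow_succ]; rfl
      rw [h1, ih, pow_succ, mul_smul]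
  have hf : f ^ p ^ 1 = 1 := by
    funext u
    apply Subtype.ext
    rw [hfk, pow_one, ← hy, pow_orderOf_eq_one, one_smul]
    rfl
  have h1 := Equiv.Perm.card_fixedPoints_modEq hf
  have h2 : Fintype.card (Function.fixedPoints f) = 1 := by
    rw [Fintype.card_eq_one_iff]
    refine ⟨⟨0, Subtype.ext (smul_zero y)⟩, fun u => Subtype.ext (Subtype.ext ?_)⟩
    exact hfix _ u.1.2 (congrArg Subtype.val u.2)
  rw [h2, ← Nat.card_eq_fintype_card, Module.natCard_eq_pow_finrank (K := ZMod 2), Nat.card_zmod] at h1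
  exact (Nat.modEq_iff_dvd' Nat.one_le_two_pow).1 h1.symm

theorem not_dvd_Yg [hp : Fact p.Prime] (hp2 : p ≠ 2) (D : XD p x N N' V2) {a b d : ℕ}
    (hd : ∀ j, p ∣ 2 ^ j - 1 → d ∣ j) (hodd : Odd d) (hN : finrank (ZMod 2) N = a * d)
    (hV2 : finrank (ZMod 2) V2 = 2 * b) (hn : n = a * d + b) (hb : b < d) : ¬ p ∣ Nat.card (Yg V2) := by
  intro hdvd
  obtain ⟨y0, hy0⟩ := exists_prime_orderOf_dvd_card' p hdvd
  set y : Sp n := (y0 : Sp n) with hydef
  have hyY : y ∈ Yg V2 := y0.2
  have hy : orderOf y = p := by rw [hydef, Subgroup.orderOf_coe, hy0]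
  have hy1 : y ≠ 1 := by
    rintro h
    rw [h, orderOf_one] at hy
    exact hp.out.one_lt.ne hy
  have hcxy : Commute x y := D.comm hyY
  let E : Submodule (ZMod 2) (Vv n) :=
    LinearMap.range (((y : Vv n ≃ₗ[ZMod 2] Vv n) : Vv n →ₗ[ZMod 2] Vv n) - LinearMap.id)
  have hE : ∀ v, v ∈ E ↔ ∃ u, y • u - u = v := fun v => Iff.rfl
  have hEV : E ≤ V2 := by
    intro v hv
    obtain ⟨u, rfl⟩ := (hE v).1 hv
    obtain ⟨a', ha', b', hb', c', hc', rfl⟩ := D.dec u
    rw [smul_add, smul_add, Yg_fix hyY a' (D.orthN a' ha'), Yg_fix hyY b' (D.orthN' b' hb')]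
    have h1 : a' + b' + y • c' - (a' + b' + c') = y • c' - c' := by abel
    rw [h1]
    exact sub_mem (D.c_mem hcxy hc') hc'
  have hEy : ∀ v ∈ E, y • v ∈ E := by
    intro v hv
    obtain ⟨u, rfl⟩ := (hE v).1 hv
    exact (hE _).2 ⟨y • u, by rw [smul_sub]⟩
  have hE0 : E ≠ ⊥ := by
    intro h
    apply hy1
    refine Subtype.ext (LinearEquiv.ext fun v => ?_)
    have h1 : y • v - v ∈ E := (hE _).2 ⟨v, rfl⟩
    rw [h, Submodule.mem_bot] at h1
    exact sub_eq_zero.1 h1
  have hfree : ∀ v ∈ E, y • v = v → v = 0 := by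
    intro v hv hfix
    obtain ⟨u, hu⟩ := (hE v).1 hv
    have h1 : ∀ k : ℕ, y ^ k • u = u + (k : ZMod 2) • v := by
      intro k
      induction k with
      | zero => simp
      | succ k ih =>
        rw [pow_succ', mul_smul, ih, smul_add, smul_comm, hfix]
        have h2 : y • u = u + v := by rw [← hu]; abel
        rw [h2]
        push_cast
        rw [add_smul, one_smul]
        abel
    have h2 := h1 p
    rw [← hy, pow_orderOf_eq_one, one_smul, hy] at h2
    have h3 : (p : ZMod 2) = 1 := by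
      rcases hp.out.eq_two_or_odd with h | h
      · exact absurd h hp2
      · rw [← ZMod.natCast_mod, h, Nat.cast_one]
    rw [h3, one_smul] at h2
    exact (add_eq_left.1 h2.symm)
  -- a minimal invariant subspace
  let SS : Set (Submodule (ZMod 2) (Vv n)) := {U | U ≠ ⊥ ∧ U ≤ E ∧ ∀ v ∈ U, y • v ∈ U}
  obtain ⟨U, hU⟩ := (Set.toFinite SS).exists_minimal ⟨E, hE0, le_rfl, hEy⟩
  obtain ⟨hU0, hUE, hUy⟩ := hU.prop
  have hdU : d ∣ finrank (ZMod 2) U := hd _ (dvd_of_free hy hUy fun v hv => hfree v (hUE hv))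
  have hUpos : 0 < finrank (ZMod 2) U := by
    rw [Nat.pos_iff_ne_zero]
    intro h
    exact hU0 (Submodule.finrank_eq_zero.1 h)
  -- the radical of `U`
  let R : Submodule (ZMod 2) (Vv n) := U ⊓ (bf n).orthogonal U
  have hRy : ∀ v ∈ R, y • v ∈ R := by
    intro v hv
    refine ⟨hUy _ hv.1, fun u hu => ?_⟩
    -- `u = y u'`
    have h1 : y⁻¹ • u ∈ U := by
      have h2 : y⁻¹ = y ^ (p - 1) := by
        rw [inv_eq_iff_mul_eq_one, ← pow_succ', Nat.sub_add_cancel hp.out.one_lt.le, ← hy, pow_orderOf_eq_one]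
      have h3 : ∀ k : ℕ, y ^ k • u ∈ U := by
        intro k
        induction k with
        | zero => rwa [pow_zero, one_smul]
        | succ k ih => rw [pow_succ', mul_smul]; exact hUy _ ih
      rw [h2]
      exact h3 _
    show form u (y • v) = 0
    have h4 : form u (y • v) = form (y⁻¹ • u) v := by
      rw [← form_smul y (y⁻¹ • u), smul_inv_smul]
    rw [h4]
    exact hv.2 _ h1
  by_cases hR0 : R = ⊥
  · -- nondegenerate
    have h1 : Even (finrank (ZMod 2) U) := by
      apply even_finrank_nd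
      intro u hu hu'
      have h2 : u ∈ R := ⟨hu, fun v hv => by show form v u = 0; rw [form_comm]; exact hu' v hv⟩
      rw [hR0] at h2
      exact h2
    have h2 : 2 * d ∣ finrank (ZMod 2) U :=
      Nat.Coprime.mul_dvd_of_dvd_of_dvd (Nat.coprime_two_left.2 hodd) h1.two_dvd hdU
    have h3 := Nat.le_of_dvd hUpos h2
    have h4 := Submodule.finrank_mono (hUE.trans hEV)
    omega
  · have hRU : U ≤ R := hU.le_of_le ⟨hR0, inf_le_left.trans hUE, hRy⟩ inf_le_left
    have hiso : ∀ u ∈ U, ∀ v ∈ U, form u v = 0 := fun u hu v hv => (hRU hv).2 u hu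
    have h1 : finrank (ZMod 2) ↥(U ⊔ N) ≤ n := by
      apply finrank_iso
      intro u hu v hv
      obtain ⟨u1, hu1, u2, hu2, rfl⟩ := Submodule.mem_sup.1 hu
      obtain ⟨v1, hv1, v2, hv2, rfl⟩ := Submodule.mem_sup.1 hv
      rw [form_add_left, form_add_right, form_add_right, hiso u1 hu1 v1 hv1, D.isoN u2 hu2 v2 hv2,
        form_comm u1 v2, D.orthN v2 hv2 u1 (hEV (hUE hu1)), D.orthN u2 hu2 v1 (hEV (hUE hv1))]
      simp
    have h2 : U ⊓ N = ⊥ := by
      rw [eq_bot_iff]
      intro u hu
      rw [Submodule.mem_bot]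
      apply eq_zero_of_form
      intro v
      obtain ⟨a', ha', b', hb', c', hc', rfl⟩ := D.dec v
      rw [form_add_right, form_add_right, D.isoN u hu.2 a' ha', D.orthN u hu.2 c' hc', form_comm u b',
        D.orthN' b' hb' u (hEV (hUE hu.1)), add_zero, add_zero]
    have h3 := Submodule.finrank_sup_add_finrank_inf_eq U N
    rw [h2, finrank_bot, add_zero, hN] at h3
    have h4 := Nat.le_of_dvd hUpos hdU
    omega

end Cfsg.Agent.H797.EP
end

-- part: H797/EP/OddK
section
prune_inst 0x743037152fe20200001c0500e2005ef3b3000000014b880000a606060f810c40ad028e21ba30011888a000cc4030004811540520420000000a000400013c0789088004008048000800000e000000010000000000000000000000000000010000004410000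
set_option linter.all false
open scoped Cfsg.Agent.FastGrp

/-!
# An element of odd type

`Tz e z`: the linear map `(z, 1)` on `K^a × F_2^b` transported by `e`; `xl T` = `(T, T^{-*})` in `Sp n`;
`exists_XD`: if `d` is the (odd) order of 2 mod `p` and `d < n`, then `Sp n` contains an element with the properties
`XD`, `¬ p ∣ |Yg V2|`.
-/

set_option autoImplicit false
set_option linter.unusedSectionVars false

open scoped Pointwise Matrix
open Matrix Module Polynomial

namespace Cfsg.Agent.H797.EP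

open Cfsg.Agent.H352.EP

section field

variable {K : Type*} [Field K] [Finite K] [Algebra (ZMod 2) K]

theorem minpoly_eval_one {z : K} (hz : z ≠ 1) : (minpoly (ZMod 2) z).eval 1 = 1 := by
  have hint : IsIntegral (ZMod 2) z := Algebra.IsIntegral.isIntegral z
  rcases (by decide : ∀ a : ZMod 2, a = 0 ∨ a = 1) ((minpoly (ZMod 2) z).eval 1) with h | h
  · exfalso
    have h1 : aeval (1 : K) (minpoly (ZMod 2) z) = 0 := by
      have : (1 : K) = algebraMap (ZMod 2) K 1 := by rw [map_one]
      rw [this, aeval_algebraMap_apply, ← Polynomial.coe_aeval_eq_eval] at *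
      simp_all
    have h2 := minpoly.eq_of_irreducible_of_monic (minpoly.irreducible hint) h1 (minpoly.monic hint)
    have h3 := minpoly.aeval (ZMod 2) z
    rw [h2, minpoly.one] at h3
    simp only [map_sub, aeval_X, map_one] at h3
    exact hz (sub_eq_zero.1 h3)
  · exact h

theorem minpoly_inv_ne {z : K} (hodd : Odd (finrank (ZMod 2) K)) (hz0 : z ≠ 0) (hz : z * z ≠ 1) :
    aeval z⁻¹ (minpoly (ZMod 2) z) ≠ 0 := by
  intro h
  have hint : IsIntegral (ZMod 2) z := Algebra.IsIntegral.isIntegral z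
  have h2 := minpoly.eq_of_irreducible_of_monic (minpoly.irreducible hint) h (minpoly.monic hint)
  have h3 : IsConjRoot (ZMod 2) z z⁻¹ := h2
  obtain ⟨σ, hσ⟩ := isConjRoot_iff_exists_algEquiv.1 h3
  have hσ' : σ z = z⁻¹ := inv_eq_iff_eq_inv.1 ((map_inv₀ σ z).symm.trans hσ)
  have hk : ∀ k : ℕ, (σ ^ (2 * k)) z = z := by
    intro k
    induction k with
    | zero => simp
    | succ k ih =>
      rw [mul_add, mul_one, pow_add, AlgEquiv.mul_apply, pow_two, AlgEquiv.mul_apply, hσ', hσ, ih]
  have hord : Odd (orderOf σ) := by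
    have h4 : orderOf σ ∣ finrank (ZMod 2) K := by
      rw [← IsGalois.card_aut_eq_finrank]
      exact orderOf_dvd_natCard σ
    exact Odd.of_dvd_nat hodd h4
  obtain ⟨k, hk2⟩ := hord
  have h5 : (σ ^ (2 * k + 1)) z = z := by rw [← hk2, pow_orderOf_eq_one]; rfl
  rw [pow_succ', AlgEquiv.mul_apply, hk, hσ'] at h5
  apply hz
  nth_rw 1 [← h5]
  exact inv_mul_cancel₀ hz0

end field

/-! ### Adjoints -/

section adj

variable {n m k : ℕ}

/-- the adjoint of a linear map with respect to the dot products -/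
def adj (P : (Fin n → ZMod 2) →ₗ[ZMod 2] (Fin m → ZMod 2)) :
    (Fin m → ZMod 2) →ₗ[ZMod 2] (Fin n → ZMod 2) := Matrix.toLin' (LinearMap.toMatrix' P)ᵀ

theorem dot_adj (P : (Fin n → ZMod 2) →ₗ[ZMod 2] (Fin m → ZMod 2)) (u : Fin n → ZMod 2) (w : Fin m → ZMod 2) :
    u ⬝ᵥ adj P w = (P u) ⬝ᵥ w := by
  rw [adj, Matrix.toLin'_apply, Matrix.dotProduct_mulVec, Matrix.vecMul_transpose, LinearMap.toMatrix'_mulVec]

theorem dot_ext {w w' : Fin n → ZMod 2} (h : ∀ u, u ⬝ᵥ w = u ⬝ᵥ w') : w = w' := by
  funext i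
  simpa using h (Pi.single i 1)

theorem adj_comp (P : (Fin n → ZMod 2) →ₗ[ZMod 2] (Fin m → ZMod 2))
    (Q : (Fin m → ZMod 2) →ₗ[ZMod 2] (Fin k → ZMod 2)) (w : Fin k → ZMod 2) :
    adj P (adj Q w) = adj (Q ∘ₗ P) w := dot_ext fun u => by
  rw [dot_adj, dot_adj, dot_adj]
  rfl

/-- the element `(T, T^{-*})` -/
def xf (T : (Fin n → ZMod 2) ≃ₗ[ZMod 2] (Fin n → ZMod 2)) : Vv n ≃ₗ[ZMod 2] Vv n :=
  LinearEquiv.prodCongr T (LinearEquiv.ofLinearMap (adj T.symm.toLinearMap) (adj T.toLinearMap)
    (LinearMap.ext fun w => by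
      rw [LinearMap.comp_apply, adj_comp]
      exact dot_ext fun u => by rw [dot_adj]; simp)
    (LinearMap.ext fun w => by
      rw [LinearMap.comp_apply, adj_comp]
      exact dot_ext fun u => by rw [dot_adj]; simp))

theorem xf_fst (T : (Fin n → ZMod 2) ≃ₗ[ZMod 2] (Fin n → ZMod 2)) (v : Vv n) : (xf T v).1 = T v.1 := rfl

theorem dot_xf (T : (Fin n → ZMod 2) ≃ₗ[ZMod 2] (Fin n → ZMod 2)) (u : Fin n → ZMod 2) (v : Vv n) :
    u ⬝ᵥ (xf T v).2 = (T.symm u) ⬝ᵥ v.2 := dot_adj _ _ _

theorem xf_mem (T : (Fin n → ZMod 2) ≃ₗ[ZMod 2] (Fin n → ZMod 2)) : xf T ∈ Sp n := by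
  intro u v
  rw [form, form, xf_fst, xf_fst, dot_xf, dotProduct_comm (xf T u).2, dot_xf, T.symm_apply_apply,
    T.symm_apply_apply, dotProduct_comm v.1]

/-- the element `(T, T^{-*})` -/
def xl : ((Fin n → ZMod 2) ≃ₗ[ZMod 2] (Fin n → ZMod 2)) →* Sp n where
  toFun T := ⟨xf T, xf_mem T⟩
  map_one' := by
    refine Subtype.ext (LinearEquiv.ext fun v => Prod.ext rfl ?_)
    exact dot_ext fun u => dot_xf _ _ _
  map_mul' S T := by
    refine Subtype.ext (LinearEquiv.ext fun v => Prod.ext rfl ?_)
    refine dot_ext fun u => ?_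
    show u ⬝ᵥ (xf (S * T) v).2 = u ⬝ᵥ (xf S (xf T v)).2
    rw [dot_xf, dot_xf, dot_xf]
    rfl

theorem xl_fst (T : (Fin n → ZMod 2) ≃ₗ[ZMod 2] (Fin n → ZMod 2)) (v : Vv n) : (xl T • v).1 = T v.1 := rfl

theorem dot_xl (T : (Fin n → ZMod 2) ≃ₗ[ZMod 2] (Fin n → ZMod 2)) (u : Fin n → ZMod 2) (v : Vv n) :
    u ⬝ᵥ (xl T • v).2 = (T.symm u) ⬝ᵥ v.2 := dot_xf _ _ _

theorem xl_inv (T : (Fin n → ZMod 2) ≃ₗ[ZMod 2] (Fin n → ZMod 2)) : (xl T)⁻¹ = xl T.symm := by
  rw [← map_inv]
  rfl

theorem xl_fixq (T : (Fin n → ZMod 2) ≃ₗ[ZMod 2] (Fin n → ZMod 2)) : xl T • q0 n = q0 n := by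
  refine Subtype.ext (funext fun v => ?_)
  show th0 ((xl T)⁻¹ • v) = th0 v
  rw [xl_inv, th0, dot_xl, xl_fst, LinearEquiv.symm_symm, T.apply_symm_apply, th0]

/-! ### Polynomials -/

theorem poly_ind {M : (ZMod 2)[X] → Prop} (hC : ∀ a, M (C a)) (hadd : ∀ q r, M q → M r → M (q + r))
    (hX : ∀ q, M q → M (q * X)) (q : (ZMod 2)[X]) : M q := by
  refine Polynomial.induction_on q hC (fun q r => hadd q r) fun k a h => ?_
  rw [pow_succ, ← mul_assoc]
  exact hX _ h

theorem aeval_xl_aux {E : Type*} [AddCommGroup E] [Module (ZMod 2) E] (f : E →ₗ[ZMod 2] E) (q : (ZMod 2)[X]) (v : E) :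
    aeval f (q * X) v = aeval f q (f v) := by
  rw [map_mul, aeval_X]
  rfl

theorem aeval_xl_aux' {E : Type*} [AddCommGroup E] [Module (ZMod 2) E] (f : E →ₗ[ZMod 2] E) (q : (ZMod 2)[X])
    (v : E) : aeval f (q * X) v = f (aeval f q v) := by
  rw [mul_comm, map_mul, aeval_X]
  rfl

theorem aeval_C_apply {E : Type*} [AddCommGroup E] [Module (ZMod 2) E] (f : E →ₗ[ZMod 2] E) (a : ZMod 2)
    (v : E) : aeval f (C a) v = a • v := by
  rw [aeval_C]
  rfl

theorem aeval_comm {E : Type*} [AddCommGroup E] [Module (ZMod 2) E] (f c : E →ₗ[ZMod 2] E)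
    (h : ∀ v, c (f v) = f (c v)) (q : (ZMod 2)[X]) : ∀ v, c (aeval f q v) = aeval f q (c v) := by
  refine poly_ind (M := fun q => ∀ v, c (aeval f q v) = aeval f q (c v)) ?_ ?_ ?_ q
  · intro a v
    rw [aeval_C_apply, aeval_C_apply, map_smul]
  · intro q r hq hr v
    rw [map_add, LinearMap.add_apply, map_add, hq, hr, LinearMap.add_apply]
  · intro q hq v
    rw [aeval_xl_aux, aeval_xl_aux, hq, h]

theorem aeval_xl (T : (Fin n → ZMod 2) ≃ₗ[ZMod 2] (Fin n → ZMod 2)) (q : (ZMod 2)[X]) : ∀ v : Vv n,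
    (aeval ((xf T : Vv n ≃ₗ[ZMod 2] Vv n) : Vv n →ₗ[ZMod 2] Vv n) q v).1 =
      aeval (T : (Fin n → ZMod 2) →ₗ[ZMod 2] (Fin n → ZMod 2)) q v.1 ∧
    ∀ u, u ⬝ᵥ (aeval ((xf T : Vv n ≃ₗ[ZMod 2] Vv n) : Vv n →ₗ[ZMod 2] Vv n) q v).2 =
      (aeval (T.symm : (Fin n → ZMod 2) →ₗ[ZMod 2] (Fin n → ZMod 2)) q u) ⬝ᵥ v.2 := by
  refine poly_ind (M := fun q => ∀ v : Vv n,
    (aeval ((xf T : Vv n ≃ₗ[ZMod 2] Vv n) : Vv n →ₗ[ZMod 2] Vv n) q v).1 =
      aeval (T : (Fin n → ZMod 2) →ₗ[ZMod 2] (Fin n → ZMod 2)) q v.1 ∧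
    ∀ u, u ⬝ᵥ (aeval ((xf T : Vv n ≃ₗ[ZMod 2] Vv n) : Vv n →ₗ[ZMod 2] Vv n) q v).2 =
      (aeval (T.symm : (Fin n → ZMod 2) →ₗ[ZMod 2] (Fin n → ZMod 2)) q u) ⬝ᵥ v.2) ?_ ?_ ?_ q
  · intro a v
    refine ⟨?_, fun u => ?_⟩
    · rw [aeval_C_apply, aeval_C_apply, Prod.smul_fst]
    · rw [aeval_C_apply, aeval_C_apply, Prod.smul_snd, dotProduct_smul, smul_dotProduct]
  · intro q r hq hr v
    refine ⟨?_, fun u => ?_⟩
    · rw [map_add, LinearMap.add_apply, Prod.fst_add, (hq v).1, (hr v).1, map_add, LinearMap.add_apply]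
    · rw [map_add, LinearMap.add_apply, Prod.snd_add, dotProduct_add, (hq v).2, (hr v).2, map_add,
        LinearMap.add_apply, add_dotProduct]
  · intro q hq v
    refine ⟨?_, fun u => ?_⟩
    · rw [aeval_xl_aux, (hq _).1, aeval_xl_aux]
      rfl
    · rw [aeval_xl_aux, (hq _).2, aeval_xl_aux']
      exact dot_xf _ _ _

end adj

/-! ### The element -/

section main

variable {K : Type} [Field K] [Finite K] [Algebra (ZMod 2) K] {n a b : ℕ}

/-- multiplication by `z` -/
def zmap (a : ℕ) (z : K) (hz : z ≠ 0) : (Fin a → K) ≃ₗ[ZMod 2] (Fin a → K) where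
  toFun α := z • α
  invFun α := z⁻¹ • α
  map_add' α β := smul_add z α β
  map_smul' c α := smul_comm z c α
  left_inv α := by simp [smul_smul, inv_mul_cancel₀ hz]
  right_inv α := by simp [smul_smul, mul_inv_cancel₀ hz]

variable (e : (Fin n → ZMod 2) ≃ₗ[ZMod 2] (Fin a → K) × (Fin b → ZMod 2))

/-- `(z, 1)` -/
def Tz (z : K) (hz : z ≠ 0) : (Fin n → ZMod 2) ≃ₗ[ZMod 2] (Fin n → ZMod 2) :=
  e ≪≫ₗ (LinearEquiv.prodCongr (zmap a z hz) (LinearEquiv.refl (ZMod 2) (Fin b → ZMod 2))) ≪≫ₗ e.symm

theorem e_Tz (z : K) (hz : z ≠ 0) (u : Fin n → ZMod 2) : e (Tz e z hz u) = (z • (e u).1, (e u).2) := by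
  show e (e.symm (z • (e u).1, (e u).2)) = _
  rw [e.apply_symm_apply]

theorem e_Tz_symm (z : K) (hz : z ≠ 0) (u : Fin n → ZMod 2) :
    e ((Tz e z hz).symm u) = (z⁻¹ • (e u).1, (e u).2) := by
  apply (LinearEquiv.prodCongr (zmap a z hz) (LinearEquiv.refl (ZMod 2) (Fin b → ZMod 2))).injective
  show (z • (e ((Tz e z hz).symm u)).1, (e ((Tz e z hz).symm u)).2) = (z • (z⁻¹ • (e u).1), (e u).2)
  rw [← e_Tz e z hz, LinearEquiv.apply_symm_apply, smul_smul, mul_inv_cancel₀ hz, one_smul]

theorem e_aeval (z : K) (T : (Fin n → ZMod 2) →ₗ[ZMod 2] (Fin n → ZMod 2))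
    (hT : ∀ u, e (T u) = (z • (e u).1, (e u).2)) (q : (ZMod 2)[X]) :
    ∀ u, e (aeval T q u) = (aeval z q • (e u).1, q.eval 1 • (e u).2) := by
  refine poly_ind (M := fun q => ∀ u, e (aeval T q u) = (aeval z q • (e u).1, q.eval 1 • (e u).2)) ?_ ?_ ?_ q
  · intro c u
    rw [aeval_C_apply, map_smul, aeval_C, eval_C, algebraMap_smul]
    rfl
  · intro q r hq hr u
    rw [map_add, LinearMap.add_apply, map_add, hq, hr, map_add, eval_add, add_smul, add_smul]
    rfl
  · intro q hq u
    rw [aeval_xl_aux, hq, hT, map_mul, aeval_X, eval_mul, eval_X, mul_one, mul_smul]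

/-- the subspace `N` -/
def sN : Submodule (ZMod 2) (Vv n) where
  carrier := {v | v.2 = 0 ∧ (e v.1).2 = 0}
  zero_mem' := ⟨rfl, by rw [Prod.fst_zero, map_zero]; rfl⟩
  add_mem' := by
    rintro u v ⟨h1, h2⟩ ⟨h3, h4⟩
    exact ⟨by rw [Prod.snd_add, h1, h3, add_zero], by rw [Prod.fst_add, map_add, Prod.snd_add, h2, h4, add_zero]⟩
  smul_mem' := by
    rintro c v ⟨h1, h2⟩
    exact ⟨by rw [Prod.smul_snd, h1, smul_zero], by rw [Prod.smul_fst, map_smul, Prod.smul_snd, h2, smul_zero]⟩

theorem mem_sN (v : Vv n) : v ∈ sN e ↔ v.2 = 0 ∧ (e v.1).2 = 0 := Iff.rfl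

/-- the subspace `N'` -/
def sN' : Submodule (ZMod 2) (Vv n) where
  carrier := {v | v.1 = 0 ∧ ∀ u, (e u).1 = 0 → u ⬝ᵥ v.2 = 0}
  zero_mem' := ⟨rfl, fun u _ => by rw [Prod.snd_zero, dotProduct_zero]⟩
  add_mem' := by
    rintro u v ⟨h1, h2⟩ ⟨h3, h4⟩
    exact ⟨by rw [Prod.fst_add, h1, h3, add_zero], fun w hw => by rw [Prod.snd_add, dotProduct_add, h2 w hw, h4 w hw, add_zero]⟩
  smul_mem' := by
    rintro c v ⟨h1, h2⟩
    exact ⟨by rw [Prod.smul_fst, h1, smul_zero], fun w hw => by rw [Prod.smul_snd, dotProduct_smul, h2 w hw, smul_zero]⟩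

theorem mem_sN' (v : Vv n) : v ∈ sN' e ↔ v.1 = 0 ∧ ∀ u, (e u).1 = 0 → u ⬝ᵥ v.2 = 0 := Iff.rfl

/-- the subspace `V2` -/
def sV : Submodule (ZMod 2) (Vv n) where
  carrier := {v | (e v.1).1 = 0 ∧ ∀ u, (e u).2 = 0 → u ⬝ᵥ v.2 = 0}
  zero_mem' := ⟨by rw [Prod.fst_zero, map_zero]; rfl, fun u _ => by rw [Prod.snd_zero, dotProduct_zero]⟩
  add_mem' := by
    rintro u v ⟨h1, h2⟩ ⟨h3, h4⟩
    exact ⟨by rw [Prod.fst_add, map_add, Prod.fst_add, h1, h3, add_zero], fun w hw => by rw [Prod.snd_add, dotProduct_add, h2 w hw, h4 w hw, add_zero]⟩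
  smul_mem' := by
    rintro c v ⟨h1, h2⟩
    exact ⟨by rw [Prod.smul_fst, map_smul, Prod.smul_fst, h1, smul_zero], fun w hw => by rw [Prod.smul_snd, dotProduct_smul, h2 w hw, smul_zero]⟩

theorem mem_sV (v : Vv n) : v ∈ sV e ↔ (e v.1).1 = 0 ∧ ∀ u, (e u).2 = 0 → u ⬝ᵥ v.2 = 0 := Iff.rfl

theorem sV_fix {z : K} (hz : z ≠ 0) (hz1 : z ≠ 1) (v : Vv n) : v ∈ sV e ↔ xl (Tz e z hz) • v = v := by
  rw [mem_sV]
  constructor
  · rintro ⟨h1, h2⟩
    refine Prod.ext ?_ (dot_ext fun u => ?_)
    · rw [xl_fst]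
      apply e.injective
      rw [e_Tz, h1, smul_zero]
      exact Prod.ext h1.symm rfl
    · rw [dot_xl, ← sub_eq_zero, ← sub_dotProduct]
      apply h2
      rw [map_sub, e_Tz_symm]
      show (e u).2 - (e u).2 = 0
      rw [sub_self]
  · intro h
    have h1 : Tz e z hz v.1 = v.1 := congrArg Prod.fst h
    have h2 := congrArg e h1
    rw [e_Tz] at h2
    have h3 : z • (e v.1).1 = (e v.1).1 := congrArg Prod.fst h2
    refine ⟨?_, fun u hu => ?_⟩
    · have h4 : (z - 1) • (e v.1).1 = 0 := by rw [sub_smul, h3, one_smul, sub_self]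
      exact (smul_eq_zero.1 h4).resolve_left (sub_ne_zero.2 hz1)
    · have hzi : z⁻¹ - 1 ≠ 0 := sub_ne_zero.2 fun h => hz1 (inv_eq_one.1 h)
      obtain ⟨u', hu'⟩ := e.surjective ((z⁻¹ - 1)⁻¹ • (e u).1, 0)
      have h5 : (Tz e z hz).symm u' - u' = u := by
        apply e.injective
        rw [map_sub, e_Tz_symm, hu']
        refine Prod.ext ?_ ?_
        · show z⁻¹ • ((z⁻¹ - 1)⁻¹ • (e u).1) - (z⁻¹ - 1)⁻¹ • (e u).1 = (e u).1
          rw [← one_smul K ((z⁻¹ - 1)⁻¹ • (e u).1), smul_smul, ← sub_smul, smul_smul, mul_one, mul_inv_cancel₀ hzi,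
            one_smul]
        · show (0 : Fin b → ZMod 2) - 0 = (e u).2
          rw [hu, sub_zero]
      rw [← h5, sub_dotProduct, ← dot_xl, h, sub_self]

theorem mem_sN_iff {z : K} (hz : z ≠ 0) {q : (ZMod 2)[X]} (hq : aeval z q = 0) (hq' : aeval z⁻¹ q ≠ 0)
    (hq1 : q.eval 1 = 1) (v : Vv n) :
    v ∈ sN e ↔ aeval ((xf (Tz e z hz) : Vv n ≃ₗ[ZMod 2] Vv n) : Vv n →ₗ[ZMod 2] Vv n) q v = 0 := by
  obtain ⟨h1, h2⟩ := aeval_xl (Tz e z hz) q v
  have h3 := e_aeval e z (Tz e z hz).toLinearMap (fun u => e_Tz e z hz u) q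
  have h4 := e_aeval e z⁻¹ (Tz e z hz).symm.toLinearMap (fun u => e_Tz_symm e z hz u) q
  rw [hq, hq1] at h3
  rw [hq1] at h4
  rw [mem_sN]
  constructor
  · rintro ⟨h5, h6⟩
    refine Prod.ext ?_ (dot_ext fun u => ?_)
    · rw [h1]
      apply e.injective
      show e (aeval (Tz e z hz).toLinearMap q v.1) = e 0
      rw [h3, h6, zero_smul, smul_zero, map_zero]
      rfl
    · rw [h2, h5, dotProduct_zero]
      exact (dotProduct_zero u).symm
  · intro h
    rw [h] at h1 h2
    constructor
    · refine dot_ext fun u => ?_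
      obtain ⟨u', hu'⟩ := e.surjective ((aeval z⁻¹ q)⁻¹ • (e u).1, (e u).2)
      have h5 : aeval (Tz e z hz).symm.toLinearMap q u' = u := by
        apply e.injective
        rw [h4, hu', smul_smul, mul_inv_cancel₀ hq', one_smul, one_smul]
      have h6 := h2 u'
      rw [dotProduct_zero, ← h5]
      exact h6.symm.trans (dotProduct_zero u')
    · have h5 := h3 v.1
      have h6 : aeval (Tz e z hz).toLinearMap q v.1 = 0 := h1.symm
      rw [h6, map_zero] at h5
      have h7 := congrArg Prod.snd h5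
      exact ((one_smul _ _).symm.trans h7.symm)

theorem mem_sN'_iff {z : K} (hz : z ≠ 0) {q : (ZMod 2)[X]} (hq : aeval z q = 0) (hq' : aeval z⁻¹ q ≠ 0)
    (hq1 : q.eval 1 = 1) (v : Vv n) :
    v ∈ sN' e ↔ aeval ((xf (Tz e z hz).symm : Vv n ≃ₗ[ZMod 2] Vv n) : Vv n →ₗ[ZMod 2] Vv n) q v = 0 := by
  obtain ⟨h1, h2⟩ := aeval_xl (Tz e z hz).symm q v
  have h3 := e_aeval e z (Tz e z hz).toLinearMap (fun u => e_Tz e z hz u) q
  have h4 := e_aeval e z⁻¹ (Tz e z hz).symm.toLinearMap (fun u => e_Tz_symm e z hz u) q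
  rw [hq, hq1] at h3
  rw [hq1] at h4
  rw [mem_sN']
  constructor
  · rintro ⟨h5, h6⟩
    refine Prod.ext ?_ (dot_ext fun u => ?_)
    · rw [h1, h5, map_zero]
      rfl
    · rw [h2]
      refine (h6 _ ?_).trans (dotProduct_zero u).symm
      show (e (aeval (Tz e z hz).toLinearMap q u)).1 = 0
      rw [h3, zero_smul]
  · intro h
    rw [h] at h1 h2
    constructor
    · apply e.injective
      have h5 := h4 v.1
      have h6 : aeval (Tz e z hz).symm.toLinearMap q v.1 = 0 := h1.symm
      rw [h6, map_zero] at h5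
      have h7 := congrArg Prod.snd h5
      have h8 := congrArg Prod.fst h5
      rw [map_zero]
      refine Prod.ext ?_ ((one_smul _ _).symm.trans h7.symm)
      exact (smul_eq_zero.1 h8.symm).resolve_left hq'
    · intro u hu
      have h5 : aeval (Tz e z hz).toLinearMap q u = u := by
        apply e.injective
        rw [h3, zero_smul, one_smul]
        exact Prod.ext hu.symm rfl
      have h6 := h2 u
      rw [← h5]
      exact h6.symm.trans (dotProduct_zero u)

theorem Tz_pow {z : K} (hz : z ≠ 0) (k : ℕ) (u : Fin n → ZMod 2) :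
    e ((Tz e z hz ^ k) u) = (z ^ k • (e u).1, (e u).2) := by
  induction k generalizing u with
  | zero => simp
  | succ k ih =>
    rw [pow_succ, LinearEquiv.mul_apply, ih, e_Tz, smul_smul, ← pow_succ]

theorem orderOf_xl {p : ℕ} [hp : Fact p.Prime] {z : K} (hz : z ≠ 0) (hz1 : z ≠ 1) (hzp : z ^ p = 1) (ha : 1 ≤ a) :
    orderOf (xl (Tz e z hz)) = p := by
  refine orderOf_eq_prime ?_ ?_
  · rw [← map_pow]
    have h1 : Tz e z hz ^ p = 1 := by
      refine LinearEquiv.ext fun u => e.injective ?_
      rw [Tz_pow, hzp, one_smul]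
      rfl
    rw [h1, map_one]
  · intro h
    obtain ⟨u, hu⟩ := e.surjective ((fun _ => 1 : Fin a → K), 0)
    have h1 : (xl (Tz e z hz) • ((u, 0) : Vv n)).1 = u := by
      rw [h, one_smul]
    have h2 := congrArg e h1
    rw [xl_fst, e_Tz] at h2
    have h3 : z • (e u).1 = (e u).1 := congrArg Prod.fst h2
    rw [hu] at h3
    have h4 := congrFun h3 ⟨0, ha⟩
    have h5 : z * 1 = 1 := h4
    exact hz1 (by rw [← h5, mul_one])

/-- the projection on the second summand -/
def pr : (Fin n → ZMod 2) →ₗ[ZMod 2] (Fin n → ZMod 2) :=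
  e.symm.toLinearMap ∘ₗ (LinearMap.inr (ZMod 2) (Fin a → K) (Fin b → ZMod 2)) ∘ₗ
    (LinearMap.snd (ZMod 2) (Fin a → K) (Fin b → ZMod 2)) ∘ₗ e.toLinearMap

theorem e_pr (u : Fin n → ZMod 2) : e (pr e u) = (0, (e u).2) := by
  show e (e.symm (0, (e u).2)) = _
  rw [e.apply_symm_apply]

theorem pr_zero {u : Fin n → ZMod 2} (h : (e u).2 = 0) : pr e u = 0 := by
  apply e.injective
  rw [e_pr, h, map_zero]
  rfl

theorem pr_self {u : Fin n → ZMod 2} (h : (e u).1 = 0) : pr e u = u := by
  apply e.injective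
  rw [e_pr]
  exact Prod.ext h.symm rfl

theorem s_dec (v : Vv n) : ∃ x ∈ sN e, ∃ y ∈ sN' e, ∃ w ∈ sV e, v = x + y + w := by
  refine ⟨(v.1 - pr e v.1, 0), ?_, (0, v.2 - adj (pr e) v.2), ?_, (pr e v.1, adj (pr e) v.2), ?_, ?_⟩
  · refine ⟨rfl, ?_⟩
    rw [map_sub, e_pr]
    exact sub_self _
  · refine ⟨rfl, fun u hu => ?_⟩
    show u ⬝ᵥ (v.2 - adj (pr e) v.2) = 0
    rw [dotProduct_sub, dot_adj, pr_self e hu, sub_self]
  · refine ⟨?_, fun u hu => ?_⟩
    · rw [e_pr]
    · show u ⬝ᵥ (adj (pr e) v.2) = 0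
      rw [dot_adj, pr_zero e hu, zero_dotProduct]
  · refine Prod.ext ?_ ?_
    · show v.1 = v.1 - pr e v.1 + 0 + pr e v.1
      abel
    · show v.2 = 0 + (v.2 - adj (pr e) v.2) + adj (pr e) v.2
      abel

theorem s_isoN : ∀ u ∈ sN e, ∀ v ∈ sN e, form u v = 0 := by
  rintro u ⟨h1, -⟩ v ⟨h2, -⟩
  rw [form, h1, h2, dotProduct_zero, zero_dotProduct, add_zero]

theorem s_isoN' : ∀ u ∈ sN' e, ∀ v ∈ sN' e, form u v = 0 := by
  rintro u ⟨h1, -⟩ v ⟨h2, -⟩
  rw [form, h1, h2, dotProduct_zero, zero_dotProduct, add_zero]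

theorem s_orthN : ∀ u ∈ sN e, ∀ v ∈ sV e, form u v = 0 := by
  rintro u ⟨h1, h2⟩ v ⟨_, h4⟩
  rw [form, h1, h4 _ h2, zero_dotProduct, add_zero]

theorem s_orthN' : ∀ u ∈ sN' e, ∀ v ∈ sV e, form u v = 0 := by
  rintro u ⟨h1, h2⟩ v ⟨h3, _⟩
  rw [form, h1, dotProduct_comm u.2, h2 _ h3, zero_dotProduct, add_zero]

theorem s_XD {p : ℕ} [hp : Fact p.Prime] {z : K} (hz : z ≠ 0) (hz1 : z ≠ 1) (hzp : z ^ p = 1) (ha : 1 ≤ a)
    {q : (ZMod 2)[X]} (hq : aeval z q = 0) (hq' : aeval z⁻¹ q ≠ 0) (hq1 : q.eval 1 = 1) :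
    XD p (xl (Tz e z hz)) (sN e) (sN' e) (sV e) where
  ord := orderOf_xl e hz hz1 hzp ha
  fix := sV_fix e hz hz1
  isoN := s_isoN e
  isoN' := s_isoN' e
  dec := s_dec e
  orthN := s_orthN e
  orthN' := s_orthN' e
  centN := by
    intro c hc v hv
    rw [mem_sN_iff e hz hq hq' hq1] at hv ⊢
    have h1 : ∀ w : Vv n, (c : Vv n ≃ₗ[ZMod 2] Vv n).toLinearMap ((xf (Tz e z hz)).toLinearMap w) =
        (xf (Tz e z hz)).toLinearMap ((c : Vv n ≃ₗ[ZMod 2] Vv n).toLinearMap w) := by
      intro w
      show c • (xl (Tz e z hz) • w) = xl (Tz e z hz) • (c • w)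
      rw [smul_smul, smul_smul, hc.eq]
    have h2 := aeval_comm _ _ h1 q v
    rw [hv, map_zero] at h2
    exact h2.symm
  centN' := by
    intro c hc v hv
    rw [mem_sN'_iff e hz hq hq' hq1] at hv ⊢
    have h1 : ∀ w : Vv n, (c : Vv n ≃ₗ[ZMod 2] Vv n).toLinearMap ((xf (Tz e z hz).symm).toLinearMap w) =
        (xf (Tz e z hz).symm).toLinearMap ((c : Vv n ≃ₗ[ZMod 2] Vv n).toLinearMap w) := by
      intro w
      show c • (xl (Tz e z hz).symm • w) = xl (Tz e z hz).symm • (c • w)
      rw [← xl_inv, smul_smul, smul_smul, (hc.inv_left).eq]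
    have h2 := aeval_comm _ _ h1 q v
    rw [hv, map_zero] at h2
    exact h2.symm
  leW := fun v hv => (mem_lagW v).2 hv.1
  leC := fun v hv => (mem_lagC v).2 hv.1
  qfix := xl_fixq _

/-! ### Dimensions -/

theorem finrank_sN : finrank (ZMod 2) (sN e) = a * finrank (ZMod 2) K := by
  let f : sN e ≃ₗ[ZMod 2] (Fin a → K) := {
    toFun := fun v => (e v.1.1).1
    invFun := fun α => ⟨(e.symm (α, 0), 0), rfl, by show (e (e.symm (α, 0))).2 = 0; rw [e.apply_symm_apply]⟩
    map_add' := fun u v => by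
      show (e (u.1.1 + v.1.1)).1 = _
      rw [map_add]
      rfl
    map_smul' := fun c v => by
      show (e (c • v.1.1)).1 = _
      rw [map_smul]
      rfl
    left_inv := fun v => by
      refine Subtype.ext (Prod.ext ?_ v.2.1.symm)
      apply e.injective
      show e (e.symm _) = _
      rw [e.apply_symm_apply]
      exact Prod.ext rfl v.2.2.symm
    right_inv := fun α => by
      show (e (e.symm (α, 0))).1 = α
      rw [e.apply_symm_apply] }
  rw [LinearEquiv.finrank_eq f, Module.finrank_pi_fintype, Finset.sum_const, Finset.card_univ, Fintype.card_fin,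
    smul_eq_mul]

/-- the inclusion of the second summand -/
def qi : (Fin b → ZMod 2) →ₗ[ZMod 2] (Fin n → ZMod 2) :=
  e.symm.toLinearMap ∘ₗ (LinearMap.inr (ZMod 2) (Fin a → K) (Fin b → ZMod 2))

/-- the projection on the second summand -/
def qp : (Fin n → ZMod 2) →ₗ[ZMod 2] (Fin b → ZMod 2) :=
  (LinearMap.snd (ZMod 2) (Fin a → K) (Fin b → ZMod 2)) ∘ₗ e.toLinearMap

theorem qi_qp (u : Fin n → ZMod 2) : qi e (qp e u) = pr e u := rfl

theorem qp_qi (u : Fin b → ZMod 2) : qp e (qi e u) = u := by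
  show (e (e.symm (0, u))).2 = u
  rw [e.apply_symm_apply]

theorem e_qi (u : Fin b → ZMod 2) : (e (qi e u)).1 = 0 := by
  show (e (e.symm (0, u))).1 = 0
  rw [e.apply_symm_apply]

theorem finrank_sV : finrank (ZMod 2) (sV e) = 2 * b := by
  let f : sV e ≃ₗ[ZMod 2] (Fin b → ZMod 2) × (Fin b → ZMod 2) := {
    toFun := fun v => (qp e v.1.1, adj (qi e) v.1.2)
    invFun := fun α => ⟨(qi e α.1, adj (qp e) α.2), e_qi e α.1, fun u hu => by
      show u ⬝ᵥ adj (qp e) α.2 = 0
      rw [dot_adj]
      have : qp e u = 0 := hu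
      rw [this, zero_dotProduct]⟩
    map_add' := fun u v => by
      show (qp e (u.1.1 + v.1.1), adj (qi e) (u.1.2 + v.1.2)) = _
      rw [map_add, map_add]
      rfl
    map_smul' := fun c v => by
      show (qp e (c • v.1.1), adj (qi e) (c • v.1.2)) = _
      rw [map_smul, map_smul]
      rfl
    left_inv := fun v => by
      refine Subtype.ext (Prod.ext ?_ ?_)
      · show qi e (qp e v.1.1) = v.1.1
        rw [qi_qp, pr_self e v.2.1]
      · show adj (qp e) (adj (qi e) v.1.2) = v.1.2
        refine dot_ext fun u => ?_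
        rw [dot_adj, dot_adj, qi_qp]
        have h1 : (u - pr e u) ⬝ᵥ v.1.2 = 0 := by
          apply v.2.2
          rw [map_sub, e_pr]
          exact sub_self _
        rw [sub_dotProduct] at h1
        exact (sub_eq_zero.1 h1).symm
    right_inv := fun α => by
      refine Prod.ext ?_ ?_
      · show qp e (qi e α.1) = α.1
        rw [qp_qi]
      · show adj (qi e) (adj (qp e) α.2) = α.2
        refine dot_ext fun u => ?_
        rw [dot_adj, dot_adj, qp_qi] }
  rw [LinearEquiv.finrank_eq f, Module.finrank_prod, Module.finrank_fin_fun]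
  ring

/-! ### A third Lagrangian -/

/-- a self-orthogonal subspace is a Lagrangian -/
theorem isLag_of_iff {S : Submodule (ZMod 2) (Vv n)} (h : ∀ v, v ∈ S ↔ ∀ u ∈ S, form u v = 0) : IsLag S := by
  refine ⟨fun u hu v hv => (h v).1 hv u hu, ?_⟩
  have h1 : (bf n).orthogonal S = S := by
    ext v
    exact (h v).symm
  have h2 := LinearMap.BilinForm.finrank_orthogonal (bf_nondeg (n := n)) (W := S)
  rw [h1, finrank_Vv] at h2
  have h3 := Submodule.finrank_le S
  rw [finrank_Vv] at h3
  omega

/-- the third Lagrangian -/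
def s3 (i : Fin a) : Submodule (ZMod 2) (Vv n) where
  carrier := {v | (e v.1).1 i = 0 ∧ ∀ u, (e u).1 i = 0 → u ⬝ᵥ v.2 = 0}
  zero_mem' := ⟨by rw [Prod.fst_zero, map_zero]; rfl, fun u _ => by rw [Prod.snd_zero, dotProduct_zero]⟩
  add_mem' := by
    rintro u v ⟨h1, h2⟩ ⟨h3, h4⟩
    exact ⟨by rw [Prod.fst_add, map_add, Prod.fst_add, Pi.add_apply, h1, h3, add_zero],
      fun w hw => by rw [Prod.snd_add, dotProduct_add, h2 w hw, h4 w hw, add_zero]⟩
  smul_mem' := by
    rintro c v ⟨h1, h2⟩
    exact ⟨by rw [Prod.smul_fst, map_smul, Prod.smul_fst, Pi.smul_apply, h1, smul_zero],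
      fun w hw => by rw [Prod.smul_snd, dotProduct_smul, h2 w hw, smul_zero]⟩

theorem mem_s3 (i : Fin a) (v : Vv n) : v ∈ s3 e i ↔ (e v.1).1 i = 0 ∧ ∀ u, (e u).1 i = 0 → u ⬝ᵥ v.2 = 0 := Iff.rfl

/-- double annihilator -/
theorem s3_dual (i : Fin a) {u : Fin n → ZMod 2} (hu : (e u).1 i ≠ 0) :
    ∃ w : Fin n → ZMod 2, (∀ u', (e u').1 i = 0 → u' ⬝ᵥ w = 0) ∧ u ⬝ᵥ w ≠ 0 := by
  have h1 : ¬ ∀ φ : Module.Dual (ZMod 2) K, φ ((e u).1 i) = 0 := fun h =>
    hu ((Module.forall_dual_apply_eq_zero_iff (ZMod 2) _).1 h)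
  push Not at h1
  obtain ⟨φ, hφ⟩ := h1
  -- `φ` composed with the projection
  let P : (Fin n → ZMod 2) →ₗ[ZMod 2] (Fin 1 → ZMod 2) :=
    LinearMap.pi fun _ => φ ∘ₗ (LinearMap.proj i) ∘ₗ (LinearMap.fst (ZMod 2) (Fin a → K) (Fin b → ZMod 2)) ∘ₗ
      e.toLinearMap
  have hP : ∀ u, P u = fun _ => φ ((e u).1 i) := fun u => rfl
  refine ⟨adj P (fun _ => 1), fun u' hu' => ?_, ?_⟩
  · rw [dot_adj, hP, hu', map_zero]
    simp [dotProduct]
  · rw [dot_adj, hP]
    simpa [dotProduct] using hφ

theorem s3_isLag (i : Fin a) : IsLag (s3 e i) := by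
  refine isLag_of_iff fun v => ?_
  constructor
  · rintro ⟨h1, h2⟩ u ⟨h3, h4⟩
    rw [form, h2 _ h3, dotProduct_comm, h4 _ h1, add_zero]
  · intro h
    refine ⟨?_, fun u hu => ?_⟩
    · by_contra hv
      obtain ⟨w, hw1, hw2⟩ := s3_dual e i hv
      have h1 := h (0, w) ⟨by
        show (e 0).1 i = 0
        rw [map_zero]
        rfl, hw1⟩
      apply hw2
      rw [dotProduct_comm]
      have h2 : (0 : Fin n → ZMod 2) ⬝ᵥ v.2 + w ⬝ᵥ v.1 = 0 := h1
      rwa [zero_dotProduct, zero_add] at h2
    · have h1 := h (u, 0) ⟨hu, fun u' _ => dotProduct_zero u'⟩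
      have h2 : u ⬝ᵥ v.2 + (0 : Fin n → ZMod 2) ⬝ᵥ v.1 = 0 := h1
      rwa [zero_dotProduct, add_zero] at h2

theorem s3_exists (ha : 2 ≤ a) {z : K} (hz : z ≠ 0) :
    ∃ S : Lag n, xl (Tz e z hz) • S = S ∧ S ≠ lagW n ∧ S ≠ lagC n := by
  set i : Fin a := ⟨0, by omega⟩ with hi
  set j : Fin a := ⟨1, by omega⟩ with hj
  have hij : i ≠ j := by
    rw [hi, hj]
    simp
  let S : Lag n := (⟨s3 e i, s3_isLag e i⟩ : {S : Submodule (ZMod 2) (Vv n) // IsLag S})
  have hS : S.1 = s3 e i := rfl
  refine ⟨S, Lag.ext ?_, ?_, ?_⟩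
  · rw [coe_smul, hS]
    ext v
    rw [mem_act, xl_inv]
    show xl (Tz e z hz).symm • v ∈ s3 e i ↔ v ∈ s3 e i
    rw [mem_s3, mem_s3, xl_fst, e_Tz_symm]
    have h1 : ((z⁻¹ • (e v.1).1, (e v.1).2) : (Fin a → K) × (Fin b → ZMod 2)).1 i = 0 ↔ (e v.1).1 i = 0 := by
      show z⁻¹ * (e v.1).1 i = 0 ↔ _
      rw [mul_eq_zero]
      exact or_iff_right (inv_ne_zero hz)
    rw [h1]
    refine and_congr_right fun _ => ?_
    constructor
    · intro h u hu
      have h2 := h ((Tz e z hz).symm u) (by
        rw [e_Tz_symm]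
        show z⁻¹ * (e u).1 i = 0
        rw [hu, mul_zero])
      rw [dot_xl, LinearEquiv.symm_symm, LinearEquiv.apply_symm_apply] at h2
      exact h2
    · intro h u hu
      rw [dot_xl, LinearEquiv.symm_symm]
      apply h
      rw [e_Tz]
      show z * (e u).1 i = 0
      rw [hu, mul_zero]
  · intro h
    have h1 : ((e.symm ((fun _ => 1 : Fin a → K), 0), 0) : Vv n) ∈ (lagW n).1 := (mem_lagW _).2 rfl
    rw [← h] at h1
    have h2 : (e (e.symm ((fun _ => 1 : Fin a → K), 0))).1 i = 0 := h1.1
    rw [e.apply_symm_apply] at h2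
    exact one_ne_zero h2
  · intro h
    have h1 : ((e.symm ((Pi.single j 1 : Fin a → K), 0), 0) : Vv n) ∈ s3 e i := by
      refine ⟨?_, fun u _ => dotProduct_zero u⟩
      show (e (e.symm ((Pi.single j 1 : Fin a → K), 0))).1 i = 0
      rw [e.apply_symm_apply]
      exact Pi.single_eq_of_ne hij 1
    have h2 : ((e.symm ((Pi.single j 1 : Fin a → K), 0), 0) : Vv n) ∈ (lagC n).1 := by
      rw [← h]
      exact h1
    rw [mem_lagC] at h2
    have h3 : e (e.symm ((Pi.single j 1 : Fin a → K), 0)) = e 0 := congrArg e h2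
    rw [e.apply_symm_apply, map_zero] at h3
    have h4 := congrFun (congrArg Prod.fst h3) j
    have h5 : (Pi.single j 1 : Fin a → K) j = 0 := h4
    rw [Pi.single_eq_same] at h5
    exact one_ne_zero h5

end main

/-- the element of odd type -/
theorem exists_XD {p n a b d : ℕ} [hp : Fact p.Prime] (hp2 : p ≠ 2) (hodd : Odd d) (hpd : p ∣ 2 ^ d - 1)
    (hd : ∀ j, p ∣ 2 ^ j - 1 → d ∣ j) (hn : n = a * d + b) (hb : b < d) (ha : 1 ≤ a) (hab : b ≠ 0 ∨ 2 ≤ a) :
    ∃ (x : Sp n) (N N' V2 : Submodule (ZMod 2) (Vv n)), XD p x N N' V2 ∧ ¬ p ∣ Nat.card (Yg V2) ∧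
      (V2 = ⊥ → ∃ S : Lag n, x • S = S ∧ S ≠ lagW n ∧ S ≠ lagC n) := by
  have hd0 : d ≠ 0 := by
    rintro rfl
    exact (by decide : ¬ Odd 0) hodd
  set K := GaloisField 2 d with hK
  have hfr : finrank (ZMod 2) K = d := GaloisField.finrank 2 hd0
  have : Finite K := inferInstance
  have := Fintype.ofFinite K
  have hcard : Nat.card K = 2 ^ d := GaloisField.card 2 d hd0
  -- the element `z`
  obtain ⟨z, hz⟩ : ∃ z : Kˣ, orderOf z = p := by
    apply exists_prime_orderOf_dvd_card' p
    rw [Nat.card_units, hcard]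
    exact hpd
  have hz0 : (z : K) ≠ 0 := z.ne_zero
  have hzp : (z : K) ^ p = 1 := by
    rw [← Units.val_pow_eq_pow_val, ← hz, pow_orderOf_eq_one, Units.val_one]
  have hz1 : (z : K) ≠ 1 := by
    intro h
    have h1 : z = 1 := Units.ext h
    rw [h1, orderOf_one] at hz
    exact hp.out.one_lt.ne hz
  have hz2 : (z : K) * z ≠ 1 := by
    intro h
    have h1 : z ^ 2 = 1 := Units.ext (by rw [Units.val_pow_eq_pow_val, pow_two, h, Units.val_one])
    have h2 := orderOf_dvd_of_pow_eq_one h1
    rw [hz] at h2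
    exact hp2 ((Nat.prime_dvd_prime_iff_eq hp.out Nat.prime_two).1 h2)
  have e : (Fin n → ZMod 2) ≃ₗ[ZMod 2] (Fin a → K) × (Fin b → ZMod 2) := by
    apply LinearEquiv.ofFinrankEq
    rw [Module.finrank_fin_fun, Module.finrank_prod, Module.finrank_fin_fun, Module.finrank_pi_fintype,
      Finset.sum_const, Finset.card_univ, Fintype.card_fin, smul_eq_mul, hfr, hn]
  have D := s_XD e hz0 hz1 hzp ha (minpoly.aeval (ZMod 2) (z : K))
    (minpoly_inv_ne (by rw [hfr]; exact hodd) hz0 hz2) (minpoly_eval_one hz1)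
  refine ⟨_, _, _, _, D, ?_, fun hV => ?_⟩
  · refine not_dvd_Yg hp2 D hd hodd ?_ (finrank_sV e) hn hb
    rw [finrank_sN, hfr]
  · have h1 := finrank_sV e
    rw [hV, finrank_bot] at h1
    have hb0 : b = 0 := by omega
    exact s3_exists e (hab.resolve_left fun h => h hb0) hz0

end Cfsg.Agent.H797.EP

private theorem dce_f8538d9d1ef8 : _root_.True := by
  try have : _root_.True := by simp only [_root_.Cfsg.Agent.H797.EP.Tz.congr_simp]
  try have : _root_.True := by simp only [_root_.Cfsg.Agent.H797.EP.adj.eq_1]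
  exact _root_.True.intro
end

-- part: H352/EP/SpOddEv
section
prune_inst 0x10000004410002
set_option linter.all false
open scoped Cfsg.Agent.FastGrp

/-!
# Even degrees in the principal block of `Sp_2n(2)`: the sections of elements of odd type

`evAt_of_sum` : the comparison of the section sums of `piL` and of the constituents of odd degree;
`evAt_of_XD` : the conclusion for the primes `p` dividing the order of an element of odd type.
-/

set_option autoImplicit false

open Matrix Module

namespace Cfsg.Agent.H352.EP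

open Cfsg Cfsg.Agent.Characters.Core Cfsg.Agent.H892.EP
open Cfsg.Agent.H797.EP (Op Psi rho rho_apply IsBeta exists_beta reg t0_sum isCharacter_piL classInner_piL_one XD Yg
  lagW lagC)

variable {n : ℕ}

/-- if all characters in the principal block had odd degree -/
theorem sum_of_odd {p : ℕ} [Fact p.Prime] (hn : 3 ≤ n) {M : Ideal AlgInt} (hM : IsPModular p M)
    (hodd : ∀ χ : IrrCharacter (Sp n), χ ∈ principalBlock M (Sp n) → ¬ 2 ∣ charDegree (χ : Sp n → ℂ))
    {β : IrrCharacter (Sp n)} (hβ : IsBeta β) {x : Sp n} (hx : ∃ k : ℕ, orderOf x = p ^ k) :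
    ∃ m : ℂ, ∑ r ∈ reg p x, piL n (x * r) = ∑ r ∈ reg p x, (1 : ℂ) + m * ∑ r ∈ reg p x, (Op (x * r) - 1) +
      ∑ r ∈ reg p x, (β : Sp n → ℂ) (x * r) := by
  classical
  have hn0 : 0 < n := by omega
  have hβ1 : β ≠ oneChar (Sp n) := fun h => hβ.ne_one hn0 (by rw [h]; rfl)
  have hcases : ∀ χ : IrrCharacter (Sp n), classInner (piL n) (χ : Sp n → ℂ) ≠ 0 → χ ∈ principalBlock M (Sp n) →
      χ = oneChar (Sp n) ∨ χ = rho hn0 ∨ χ = β := by
    intro χ h1 h2
    refine odd_cases hn hβ χ h1 ?_
    rw [← Nat.not_even_iff_odd, even_iff_two_dvd]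
    exact hodd χ h2
  have e1 : classInner (piL n) ((oneChar (Sp n) : IrrCharacter (Sp n)) : Sp n → ℂ) = 1 := classInner_piL_one
  have e2 : ∑ r ∈ reg p x, ((oneChar (Sp n) : IrrCharacter (Sp n)) : Sp n → ℂ) (x * r) = ∑ r ∈ reg p x, (1 : ℂ) := rfl
  by_cases hr : rho hn0 = oneChar (Sp n) ∨ rho hn0 = β
  · refine ⟨0, ?_⟩
    rw [t0_sum hM isCharacter_piL {oneChar (Sp n), β} ?_ hx, Finset.sum_pair hβ1.symm, e1, e2, hβ.piL, zero_mul,
      add_zero, one_mul, one_mul]
    intro χ h1 h2
    rw [Finset.mem_insert, Finset.mem_singleton]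
    rcases hcases χ h1 h2 with h3 | h3 | h3
    · exact Or.inl h3
    · rcases hr with h4 | h4
      · exact Or.inl (h3.trans h4)
      · exact Or.inr (h3.trans h4)
    · exact Or.inr h3
  · push Not at hr
    refine ⟨classInner (piL n) (rho hn0 : Sp n → ℂ), ?_⟩
    rw [t0_sum hM isCharacter_piL {oneChar (Sp n), rho hn0, β} ?_ hx, Finset.sum_insert, Finset.sum_pair hr.2, e1, e2,
      hβ.piL, one_mul, one_mul, add_assoc]
    · rfl
    · rw [Finset.mem_insert, Finset.mem_singleton]
      push Not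
      exact ⟨fun h => hr.1 h.symm, fun h => hβ1 h.symm⟩
    · intro χ h1 h2
      rw [Finset.mem_insert, Finset.mem_insert, Finset.mem_singleton]
      exact hcases χ h1 h2

/-- **the comparison of the section sums** -/
theorem evAt_of_sum {p : ℕ} [Fact p.Prime] (hn : 3 ≤ n) {x : Sp n} (hx : ∃ k : ℕ, orderOf x = p ^ k)
    (H : ∀ β : IrrCharacter (Sp n), IsBeta β → ∀ m : ℂ, ∑ r ∈ reg p x, piL n (x * r) ≠
      ∑ r ∈ reg p x, (1 : ℂ) + m * ∑ r ∈ reg p x, (Op (x * r) - 1) + ∑ r ∈ reg p x, (β : Sp n → ℂ) (x * r)) :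
    EvAt p (Sp n) := by
  intro M hM
  by_contra hcon
  push Not at hcon
  obtain ⟨β, hβ⟩ := exists_beta (n := n)
  obtain ⟨m, hm⟩ := sum_of_odd hn hM hcon hβ hx
  exact H β hβ m hm

/-- **elements of odd type** -/
theorem evAt_of_XD {p : ℕ} [Fact p.Prime] (hn : 3 ≤ n) {x : Sp n} {N N' V2 : Submodule (ZMod 2) (Vv n)}
    (D : XD p x N N' V2) (hpY : ¬ p ∣ Nat.card (Yg V2))
    (hV2 : V2 = ⊥ → ∃ S : Lag n, x • S = S ∧ S ≠ lagW n ∧ S ≠ lagC n) : EvAt p (Sp n) :=
  evAt_of_sum hn ⟨1, by rw [pow_one]; exact D.ord⟩ fun _ hβ m => D.main hpY hβ hV2 m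

end Cfsg.Agent.H352.EP
end

-- part: H797/EP/OddFin
section
set_option linter.all false
open scoped Cfsg.Agent.FastGrp

/-!
# `Sp_2n(2)`, primes `p` such that the order `d` of 2 mod `p` is odd and `d < n`
-/

set_option autoImplicit false

namespace Cfsg.Agent.H797.EP

open Cfsg.Agent.H352.EP Cfsg.Agent.H892.EP

/-- the row `Sp_2n(2)`, odd type, `d < n` -/
theorem psp2_odd {p n d : ℕ} [Fact p.Prime] (hp2 : p ≠ 2) (hn3 : 3 ≤ n) (hodd : Odd d)
    (hd : ∀ j, p ∣ 2 ^ j - 1 ↔ d ∣ j) (hdn : d < n) : EvAt p (Sp n) := by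
  have hd0 : 0 < d := hodd.pos
  have h1 : n = n / d * d + n % d := (Nat.div_add_mod' n d).symm
  obtain ⟨x, N, N', V2, D, h2, h3⟩ := exists_XD (p := p) (a := n / d) (b := n % d) hp2 hodd ((hd d).2 dvd_rfl)
    (fun j => (hd j).1) h1 (Nat.mod_lt _ hd0) (Nat.div_pos hdn.le hd0) (by
      by_contra h
      push Not at h
      obtain ⟨h4, h5⟩ := h
      rw [h4, add_zero] at h1
      have h6 : n / d ≤ 1 := by omega
      have h7 := Nat.mul_le_mul_right d h6
      omega)
  exact evAt_of_XD hn3 D h2 h3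

end Cfsg.Agent.H797.EP
end

-- part: H352/EP/RowPsp2
section
prune_inst 0x10000004410002
set_option linter.all false
open scoped Cfsg.Agent.FastGrp

/-!
# The row `PSp_2m(2)`, `m ≥ 3`, of S4929: the case analysis
-/

set_option autoImplicit false

open Matrix Module

namespace Cfsg.Agent.H352.EP

open Cfsg Cfsg.Agent.Characters.Core Cfsg.Agent.H892.EP
open Cfsg.Agent.H797.EP (QP)

/-- the order of two modulo `p` -/
theorem exists_ord {p : ℕ} (hp : p.Prime) (hp2 : p ≠ 2) : ∃ d : ℕ, 0 < d ∧ ∀ j, p ∣ 2 ^ j - 1 ↔ d ∣ j := by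
  have : Fact p.Prime := ⟨hp⟩
  have h2 : (2 : ZMod p) ≠ 0 := by
    intro h
    have h1 : p ∣ 2 := (ZMod.natCast_eq_zero_iff 2 p).1 (by exact_mod_cast h)
    exact hp2 ((Nat.prime_dvd_prime_iff_eq hp Nat.prime_two).1 h1)
  refine ⟨orderOf (2 : ZMod p), ?_, fun j => ?_⟩
  · rw [orderOf_pos_iff]
    exact Units.isOfFinOrder_val.2 (isOfFinOrder_of_finite (Units.mk0 (2 : ZMod p) h2))
  · rw [orderOf_dvd_iff_pow_eq_one]
    have h1 : 1 ≤ 2 ^ j := Nat.one_le_two_pow
    rw [← ZMod.natCast_eq_zero_iff, Nat.cast_sub h1, sub_eq_zero]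
    push_cast
    exact Iff.rfl

/-- **The case analysis.** -/
theorem row_psp2_of
    (h3 : ∀ n : ℕ, 3 ≤ n → EvAt 3 (Sp n))
    (hC : ∀ (m : ℕ) (F : Type) [Field F] [Fintype F] (p : ℕ) [Fact p.Prime] (d : ℕ), 2 ≤ m → Fintype.card F = 2 →
      p ≠ 2 → (∀ j, p ∣ 2 ^ j - 1 ↔ d ∣ j) → (m < d ∨ (m = d ∧ Odd d)) → p ∣ Nat.card (PSp m F) → EvAt p (PSp m F))
    (m : ℕ) (hm : 3 ≤ m) (F : Type) [Field F] [Fintype F] (hF : Fintype.card F = 2) : Ev (PSp m F) := by
  intro p hp hp2 hdiv
  have : Fact p.Prime := ⟨hp⟩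
  obtain ⟨e0⟩ := nonempty_psp_equiv (m := m) hF (by omega)
  obtain ⟨d, hd0, hd⟩ := exists_ord hp hp2
  by_cases hcyc : m < d ∨ (m = d ∧ Odd d)
  · exact hC m F p d (by omega) hF hp2 hd hcyc hdiv
  · refine EvAt.tr e0 ?_
    push Not at hcyc
    obtain ⟨h1, h2⟩ := hcyc
    rcases Nat.even_or_odd d with he | ho
    · -- `d` even
      by_cases hp3 : p = 3
      · subst hp3
        exact h3 m hm
      · obtain ⟨e, rfl⟩ := he
        have hd' : ∀ j, p ∣ 2 ^ j - 1 ↔ 2 * e ∣ j := fun j => by rw [two_mul]; exact hd j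
        obtain ⟨x, ⟨k, hk⟩, hL, ⟨u, v, hu, hv, huv⟩, θ, hθ⟩ := 
          Cfsg.Agent.H743.EP.SpX.exists_x (n := m) hp2 (e := e) (m := m - e) hd' (by omega) (by omega)
        obtain ⟨j, -, hj⟩ := (Nat.dvd_prime_pow hp).1 (orderOf_dvd_of_pow_eq_one hk)
        exact evAt_even hm hp2 hp3 ⟨j, hj⟩ hL huv hu hv hθ
    · -- `d` odd
      refine Cfsg.Agent.H797.EP.psp2_odd hp2 hm ho hd ?_
      rcases Nat.lt_or_eq_of_le h1 with h | h
      · exact h
      · exact absurd ho (h2 h.symm)

/-- **The row `PSp_2m(2)`, `m ≥ 3`.** -/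
theorem row_psp2 (m : ℕ) (hm : 3 ≤ m) (F : Type) [Field F] [Fintype F] (hF : Fintype.card F = 2) : Ev (PSp m F) := by
  refine row_psp2_of (fun n hn => evAt_three hn) ?_ m hm F hF
  intro m F _ _ p _ d hm hF hp2 hd h hdiv
  exact Cfsg.Agent.H781.EP.psp2_cyc hm hF hp2 hd h hdiv

end Cfsg.Agent.H352.EP
end

-- part: H906/EP/Psu3
section
prune_inst 0x7550271008e2020000000584912062240c0004b001600800884008440000230244800140040031161a0a220900010008114404a0424000000e0004000025060908800404b008000800001e000080000000000000000000000000000000010004000400002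
set_option linter.all false
open scoped Cfsg.Agent.FastGrp

/-!
# S4929: the row of `PSU(3,q)`, `q ≥ 3`

* `evAt_down` : going down to normal subgroups of odd index;
* `evAt_of_real` : a real `p`-element of a central quotient whose preimage has an abelian centralizer
  (primes dividing `q - 1` in `PGU(3,q)` and `q + 1` in `PSU(3,q)`);
* `mem_of_const`, `mem_of_selfcent` : characters which are constant and non-zero on a `p`-section;
* `evAt_of_steinberg` : split BN pairs of rank one with `p` prime to `|B|` and `|U|` even;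
* `evAt_PG_odd` : `p ∣ q² - q + 1`, `q` odd: otherwise every character of the principal block has `U`-fixed vectors, and the
  orthogonality relation of the block between a regular unipotent and a `p`-singular element fails;
* `row_psu3` : the row.
-/

set_option autoImplicit false
set_option linter.unusedSectionVars false
set_option linter.unusedSimpArgs false

open scoped ComplexConjugate
open Cfsg Cfsg.Agent.Characters.Core Cfsg.Agent.H892.EP

namespace Cfsg.Agent.H906.EP

universe u v

section gen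

variable {p : ℕ} [Fact p.Prime]

/-- going down to normal subgroups of odd index -/
theorem evAt_down {G : Type u} [Group G] [Finite G] (N : Subgroup G) [N.Normal] (hodd : Odd N.index)
    (h : EvAt p G) : EvAt p N := by
  intro M hM
  have := Fintype.ofFinite G
  have := Fintype.ofFinite N
  obtain ⟨χ, hχ, h2⟩ := h M hM
  have hc : IsCharacter N (fun n : N => (χ : G → ℂ) n) := isCharacter_comp N.subtype (isIrr_isCharacter χ.2)
  have hne : (fun n : N => (χ : G → ℂ) n) ≠ 0 := by
    intro h0
    exact isIrr_apply_one_ne_zero χ.2 (congrFun h0 1)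
  obtain ⟨θ, hθ, hover⟩ := Cfsg.Agent.H113.NormTwoChar.exists_constituent hc hne
  refine ⟨⟨θ, hθ⟩, Cfsg.Agent.H611.CoverPrincipal.mem_principalBlock_of_over p hM N χ ⟨θ, hθ⟩ hover hχ, ?_⟩
  obtain ⟨h3, h4⟩ := Cfsg.Agent.S0887.result N (χ : G → ℂ) χ.2 θ hθ hover _ _
    (Cfsg.Agent.Blocks.Basic.irr_one_eq_charDegree χ.2) (Cfsg.Agent.Blocks.Basic.irr_one_eq_charDegree hθ)
  obtain ⟨c, hc'⟩ := h3
  have hpos : 0 < charDegree θ := by
    obtain ⟨n, hn0, hn⟩ := isIrr_apply_one hθ
    rw [Cfsg.Agent.Blocks.Basic.charDegree_of_eq hn]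
    exact hn0
  rw [hc', Nat.mul_div_cancel_left _ hpos] at h4
  rw [hc'] at h2
  have h5 : Odd c := Odd.of_dvd_nat hodd h4
  show 2 ∣ charDegree θ
  exact (Nat.Coprime.dvd_of_dvd_mul_right (Nat.coprime_two_left.2 h5) h2)

/-- a criterion for a normal `p`-complement -/
theorem index_of_abelian {H : Type u} [Group H] [Finite H] (D : Subgroup H) (hDn : D.Normal)
    (hab : ∀ a ∈ D, ∀ b ∈ D, a * b = b * a) (hpow : ∀ h : H, h ^ p ∈ D) :
    ∃ k : ℕ, (pPrimeCore p H).index = p ^ k := by
  have hp : p.Prime := Fact.out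
  let K : Subgroup H :=
    { carrier := {x | x ∈ D ∧ Nat.Coprime (orderOf x) p}
      one_mem' := ⟨D.one_mem, by rw [orderOf_one]; exact Nat.coprime_one_left p⟩
      mul_mem' := by
        rintro a b ⟨ha, ha'⟩ ⟨hb, hb'⟩
        refine ⟨D.mul_mem ha hb, ?_⟩
        have h1 : Commute a b := hab a ha b hb
        exact Nat.Coprime.coprime_dvd_left h1.orderOf_mul_dvd_mul_orderOf (Nat.Coprime.mul_left ha' hb')
      inv_mem' := by
        rintro a ⟨ha, ha'⟩
        exact ⟨D.inv_mem ha, by rw [orderOf_inv]; exact ha'⟩ }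
  have hKmem : ∀ x, x ∈ K ↔ x ∈ D ∧ Nat.Coprime (orderOf x) p := fun x => Iff.rfl
  have hKn : K.Normal := ⟨fun x hx g => by
    refine ⟨hDn.conj_mem x hx.1 g, ?_⟩
    have : orderOf (g * x * g⁻¹) = orderOf x := (MulAut.conj g).orderOf_eq x
    rw [this]
    exact hx.2⟩
  have hKc : (Nat.card K).Coprime p := by
    rw [Nat.coprime_comm, hp.coprime_iff_not_dvd]
    intro hd
    obtain ⟨x, hx⟩ := exists_prime_orderOf_dvd_card' p hd
    have h1 := x.2.2
    rw [Subgroup.orderOf_coe, hx, Nat.coprime_self] at h1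
    exact hp.one_lt.ne' h1
  have hle := Cfsg.Agent.Lib.HallHigman.le_pPrimeCore hKn hKc
  have hN : (pPrimeCore p H).Normal := Cfsg.Agent.Lib.Cores.pPrimeCore_normal p
  have hP : IsPGroup p (H ⧸ pPrimeCore p H) := by
    intro x
    obtain ⟨h, rfl⟩ := QuotientGroup.mk'_surjective _ x
    have hD := hpow h
    obtain ⟨k, m, hm, hkm⟩ := Nat.exists_eq_pow_mul_and_not_dvd (orderOf_pos (h ^ p)).ne' p hp.one_lt.ne'
    refine ⟨k + 1, ?_⟩
    rw [← map_pow]
    have h1 : h ^ p ^ (k + 1) ∈ K := by
      rw [pow_succ', pow_mul]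
      refine ⟨D.pow_mem hD _, ?_⟩
      rw [orderOf_pow, hkm, Nat.gcd_eq_right (Dvd.intro _ rfl), Nat.mul_div_cancel_left _ (pow_pos hp.pos k)]
      exact ((Nat.Prime.coprime_iff_not_dvd hp).2 hm).symm
    exact (QuotientGroup.eq_one_iff _).2 (hle h1)
  obtain ⟨k, hk⟩ := IsPGroup.iff_card.1 hP
  exact ⟨k, hk⟩

/-- **the real criterion** in a central quotient -/
theorem evAt_of_real {G : Type u} {Q : Type v} [Group G] [Group Q] [Finite Q] (hp2 : p ≠ 2)
    (pr : G →* Q) (hpr : Function.Surjective pr) (hc : ∀ x ∈ pr.ker, ∀ g : G, x * g = g * x) (Z : G)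
    (hZ : Z ^ p = 1) (hZ1 : pr Z ≠ 1)
    (hab : ∀ a b : G, a * Z = Z * a → b * Z = Z * b → a * b = b * a) (hr : IsConj (pr Z) (pr Z)⁻¹) :
    EvAt p Q := by
  intro M hM
  have hp : p.Prime := Fact.out
  have hz : orderOf (pr Z) = p := by
    refine orderOf_eq_prime ?_ hZ1
    rw [← map_pow, hZ, map_one]
  refine Cfsg.Agent.H809.Evn.exists_even_of_real hM hp2 (pr Z) ⟨1, by rw [hz, pow_one]⟩ hZ1 hr rfl ?_
  set H := Subgroup.centralizer ({pr Z} : Set Q) with hH
  -- lifts of elements of `H`
  have key : ∀ V : G, pr V * pr Z = pr Z * pr V → ∃ κ : G, (∀ g, κ * g = g * κ) ∧ V * Z = κ * Z * V := by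
    intro V hV
    refine ⟨V * Z * V⁻¹ * Z⁻¹, hc _ ?_, by group⟩
    rw [MonoidHom.mem_ker, map_mul, map_mul, map_mul, hV, map_inv, map_inv]
    group
  refine index_of_abelian (((Subgroup.centralizer ({Z} : Set G)).map pr).subgroupOf H) ?_ ?_ ?_
  · refine ⟨fun x hx g => ?_⟩
    rw [Subgroup.mem_subgroupOf] at hx ⊢
    obtain ⟨X, hX, hXx⟩ := hx
    obtain ⟨V, hV⟩ := hpr (g : Q)
    have hg := Subgroup.mem_centralizer_singleton_iff.1 g.2
    rw [← hV] at hg
    obtain ⟨κ, hκ, hVZ⟩ := key V hg
    refine ⟨V * X * V⁻¹, ?_, ?_⟩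
    · have hX' : X * Z = Z * X := Subgroup.mem_centralizer_singleton_iff.1 hX
      refine Subgroup.mem_centralizer_singleton_iff.2 ?_
      have h1 : V⁻¹ * Z = κ⁻¹ * (Z * V⁻¹) := by
        have h2 : Z = κ⁻¹ * (V * Z * V⁻¹) := by rw [hVZ]; group
        calc V⁻¹ * Z = V⁻¹ * (κ⁻¹ * (V * Z * V⁻¹)) := by rw [← h2]
          _ = V⁻¹ * κ⁻¹ * κ⁻¹⁻¹ * κ⁻¹ * (V * Z * V⁻¹) := by group
          _ = (κ * V)⁻¹ * κ⁻¹⁻¹ * κ⁻¹ * (V * Z * V⁻¹) := by group
          _ = (V * κ)⁻¹ * κ⁻¹⁻¹ * κ⁻¹ * (V * Z * V⁻¹) := by rw [hκ V]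
          _ = κ⁻¹ * (Z * V⁻¹) := by group
      have hκi : ∀ g, κ⁻¹ * g = g * κ⁻¹ := fun g => by
        have := hκ g
        calc κ⁻¹ * g = κ⁻¹ * (g * κ) * κ⁻¹ := by group
          _ = κ⁻¹ * (κ * g) * κ⁻¹ := by rw [hκ g]
          _ = g * κ⁻¹ := by group
      calc V * X * V⁻¹ * Z = V * X * (V⁻¹ * Z) := by group
        _ = V * X * (κ⁻¹ * (Z * V⁻¹)) := by rw [h1]
        _ = V * X * κ⁻¹ * Z * V⁻¹ := by group
        _ = κ⁻¹ * (V * X) * Z * V⁻¹ := by rw [hκi]
        _ = κ⁻¹ * V * (X * Z) * V⁻¹ := by group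
        _ = κ⁻¹ * V * (Z * X) * V⁻¹ := by rw [hX']
        _ = κ⁻¹ * (V * Z) * X * V⁻¹ := by group
        _ = κ⁻¹ * (κ * Z * V) * X * V⁻¹ := by rw [hVZ]
        _ = Z * (V * X * V⁻¹) := by group
    · rw [map_mul, map_mul, map_inv, hV, hXx]
      rfl
  · intro a ha b hb
    rw [Subgroup.mem_subgroupOf] at ha hb
    obtain ⟨A, hA, hAa⟩ := ha
    obtain ⟨B, hB, hBb⟩ := hb
    apply Subtype.ext
    rw [Subgroup.coe_mul, Subgroup.coe_mul, ← hAa, ← hBb, ← map_mul, ← map_mul,
      hab A B (Subgroup.mem_centralizer_singleton_iff.1 hA) (Subgroup.mem_centralizer_singleton_iff.1 hB)]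
  · intro h
    rw [Subgroup.mem_subgroupOf]
    obtain ⟨V, hV⟩ := hpr (h : Q)
    have hg := Subgroup.mem_centralizer_singleton_iff.1 h.2
    rw [← hV] at hg
    obtain ⟨κ, hκ, hVZ⟩ := key V hg
    refine ⟨V ^ p, ?_, ?_⟩
    · refine Subgroup.mem_centralizer_singleton_iff.2 ?_
      have hκ' : ∀ g, Commute κ g := hκ
      -- `κ ^ p = 1`
      have h1 : V * Z * V⁻¹ = κ * Z := by rw [hVZ]; group
      have h2 : κ ^ p = 1 := by
        have h3 : (V * Z * V⁻¹) ^ p = 1 := by rw [conj_pow, hZ]; group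
        rw [h1, (hκ' Z).mul_pow, hZ, mul_one] at h3
        exact h3
      have h3 : ∀ n : ℕ, V ^ n * Z = κ ^ n * Z * V ^ n := by
        intro n
        induction n with
        | zero => simp
        | succ n ih =>
          calc V ^ (n + 1) * Z = V ^ n * (V * Z) := by rw [pow_succ]; group
            _ = V ^ n * (κ * Z * V) := by rw [hVZ]
            _ = (V ^ n * κ) * Z * V := by group
            _ = (κ * V ^ n) * Z * V := by rw [hκ]
            _ = κ * (V ^ n * Z) * V := by group
            _ = κ * (κ ^ n * Z * V ^ n) * V := by rw [ih]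
            _ = κ ^ (n + 1) * Z * V ^ (n + 1) := by rw [pow_succ' κ n, pow_succ V n]; group
      rw [h3 p, h2, one_mul]
    · rw [map_pow, hV]
      rfl

end gen


section blk

variable {p : ℕ} [hp : Fact p.Prime] {M : Ideal AlgInt}

/-- a character with constant non-zero value on some `p`-section -/
theorem mem_of_const {G : Type u} [Group G] [Finite G] (hM : IsPModular p M) (χ : IrrCharacter G) (u : G) {c : ℂ}
    (hc : c ≠ 0) (hu : ∃ k, orderOf u = p ^ k)
    (h : ∀ x z, IsPPart p x z → IsConj u z → (χ : G → ℂ) x = c) : χ ∈ principalBlock M G := by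
  classical
  refine mem_of_section_sum hM χ u ?_
  rw [finsum_mem_eq_finite_toFinset_sum _ (Set.toFinite _), Finset.sum_congr rfl (g := fun _ => c) ?_,
    Finset.sum_const, nsmul_eq_mul]
  · refine mul_ne_zero ?_ hc
    rw [Nat.cast_ne_zero, Finset.card_ne_zero]
    refine ⟨u, ?_⟩
    rw [Set.Finite.mem_toFinset]
    exact ⟨u, ⟨1, mul_one u, Commute.one_right u, hu, by
      rw [orderOf_one]; exact fun h => hp.out.one_lt.ne' (Nat.dvd_one.1 h)⟩, IsConj.refl u⟩
  · intro x hx
    rw [Set.Finite.mem_toFinset] at hx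
    obtain ⟨z, hz, hz'⟩ := hx
    exact h x z hz hz'

/-- a character which does not vanish at a `p`-element whose centralizer is a `p`-group -/
theorem mem_of_selfcent {G : Type u} [Group G] [Finite G] (hM : IsPModular p M) (χ : IrrCharacter G) (u : G)
    (hu : ∃ k, orderOf u = p ^ k) (hc : ∀ s, s * u = u * s → ¬ p ∣ orderOf s → s = 1)
    (hχ : (χ : G → ℂ) u ≠ 0) : χ ∈ principalBlock M G := by
  refine mem_of_const hM χ u hχ hu fun x z hx hz => ?_
  obtain ⟨s, hs, hcom, hk, hps⟩ := hx
  obtain ⟨g, rfl⟩ := isConj_iff.1 hz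
  have h1 : g⁻¹ * s * g = 1 := by
    refine hc _ ?_ ?_
    · have h2 : g * u * g⁻¹ * s = s * (g * u * g⁻¹) := hcom
      calc g⁻¹ * s * g * u = g⁻¹ * (s * (g * u * g⁻¹)) * g := by group
        _ = g⁻¹ * (g * u * g⁻¹ * s) * g := by rw [h2]
        _ = u * (g⁻¹ * s * g) := by group
    · have : orderOf (g⁻¹ * s * g) = orderOf s := by
        have := (MulAut.conj g⁻¹).orderOf_eq s
        rw [MulAut.conj_apply, inv_inv] at this
        exact this
      rw [this]
      exact hps
  have h2 : s = 1 := by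
    have : s = g * (g⁻¹ * s * g) * g⁻¹ := by group
    rw [this, h1]
    group
  rw [← hs, h2, mul_one]
  exact isIrr_isClassFunction χ.2 u g

/-- the order of an element is divisible by `p` if its `p`-part is non-trivial -/
theorem dvd_orderOf_of_ppart {G : Type u} [Group G] {x z : G} (h : IsPPart p x z) (hz : z ≠ 1) : p ∣ orderOf x := by
  obtain ⟨s, hs, hcom, ⟨k, hk⟩, hps⟩ := h
  have hco : (orderOf z).Coprime (orderOf s) := by
    rw [hk]
    exact Nat.Coprime.pow_left k ((Nat.Prime.coprime_iff_not_dvd hp.out).2 hps)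
  rw [← hs, hcom.orderOf_mul_eq_mul_orderOf_of_coprime hco, hk]
  refine Dvd.dvd.mul_right (dvd_pow_self p ?_) _
  rintro rfl
  rw [pow_zero, orderOf_eq_one_iff] at hk
  exact hz hk

end blk

section ps

open Cfsg.Agent.H664.R1

variable {G : Type u} [Group G] [Fintype G] (D : Split G)

/-- A character with `U`-fixed vectors is a constituent of the principal series. -/
theorem exists_ps_of_fixed [Fintype D.U] {χ : G → ℂ} (hχ : IsIrrCharacter G χ)
    (h : classInner (fun u : D.U => χ u) 1 ≠ 0) :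
    ∃ f : D.B →* ℂˣ, (∀ b : D.B, (b : G) ∈ D.U → f b = 1) ∧ classInner (D.ps f) χ ≠ 0 := by
  classical
  have := Fintype.ofFinite D.B
  have : Finite (IrrCharacter D.B) := finite_irr
  have := Fintype.ofFinite (IrrCharacter D.B)
  have hN : (D.U.subgroupOf D.B).Normal := ⟨fun n hn g => by
    rw [Subgroup.mem_subgroupOf] at hn ⊢
    exact D.nU g g.2 n hn⟩
  have := Fintype.ofFinite (D.U.subgroupOf D.B)
  have hc : IsCharacter D.B (fun b : D.B => χ b) := isCharacter_comp D.B.subtype (isIrr_isCharacter hχ)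
  obtain ⟨m, hm⟩ := exists_nat_comb hc
  -- the sum over `U`
  have hsum : ∑ u : D.U.subgroupOf D.B, χ ((u : D.B) : G) ≠ 0 := by
    intro h0
    apply h
    rw [classInner_def]
    simp only [Pi.one_apply, map_one, mul_one]
    have h1 : ∑ u : D.U, χ u = ∑ u : D.U.subgroupOf D.B, χ ((u : D.B) : G) :=
      (Fintype.sum_equiv (Subgroup.subgroupOfEquivOfLe D.UB).toEquiv _ _ fun u => rfl).symm
    rw [h1, h0, mul_zero]
  obtain ⟨θ, hθm, hθ⟩ : ∃ θ : IrrCharacter D.B, m θ ≠ 0 ∧ ∑ u : D.U.subgroupOf D.B, (θ : D.B → ℂ) u ≠ 0 := by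
    by_contra hcon
    push Not at hcon
    apply hsum
    have h1 : ∀ u : D.U.subgroupOf D.B, χ ((u : D.B) : G) = ∑ ψ : IrrCharacter D.B, (m ψ : ℂ) * (ψ : D.B → ℂ) u := by
      intro u
      have h2 := congrFun hm (u : D.B)
      rw [Finset.sum_apply] at h2
      simp only [Pi.smul_apply, nsmul_eq_mul] at h2
      exact h2
    rw [Finset.sum_congr rfl fun u _ => h1 u, Finset.sum_comm]
    refine Finset.sum_eq_zero fun ψ _ => ?_
    rw [← Finset.mul_sum]
    by_cases h3 : m ψ = 0
    · rw [h3, Nat.cast_zero, zero_mul]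
    · rw [hcon ψ h3, mul_zero]
  obtain ⟨θ', hθ'⟩ := Blocks.Deflate.exists_deflation (D.U.subgroupOf D.B) (θ : D.B → ℂ) θ.2 hθ
  -- the quotient is abelian
  have hab : IsMulCommutative (D.B ⧸ D.U.subgroupOf D.B) := by
    refine ⟨⟨fun a b => ?_⟩⟩
    obtain ⟨a, rfl⟩ := QuotientGroup.mk_surjective a
    obtain ⟨b, rfl⟩ := QuotientGroup.mk_surjective b
    have key : ∀ a : D.B, ∃ t ∈ D.T, ∃ ht : t ∈ D.B, (QuotientGroup.mk a : D.B ⧸ D.U.subgroupOf D.B) =
        QuotientGroup.mk (⟨t, ht⟩ : D.B) := by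
      rintro ⟨a, ha⟩
      obtain ⟨u, hu, t, ht, rfl⟩ := D.dec a ha
      refine ⟨t, ht, D.TB ht, ?_⟩
      symm
      rw [QuotientGroup.eq, Subgroup.mem_subgroupOf]
      show t⁻¹ * (u * t) ∈ D.U
      rw [← mul_assoc]
      exact D.nU' (D.TB ht) hu
    obtain ⟨s, hs, hsB, h1⟩ := key a
    obtain ⟨t, ht, htB, h2⟩ := key b
    rw [h1, h2]
    show (QuotientGroup.mk (⟨s, hsB⟩ * ⟨t, htB⟩ : D.B) : D.B ⧸ D.U.subgroupOf D.B) =
      QuotientGroup.mk (⟨t, htB⟩ * ⟨s, hsB⟩ : D.B)
    congr 1
    exact Subtype.ext (D.comm s hs t ht)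
  have h1 : (θ' : D.B ⧸ D.U.subgroupOf D.B → ℂ) 1 = 1 := by
    obtain ⟨n, ρ, hρ, h2⟩ := θ'.2
    have h := Representation.IsIrreducible.finrank_eq_one_of_isMulCommutative ρ
    have h3 : ρ.character 1 = 1 := by
      rw [Representation.char_one, h]
      simp
    rw [← h3, h2]
  obtain ⟨f', hf'⟩ := Cfsg.Agent.Characters.Linear.exists_hom_of_isIrrCharacter θ'.2 h1
  refine ⟨f'.comp (QuotientGroup.mk' (D.U.subgroupOf D.B)), ?_, ?_⟩
  · intro b hb
    show f' (QuotientGroup.mk b) = 1
    rw [(QuotientGroup.eq_one_iff b).2 (Subgroup.mem_subgroupOf.2 hb), map_one]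
  · have h2 : (fun b : D.B => ((f'.comp (QuotientGroup.mk' (D.U.subgroupOf D.B))) b : ℂ)) = (θ : D.B → ℂ) := by
      rw [hθ', hf']
      rfl
    rw [D.inner_ps _ hχ, h2, ← classInner_conj_symm, Ne, map_eq_zero, hm]
    have h3 := classInner_sum_smul_irr (fun ψ : IrrCharacter D.B => (m ψ : ℂ)) θ
    simp only [Nat.cast_smul_eq_nsmul] at h3
    rw [h3]
    exact_mod_cast hθm

/-- The principal series vanishes at the elements whose order is divisible by a prime not dividing `|B|`. -/
theorem ps_sing {p : ℕ} (f : D.B →* ℂˣ) {x : G} (hx : p ∣ orderOf x) (hB : ¬ p ∣ Nat.card D.B) : D.ps f x = 0 := by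
  classical
  rw [D.ps_def, OddOrderCharacters.Clifford.indFun_apply]
  refine mul_eq_zero_of_right _ (Finset.sum_eq_zero fun g _ => ?_)
  refine OddOrderCharacters.Clifford.ext_apply_not_mem D.B _ _ fun h => hB ?_
  have h1 : orderOf (g⁻¹ * x * g) = orderOf x := by
    have := (MulAut.conj g⁻¹).orderOf_eq x
    rw [MulAut.conj_apply, inv_inv] at this
    exact this
  rw [← h1] at hx
  exact hx.trans (Subgroup.orderOf_dvd_natCard _ h)

/-- The Steinberg character is in the principal block (`p` prime to `|B|`). -/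
theorem evAt_of_steinberg {p : ℕ} [hp : Fact p.Prime] (hB : ¬ p ∣ Nat.card D.B) (hd : p ∣ Nat.card G)
    (h2 : 2 ∣ Nat.card D.U) : EvAt p G := by
  intro M hM
  obtain ⟨χ, hχ⟩ := D.exists_steinberg
  obtain ⟨u, hu⟩ := exists_prime_orderOf_dvd_card' (G := G) p hd
  have hu1 : u ≠ 1 := by
    rintro rfl
    rw [orderOf_one] at hu
    exact hp.out.one_lt.ne hu
  refine ⟨χ, mem_of_const hM χ u (c := -1) (by norm_num) ⟨1, by rw [hu, pow_one]⟩ ?_, ?_⟩
  · intro x z hxz hz
    have hz1 : z ≠ 1 := by
      rintro rfl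
      exact hu1 ((isConj_one_right.1 hz.symm))
    have h3 := congrFun hχ x
    rw [ps_sing D 1 (dvd_orderOf_of_ppart hxz hz1) hB, Pi.add_apply, Pi.one_apply] at h3
    linear_combination -h3
  · have h3 := congrFun hχ 1
    rw [D.ps_one, Pi.add_apply, Pi.one_apply] at h3
    have h4 : (χ : G → ℂ) 1 = ((Nat.card D.U : ℕ) : ℂ) := by linear_combination -h3
    rw [Cfsg.Agent.Blocks.Basic.charDegree_of_eq h4]
    exact h2

omit [Fintype G] in
theorem irr_zero_of_dz [Finite G] {p : ℕ} [hp : Fact p.Prime] {χ : G → ℂ} (hχ : IsIrrCharacter G χ) {n : ℕ}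
    (hn : χ 1 = n) (h : p ^ (Nat.card G).factorization p ∣ n) {x : G} (hx : p ∣ orderOf x) : χ x = 0 := by
  obtain ⟨m, ρ, hρ, rfl⟩ := hχ
  rw [Representation.char_one] at hn
  have hn' : Module.finrank ℂ (Fin m → ℂ) = n := by exact_mod_cast hn
  refine Cfsg.Agent.S0165.result ρ p ((Nat.card G).factorization p) hp.out (Nat.ordProj_dvd _ _)
    (Nat.pow_succ_factorization_not_dvd Nat.card_pos.ne' hp.out) ?_ x hx
  rw [hn']
  exact h

end ps


section model

open Matrix Cfsg.Agent.LieRecognition.PSUThreeSylow Cfsg.Agent.LieClassical.HermBasic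
  Cfsg.Agent.H664.R1 Cfsg.Agent.H664.R1.U3

variable {F : Type*} [Field F] {σ : F →+* F} [hσ : Fact (∀ x, σ (σ x) = x)]

theorem mul_Sc (A : GUJ σ) {z : GUJ σ} (hz : z ∈ Sc σ) (i j : Fin 3) :
    mat σ (A * z) i j = mat σ A i j * mat σ z 1 1 := by
  obtain ⟨⟨⟨a1, a2, a3⟩, a4, a5, a6⟩, h1, h2⟩ := hz
  rw [mul_entry]
  fin_cases j <;> simp [a1, a2, a3, a4, a5, a6, h1, h2]

/-- The elements commuting with a regular unipotent element are unipotent. -/
theorem mem_U_of_comm {u x : PG σ} (hu : u ∈ (spP σ).U) (huX : u ∉ XP σ) (h : x * u = u * x) :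
    x ∈ (spP σ).U := by
  have hu1 : u ≠ 1 := by
    rintro rfl
    exact huX (XP σ).one_mem
  by_cases hx : x ∈ (spP σ).B
  swap
  · exfalso
    obtain ⟨⟨v, b⟩, hvb⟩ := (spP σ).cellEquiv.surjective ⟨x, hx⟩
    have h1 : (v : PG σ) * (spP σ).w * b = x := congrArg Subtype.val hvb
    apply hu1
    refine (spP σ).eq_one_of_conj b.2 v.2 hu ?_
    rw [h1, mul_assoc, ← h, inv_mul_cancel_left]
    exact (spP σ).UB hu
  obtain ⟨v, hv, t, ht, rfl⟩ := (spP σ).dec x hx
  obtain ⟨s, rfl⟩ := exists_del ht
  obtain ⟨u, hu', rfl⟩ := hu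
  obtain ⟨a, b, hab, rfl⟩ := exists_un hu'
  obtain ⟨v, hv', rfl⟩ := hv
  obtain ⟨a1, b1, hab1, rfl⟩ := exists_un hv'
  have ha : a ≠ 0 := by
    rintro rfl
    exact huX ⟨_, ⟨un_mem _ _ _, rfl⟩, rfl⟩
  have hrel : (1 : F) * σ 1 = 1 := by rw [map_one, one_mul]
  rw [del_apply, ← map_mul, ← map_mul, ← map_mul] at h
  have h1 := (QuotientGroup.eq (s := Sc σ)).1 h
  set A := un a1 b1 hab1 * dg (s : F) 1 s.ne_zero hrel * un a b hab with hA
  set B := un a b hab * (un a1 b1 hab1 * dg (s : F) 1 s.ne_zero hrel) with hB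
  have h2 : B = A * (A⁻¹ * B) := by group
  have e00 : mat σ B 0 0 = mat σ A 0 0 * mat σ (A⁻¹ * B) 1 1 := by
    rw [← mul_Sc A h1, ← h2]
  have e01 : mat σ B 0 1 = mat σ A 0 1 * mat σ (A⁻¹ * B) 1 1 := by
    rw [← mul_Sc A h1, ← h2]
  have a00 : mat σ A 0 0 = s := by
    rw [hA, mul_entry, mul_entry, mul_entry, mul_entry, mat_un, mat_un, mat_dg]
    simp
  have a01 : mat σ A 0 1 = s * a + a1 := by
    rw [hA, mul_entry, mul_entry, mul_entry, mul_entry, mat_un, mat_un, mat_dg]
    simp
  have b00 : mat σ B 0 0 = s := by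
    rw [hB, mul_entry, mul_entry, mul_entry, mul_entry, mat_un, mat_un, mat_dg]
    simp
  have b01 : mat σ B 0 1 = a1 + a := by
    rw [hB, mul_entry, mul_entry, mul_entry, mul_entry, mat_un, mat_un, mat_dg]
    simp
  rw [a00, b00] at e00
  have hz : mat σ (A⁻¹ * B) 1 1 = 1 := by
    have h3 : (s : F) * mat σ (A⁻¹ * B) 1 1 = s * 1 := by rw [← e00, mul_one]
    exact mul_left_cancel₀ s.ne_zero h3
  rw [a01, b01, hz, mul_one] at e01
  have hs : (s : F) = 1 := by
    have h3 : (s : F) * a = 1 * a := by linear_combination -e01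
    exact mul_right_cancel₀ ha h3
  have hs' : s = 1 := Units.ext hs
  rw [hs', map_one, Subgroup.coe_one, mul_one]
  exact ⟨_, un_mem _ _ _, rfl⟩

variable [Fintype F] {q : ℕ}

/-- An irreducible principal series character. -/
theorem exists_noninv [Fintype (PG σ)] (hF : Fintype.card F = q ^ 2) (hq : 3 ≤ q) (hs : ∀ x, σ x = x ^ q) :
    ∃ f : (spP σ).B →* ℂˣ, (∀ b : (spP σ).B, (b : PG σ) ∈ (spP σ).U → f b = 1) ∧
      IsIrrCharacter (PG σ) ((spP σ).ps f) := by
  obtain ⟨γ, hγ⟩ := IsCyclic.exists_generator (α := Fˣ)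
  have hcard : Nat.card Fˣ = (q + 1) * (q - 1) := card_units_eq hF
  have ho : orderOf γ = (q + 1) * (q - 1) := by
    rw [orderOf_eq_card_of_forall_mem_zpowers hγ, hcard]
  have hne : γ ^ (q + 1) ≠ 1 := by
    intro h
    have h1 := orderOf_dvd_of_pow_eq_one h
    rw [ho] at h1
    have h2 := Nat.le_of_dvd (by omega) h1
    have h3 : (q + 1) * 2 ≤ (q + 1) * (q - 1) := Nat.mul_le_mul_left _ (by omega)
    omega
  obtain ⟨lam, -, hlam⟩ := OddOrderCharacters.PrimeTI.exists_hom_ne_one
    (G := Fˣ) ⟨⟨fun a b => mul_comm a b⟩⟩ ⊥ (w := γ ^ (q + 1)) (by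
      rw [Subgroup.mem_bot]
      exact hne)
  obtain ⟨f, hfU, hf⟩ := exists_linP (σ := σ) lam
  refine ⟨f, hfU, (spP σ).isIrr_ps f ?_⟩
  have hrel : (1 : F) * σ 1 = 1 := by rw [map_one, one_mul]
  have hT : ((del σ γ : (spP σ).B) : PG σ) ∈ (spP σ).T := ⟨_, dg_mem _ _ _ _, rfl⟩
  refine ⟨_, hT, ?_⟩
  have e1 : f ⟨((del σ γ : (spP σ).B) : PG σ), (spP σ).TB hT⟩ = lam γ := by
    have h1 := hf (γ : F) 1 γ.ne_zero hrel ((spP σ).TB ⟨_, dg_mem _ _ _ _, rfl⟩)
    refine h1.trans ?_
    congr 1
    apply Units.ext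
    rw [Units.val_mk0, map_one, mul_one]
  have hinv : (σ (γ : F))⁻¹ ≠ 0 := inv_ne_zero ((map_ne_zero σ).2 γ.ne_zero)
  have e2 : f ⟨(spP σ).w⁻¹ * ((del σ γ : (spP σ).B) : PG σ) * (spP σ).w, (spP σ).TB ((spP σ).wT _ hT)⟩ =
      lam (γ ^ q)⁻¹ := by
    have h1 := hf (σ (γ : F))⁻¹ 1 hinv hrel ((spP σ).TB ⟨_, dg_mem _ _ _ _, rfl⟩)
    have h2 : (⟨(spP σ).w⁻¹ * ((del σ γ : (spP σ).B) : PG σ) * (spP σ).w,
        (spP σ).TB ((spP σ).wT _ hT)⟩ : (spP σ).B) =
        ⟨pr σ (dg (σ (γ : F))⁻¹ 1 hinv hrel), (spP σ).TB ⟨_, dg_mem _ _ _ _, rfl⟩⟩ := by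
      apply Subtype.ext
      show (spP σ).w⁻¹ * ((del σ γ : (spP σ).B) : PG σ) * (spP σ).w = pr σ (dg (σ (γ : F))⁻¹ 1 hinv hrel)
      rw [← wel'_conj_dg (γ : F) 1 γ.ne_zero hrel, del_apply]
      show (pr σ (wel' σ))⁻¹ * pr σ _ * pr σ (wel' σ) = _
      rw [← map_inv, ← map_mul, ← map_mul]
    rw [h2]
    refine h1.trans ?_
    congr 1
    apply Units.ext
    rw [Units.val_mk0, map_one, mul_one, Units.val_inv_eq_inv_val, Units.val_pow_eq_pow_val, hs]
  rw [e1, e2]
  intro h
  apply hlam
  rw [pow_succ', map_mul, h, map_inv, inv_mul_cancel]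

/-- **the defining characteristic** -/
theorem evAt_PG_char {p : ℕ} [hp : Fact p.Prime] (hF : Fintype.card F = q ^ 2) (hq : 3 ≤ q) (hs : ∀ x, σ x = x ^ q)
    (hp2 : p ≠ 2) {k : ℕ} (hqp : q = p ^ k) : EvAt p (PG σ) := by
  intro M hM
  have := Fintype.ofFinite (PG σ)
  obtain ⟨f, hfU, hf⟩ := exists_noninv (σ := σ) hF hq hs
  obtain ⟨u, hu, huX⟩ := (fus (σ := σ) hF hq hs).exists_u
  have hu1 : u ≠ 1 := by
    rintro rfl
    exact huX (XP σ).one_mem
  have hcU : Nat.card (spP σ).U = p ^ (k * 3) := by rw [card_UP hF hs, hqp, pow_mul]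
  have hord : ∀ s ∈ (spP σ).U, ∃ j, orderOf s = p ^ j := by
    intro s hsU
    have h1 : orderOf s ∣ p ^ (k * 3) := by
      rw [← hcU]
      exact Subgroup.orderOf_dvd_natCard _ hsU
    obtain ⟨j, -, hj⟩ := (Nat.dvd_prime_pow hp.out).1 h1
    exact ⟨j, hj⟩
  refine ⟨⟨_, hf⟩, mem_of_selfcent hM ⟨_, hf⟩ u (hord u hu) ?_ ?_, ?_⟩
  · intro s hsu hps
    obtain ⟨j, hj⟩ := hord s (mem_U_of_comm hu huX hsu)
    rcases Nat.eq_zero_or_pos j with rfl | hj0
    · rw [pow_zero] at hj
      exact orderOf_eq_one_iff.1 hj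
    · exfalso
      apply hps
      rw [hj]
      exact dvd_pow_self p hj0.ne'
  · show (spP σ).ps f u ≠ 0
    rw [(spP σ).ps_U f hfU hu hu1]
    exact one_ne_zero
  · have h1 : ((spP σ).ps f) 1 = ((q ^ 3 + 1 : ℕ) : ℂ) := by
      rw [(spP σ).ps_one, card_UP hF hs]
      push_cast
      ring
    show 2 ∣ charDegree ((spP σ).ps f)
    rw [Cfsg.Agent.Blocks.Basic.charDegree_of_eq h1]
    have h2 : Odd (q ^ 3) := by
      rw [hqp]
      exact ((hp.out.odd_of_ne_two hp2).pow).pow
    obtain ⟨m, hm⟩ := h2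
    exact ⟨m + 1, by omega⟩

/-- **the primes dividing `q - 1`** -/
theorem evAt_PG_pred {p : ℕ} [hp : Fact p.Prime] (hF : Fintype.card F = q ^ 2) (hs : ∀ x, σ x = x ^ q)
    (hp2 : p ≠ 2) (hd : p ∣ q - 1) : EvAt p (PG σ) := by
  classical
  have hp3 : 3 ≤ p := by
    have := hp.out.two_le
    omega
  have hcard : Nat.card Fˣ = (q + 1) * (q - 1) := card_units_eq hF
  obtain ⟨t, ht⟩ := exists_prime_orderOf_dvd_card' (G := Fˣ) p (by rw [hcard]; exact hd.mul_left _)
  have htp : t ^ p = 1 := by rw [← ht]; exact pow_orderOf_eq_one t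
  have htq : t ^ (q - 1) = 1 := orderOf_dvd_iff_pow_eq_one.1 (by rw [ht]; exact hd)
  have ht1 : t ≠ 1 := by
    rintro rfl
    rw [orderOf_one] at ht
    omega
  have ht2 : t ≠ t⁻¹ := by
    intro h
    have h1 : t ^ 2 = 1 := by
      rw [sq]
      nth_rw 1 [h]
      exact inv_mul_cancel t
    have h2 := orderOf_dvd_of_pow_eq_one h1
    rw [ht] at h2
    have := Nat.le_of_dvd (by norm_num) h2
    omega
  have hq1 : 1 ≤ q := by
    rcases Nat.eq_zero_or_pos q with h | h
    · rw [h] at hF
      simp at hF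
    · exact h
  have hσt : σ (t : F) = t := by
    rw [hs, ← Units.val_pow_eq_pow_val]
    congr 1
    have : q = (q - 1) + 1 := by omega
    rw [this, pow_succ, htq, one_mul]
  have hrel : (1 : F) * σ 1 = 1 := by rw [map_one, one_mul]
  set Z : GUJ σ := dg (t : F) 1 t.ne_zero hrel with hZ
  have hmZ : mat σ Z = !![(t : F), 0, 0; 0, 1, 0; 0, 0, (t : F)⁻¹] := by
    rw [hZ, mat_dg, hσt]
  have h10 : (t : F) ≠ 1 := fun h => ht1 (Units.ext h)
  have h12 : (t : F)⁻¹ ≠ 1 := fun h => h10 (inv_eq_one.1 h)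
  have h02 : (t : F) ≠ (t : F)⁻¹ := fun h => ht2 (Units.ext (by rw [Units.val_inv_eq_inv_val]; exact h))
  have hdiag : ∀ A : GUJ σ, A * Z = Z * A → A ∈ To σ := by
    intro A hA
    have h1 : ∀ i j, mat σ (A * Z) i j = mat σ (Z * A) i j := fun i j => by rw [hA]
    have key : ∀ {a b x : F}, a ≠ b → x * a = b * x → x = 0 := by
      intro a b x hab h
      by_contra hne
      exact hab (mul_left_cancel₀ hne (by rw [h]; ring))
    rw [mem_To]
    refine ⟨⟨?_, ?_, ?_⟩, ?_, ?_, ?_⟩
    · have h2 := h1 1 0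
      rw [mul_entry, mul_entry, hmZ] at h2
      simp only [_root_.Fin.isValue, _root_.Matrix.of_apply, _root_.Matrix.cons_val', _root_.Matrix.cons_val_zero, _root_.Matrix.cons_val_fin_one, _root_.Matrix.cons_val_one, _root_.MulZeroClass.mul_zero, _root_.add_zero, _root_.Matrix.cons_val, _root_.MulZeroClass.zero_mul, _root_.one_mul, _root_.zero_add] at h2
      exact key h10 (by rw [h2, one_mul])
    · have h2 := h1 2 0
      rw [mul_entry, mul_entry, hmZ] at h2
      simp only [_root_.Fin.isValue, _root_.Matrix.of_apply, _root_.Matrix.cons_val', _root_.Matrix.cons_val_zero, _root_.Matrix.cons_val_fin_one, _root_.Matrix.cons_val_one, _root_.MulZeroClass.mul_zero, _root_.add_zero, _root_.Matrix.cons_val, _root_.MulZeroClass.zero_mul, _root_.zero_add] at h2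
      exact key h02 h2
    · have h2 := h1 2 1
      rw [mul_entry, mul_entry, hmZ] at h2
      simp only [_root_.Fin.isValue, _root_.Matrix.of_apply, _root_.Matrix.cons_val', _root_.Matrix.cons_val_one, _root_.Matrix.cons_val_zero, _root_.Matrix.cons_val_fin_one, _root_.MulZeroClass.mul_zero, _root_.mul_one, _root_.zero_add, _root_.Matrix.cons_val, _root_.add_zero, _root_.MulZeroClass.zero_mul] at h2
      exact key h12.symm (by rw [mul_one]; exact h2)
    · have h2 := h1 0 1
      rw [mul_entry, mul_entry, hmZ] at h2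
      simp only [_root_.Fin.isValue, _root_.Matrix.of_apply, _root_.Matrix.cons_val', _root_.Matrix.cons_val_one, _root_.Matrix.cons_val_zero, _root_.Matrix.cons_val_fin_one, _root_.MulZeroClass.mul_zero, _root_.mul_one, _root_.zero_add, _root_.Matrix.cons_val, _root_.add_zero, _root_.MulZeroClass.zero_mul] at h2
      exact key h10.symm (by rw [mul_one]; exact h2)
    · have h2 := h1 0 2
      rw [mul_entry, mul_entry, hmZ] at h2
      simp at h2
      exact key h02.symm h2
    · have h2 := h1 1 2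
      rw [mul_entry, mul_entry, hmZ] at h2
      simp only [_root_.Fin.isValue, _root_.Matrix.of_apply, _root_.Matrix.cons_val', _root_.Matrix.cons_val, _root_.Matrix.cons_val_fin_one, _root_.Matrix.cons_val_zero, _root_.MulZeroClass.mul_zero, _root_.Matrix.cons_val_one, _root_.add_zero, _root_.zero_add, _root_.MulZeroClass.zero_mul, _root_.one_mul] at h2
      exact key h12 (by rw [h2, one_mul])
  refine evAt_of_real hp2 (pr σ) (QuotientGroup.mk'_surjective _) ?_ Z ?_ ?_ ?_ ?_
  · intro x hx g
    rw [QuotientGroup.ker_mk'] at hx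
    exact Sc_comm hx g
  · have hpow : ∀ n : ℕ, mat σ (Z ^ n) = !![(t : F) ^ n, 0, 0; 0, 1, 0; 0, 0, ((t : F)⁻¹) ^ n] := by
      intro n
      induction n with
      | zero =>
        rw [pow_zero, mat_one]
        ext i j
        (revert i j; simp only [_root_.Fin.forall_fin_succ, _root_.pow_zero, _root_.Matrix.of_apply, _root_.Matrix.cons_val', _root_.Matrix.cons_val_fin_one, Fin.isValue, _root_.Matrix.cons_val_zero, _root_.Matrix.cons_val_succ, _root_.IsEmpty.forall_iff, _root_.and_true, _root_.Matrix.one_apply_eq, Nat.reduceAdd, _root_.Fin.succ_zero_eq_one, _root_.ne_eq, _root_.zero_ne_one, _root_.not_false_eq_true, _root_.Matrix.one_apply_ne, _root_.Fin.succ_one_eq_two, Fin.reduceEq, _root_.and_self, _root_.Fin.succ_ne_zero, _root_.true_and])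
      | succ n ih =>
        rw [pow_succ, mat_mul, ih, hmZ]
        ext i j
        (revert i j; simp only [Matrix.mul_apply, Fin.sum_univ_three, pow_succ, _root_.Fin.forall_fin_succ, _root_.inv_pow, _root_.Matrix.of_apply, _root_.Matrix.cons_val', _root_.Matrix.cons_val_fin_one, Fin.isValue, _root_.Matrix.cons_val_zero, _root_.Matrix.cons_val_one, _root_.Matrix.cons_val, _root_.MulZeroClass.mul_zero, _root_.add_zero, _root_.Matrix.cons_val_succ, _root_.mul_one, _root_.zero_add, _root_.forall_const, _root_.true_and, _root_.MulZeroClass.zero_mul, _root_.and_self, _root_.implies_true])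
    apply mat_inj
    rw [hpow, mat_one, _root_.inv_pow, ← Units.val_pow_eq_pow_val, htp, Units.val_one]
    ext i j
    (revert i j; simp only [_root_.Fin.forall_fin_succ, _root_.inv_one, _root_.Matrix.of_apply, _root_.Matrix.cons_val', _root_.Matrix.cons_val_fin_one, Fin.isValue, _root_.Matrix.cons_val_zero, _root_.Matrix.cons_val_succ, _root_.IsEmpty.forall_iff, _root_.and_true, _root_.Matrix.one_apply_eq, Nat.reduceAdd, _root_.Fin.succ_zero_eq_one, _root_.ne_eq, _root_.zero_ne_one, _root_.not_false_eq_true, _root_.Matrix.one_apply_ne, _root_.Fin.succ_one_eq_two, Fin.reduceEq, _root_.and_self, _root_.Fin.succ_ne_zero, _root_.true_and])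
  · intro h
    have h1 := (QuotientGroup.eq_one_iff Z).1 h
    obtain ⟨-, h2, -⟩ := h1
    rw [hmZ] at h2
    exact h10 h2
  · intro a b ha hb
    exact (split' σ).comm a (hdiag a ha) b (hdiag b hb)
  · refine isConj_iff.2 ⟨(pr σ (wel' σ))⁻¹, ?_⟩
    rw [inv_inv, ← map_inv, ← map_inv, ← map_mul, ← map_mul, hZ, wel'_conj_dg]
    congr 1
    rw [eq_inv_iff_mul_eq_one, dg_mul]
    apply mat_inj
    rw [mat_dg, mat_one, hσt, inv_mul_cancel₀ t.ne_zero]
    ext i j
    (revert i j; simp only [_root_.Fin.forall_fin_succ, _root_.mul_one, _root_.map_one, _root_.inv_one, _root_.Matrix.of_apply, _root_.Matrix.cons_val', _root_.Matrix.cons_val_fin_one, Fin.isValue, _root_.Matrix.cons_val_zero, _root_.Matrix.cons_val_succ, _root_.IsEmpty.forall_iff, _root_.and_true, _root_.Matrix.one_apply_eq, Nat.reduceAdd, _root_.Fin.succ_zero_eq_one, _root_.ne_eq, _root_.zero_ne_one, _root_.not_false_eq_true, _root_.Matrix.one_apply_ne, _root_.Fin.succ_one_eq_two, Fin.reduceEq, _root_.and_self, _root_.Fin.succ_ne_zero,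 _root_.true_and])

/-- linear characters of `PGU(3,q)` are trivial on `PSU(3,q)` -/
theorem lin_S (hF : Fintype.card F = q ^ 2) (hq : 3 ≤ q) (hs : ∀ x, σ x = x ^ q) {χ : PG σ → ℂ}
    (hχ : IsIrrCharacter (PG σ) χ) (h1 : χ 1 = 1) {g : PG σ} (hg : g ∈ S σ) : χ g = 1 := by
  obtain ⟨η, rfl⟩ := Cfsg.Agent.Characters.Linear.exists_hom_of_isIrrCharacter hχ h1
  have h2 := DFunLike.congr_fun (perfect (σ := σ) hF hq hs (η.comp (S σ).subtype)) ⟨g, hg⟩
  show ((η g : ℂˣ) : ℂ) = 1
  have h3 : η g = 1 := h2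
  rw [h3, Units.val_one]

/-- **the primes dividing `q² - q + 1`, `q` odd** -/
theorem evAt_PG_odd {p : ℕ} [hp : Fact p.Prime] (hF : Fintype.card F = q ^ 2) (hq : 3 ≤ q) (hs : ∀ x, σ x = x ^ q)
    (hq2 : Odd q) (hB : ¬ p ∣ Nat.card (spP σ).B) (hq1 : ¬ p ∣ q + 1) (hd : p ∣ Nat.card (S σ)) :
    EvAt p (PG σ) := by
  classical
  intro M hM
  have := Fintype.ofFinite (PG σ)
  have := Fintype.ofFinite (spP σ).U
  have : Finite (IrrCharacter (PG σ)) := finite_irr
  have := Fintype.ofFinite (IrrCharacter (PG σ))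
  have H := fus (σ := σ) hF hq hs
  by_contra hcon
  push Not at hcon
  obtain ⟨u, hu, huX⟩ := H.exists_u
  obtain ⟨x0, hx0, hx01⟩ := H.exists_x
  have hu1 : u ≠ 1 := by
    rintro rfl
    exact huX (XP σ).one_mem
  obtain ⟨x, hx⟩ := exists_prime_orderOf_dvd_card' (G := S σ) p hd
  have hxo : p ∣ orderOf (x : PG σ) := by rw [Subgroup.orderOf_coe, hx]
  have huo : ¬ p ∣ orderOf u := fun h => hB (h.trans (Subgroup.orderOf_dvd_natCard _ ((spP σ).UB hu)))
  have horth := Blocks.Orthogonality.weak_block_orthogonality hM (principalBlock M (PG σ)) (coeff_ring hM) huo hxo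
  -- characters of defect zero
  have hcard := (spP σ).card_G
  rw [card_UP hF hs] at hcard
  have hdz : ∀ {n : ℕ}, q ^ 2 - q + 1 ∣ n → p ^ (Nat.card (PG σ)).factorization p ∣ n := by
    intro n hn
    have h1 : p ^ (Nat.card (PG σ)).factorization p ∣ (q ^ 2 - q + 1) * ((q + 1) * Nat.card (spP σ).B) := by
      have h2 := Nat.ordProj_dvd (Nat.card (PG σ)) p
      have h3 : Nat.card (PG σ) = (q ^ 2 - q + 1) * ((q + 1) * Nat.card (spP σ).B) := by
        rw [hcard, ← mul_assoc]
        congr 1
        have h4 : q ≤ q ^ 2 := by nlinarith only []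
        zify [h4]
        ring
      rw [← h3]
      exact h2
    have h2 : Nat.Coprime (p ^ (Nat.card (PG σ)).factorization p) ((q + 1) * Nat.card (spP σ).B) := by
      refine Nat.Coprime.pow_left _ ?_
      exact Nat.Coprime.mul_right ((Nat.Prime.coprime_iff_not_dvd hp.out).2 hq1)
        ((Nat.Prime.coprime_iff_not_dvd hp.out).2 hB)
    exact (h2.dvd_of_dvd_mul_right h1).trans hn
  -- the terms
  have hterm : ∀ χ : IrrCharacter (PG σ), χ ∈ principalBlock M (PG σ) →
      (χ : PG σ → ℂ) u * conj ((χ : PG σ → ℂ) x) = 0 ∨ (χ : PG σ → ℂ) u * conj ((χ : PG σ → ℂ) x) = 1 := by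
    intro χ hχ
    have hodd := hcon χ hχ
    obtain ⟨n, m, k, a, b, h1, h2, h3, h4, h5, h6, h7, h8, h9⟩ := H.values χ.2 hx0 hx01 hu huX
    rw [Cfsg.Agent.Blocks.Basic.charDegree_of_eq h1] at hodd
    have hk : k ≠ 0 := by
      rintro rfl
      obtain ⟨r, hr⟩ := hq2
      apply hodd
      have e1 : (q : ℤ) * m + (q ^ 3 - q) * b = 0 := by
        rw [← h6]
        simp
      have e2 : (n : ℤ) = -((q ^ 3 - q) * b) - (q - 1) * a := by linear_combination e1 - h5
      have e3 : (2 : ℤ) ∣ n := by
        rw [e2, hr]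
        push_cast
        refine ⟨-((2 * r + 1) * (2 * r ^ 2 + 2 * r) * b) - r * a, ?_⟩
        ring
      exact_mod_cast e3
    obtain ⟨f, hfU, hf⟩ := exists_ps_of_fixed (spP σ) χ.2 (by
      rw [h4]
      exact_mod_cast hk)
    by_cases hinv : (spP σ).Inv f
    · obtain ⟨χ1, χ2, hne, hsum, hdeg⟩ := H.exact_degrees f hinv
      -- `χ` is one of the two
      have hχ12 : χ = χ1 ∨ χ = χ2 := by
        by_contra hno
        push Not at hno
        apply hf
        rw [hsum, classInner_add_left, classInner_irr_ne χ1.2 χ.2 (fun h => hno.1 (Subtype.ext h.symm)),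
          classInner_irr_ne χ2.2 χ.2 (fun h => hno.2 (Subtype.ext h.symm)), add_zero]
      have hps := (spP σ).ps_U f hfU hu hu1
      rw [hsum, Pi.add_apply] at hps
      rcases hdeg with hd1 | hd1 | ⟨hd1, hd2⟩
      · have e1 := lin_S hF hq hs χ1.2 hd1 (U_le_S hu)
        have e2 := lin_S hF hq hs χ1.2 hd1 x.2
        rcases hχ12 with rfl | rfl
        · right
          rw [e1, e2, map_one, mul_one]
        · left
          rw [e1] at hps
          have : (χ : PG σ → ℂ) u = 0 := by linear_combination hps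
          rw [this, zero_mul]
      · have e1 := lin_S hF hq hs χ2.2 hd1 (U_le_S hu)
        have e2 := lin_S hF hq hs χ2.2 hd1 x.2
        rcases hχ12 with rfl | rfl
        · left
          rw [e1] at hps
          have : (χ : PG σ → ℂ) u = 0 := by linear_combination hps
          rw [this, zero_mul]
        · right
          rw [e1, e2, map_one, mul_one]
      · left
        have e1 := irr_zero_of_dz χ1.2 hd1 (hdz dvd_rfl) hxo
        have e2 := irr_zero_of_dz χ2.2 hd2 (hdz (Dvd.intro_left _ rfl)) hxo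
        rcases hχ12 with rfl | rfl
        · rw [e1, map_zero, mul_zero]
        · rw [e2, map_zero, mul_zero]
    · left
      have hirr : IsIrrCharacter (PG σ) ((spP σ).ps f) := by
        refine (spP σ).isIrr_ps f ?_
        by_contra hno
        push Not at hno
        exact hinv ⟨hfU, hno⟩
      have he : (χ : PG σ → ℂ) = (spP σ).ps f := by
        by_contra hno
        exact hf (classInner_irr_ne hirr χ.2 fun h => hno h.symm)
      rw [he, ps_sing (spP σ) f hxo hB, map_zero, mul_zero]
  -- the sum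
  rw [Blocks.Orthogonality.finsum_mem_eq_sum_filter] at horth
  have hre := congrArg Complex.re horth
  rw [Complex.re_sum, Complex.zero_re] at hre
  have hpos : ∀ χ ∈ Finset.univ.filter (fun χ : IrrCharacter (PG σ) => χ ∈ principalBlock M (PG σ)),
      0 ≤ ((χ : PG σ → ℂ) u * conj ((χ : PG σ → ℂ) x)).re := by
    intro χ hχ
    rcases hterm χ (Finset.mem_filter.1 hχ).2 with h | h
    · rw [h, Complex.zero_re]
    · rw [h, Complex.one_re]
      exact zero_le_one
  have h1 := (Finset.sum_eq_zero_iff_of_nonneg hpos).1 hre (oneChar (PG σ))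
    (Finset.mem_filter.2 ⟨Finset.mem_univ _, one_mem_block hM⟩)
  simp at h1

end model

section succ

open Cfsg.Agent.LieClassical Cfsg.Agent.LieClassical.HermBasic

variable {F : Type} [Field F] [Fintype F] {q p : ℕ}

theorem exists_unit_succ (hF : Fintype.card F = q ^ 2) {N : ℕ} (hN : N ∣ q + 1) :
    ∃ z : Fˣ, orderOf z = N ∧ z ^ (q + 1) = 1 := by
  obtain ⟨γ, hγ⟩ := IsCyclic.exists_generator (α := Fˣ)
  have hcard : Nat.card Fˣ = (q + 1) * (q - 1) := card_units_eq hF
  have ho : orderOf γ = (q + 1) * (q - 1) := by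
    rw [orderOf_eq_card_of_forall_mem_zpowers hγ, hcard]
  obtain ⟨m, hm⟩ := hN
  have hpos : 0 < N * m * (q - 1) := by
    rw [← hm, ← hcard]; exact Nat.card_pos
  refine ⟨γ ^ (m * (q - 1)), ?_, ?_⟩
  · rw [orderOf_pow, ho, hm, mul_assoc, Nat.gcd_eq_right (Dvd.intro_left _ rfl)]
    refine Nat.mul_div_cancel _ (Nat.pos_of_ne_zero ?_)
    intro h
    rw [mul_assoc, h, mul_zero] at hpos
    exact lt_irrefl _ hpos
  · rw [← pow_mul]
    have : m * (q - 1) * (q + 1) = (q + 1) * (q - 1) * m := by ring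
    rw [this, pow_mul, ← ho, pow_orderOf_eq_one, one_pow]

/-- the reflecting element -/
def suW (hF : Fintype.card F = q ^ 2) : Cfsg.SU 3 F q :=
  ⟨⟨!![-1, 0, 0; 0, 0, 1; 0, 1, 0], by simp [Matrix.det_fin_three]⟩, by
    refine (mem_SU_iff _).2 ?_
    intro u v
    show ∑ i, ((!![-1, 0, 0; 0, 0, 1; 0, 1, 0] : Matrix (Fin 3) (Fin 3) F).mulVec u i) *
      ((!![-1, 0, 0; 0, 0, 1; 0, 1, 0] : Matrix (Fin 3) (Fin 3) F).mulVec v i) ^ q = ∑ i, u i * (v i) ^ q
    rw [Fin.sum_univ_three, Fin.sum_univ_three]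
    simp only [Matrix.mulVec, dotProduct, Fin.sum_univ_three, neg_pow_q hF, _root_.Fin.isValue, _root_.Matrix.of_apply, _root_.Matrix.cons_val', _root_.Matrix.cons_val_fin_one, _root_.Matrix.cons_val_zero, _root_.neg_mul, _root_.one_mul, _root_.Matrix.cons_val_one, _root_.MulZeroClass.zero_mul, _root_.add_zero, _root_.Matrix.cons_val, _root_.mul_neg, _root_.neg_neg, _root_.zero_add]
    ring⟩

theorem coe_suW (hF : Fintype.card F = q ^ 2) :
    (((suW hF : Cfsg.SU 3 F q) : Matrix.SpecialLinearGroup (Fin 3) F) : Matrix (Fin 3) (Fin 3) F) =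
      !![-1, 0, 0; 0, 0, 1; 0, 1, 0] := rfl

/-- **the primes dividing `q + 1`** -/
theorem evAt_succ [hp : Fact p.Prime] (hF : Fintype.card F = q ^ 2) (hp2 : p ≠ 2) (hd : p ∣ q + 1) :
    EvAt p (PSU 3 F q) := by
  classical
  have hp3 : 3 ≤ p := by
    have := hp.out.two_le
    omega
  obtain ⟨ζ, hζ, hζ1⟩ := exists_unit_succ hF hd
  let d : Fin 3 → Fˣ := ![1, ζ, ζ⁻¹]
  have hζl : ζ ^ p = 1 := by rw [← hζ]; exact pow_orderOf_eq_one ζ
  have hζ0 : ζ ≠ 1 := by
    rintro rfl
    rw [orderOf_one] at hζ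
    omega
  have hζ2 : ζ ≠ ζ⁻¹ := by
    intro h
    have h1 : ζ ^ 2 = 1 := by
      rw [sq]
      nth_rw 1 [h]
      exact inv_mul_cancel ζ
    have h2 := orderOf_dvd_of_pow_eq_one h1
    rw [hζ] at h2
    have := Nat.le_of_dvd (by norm_num) h2
    omega
  have hdl : ∀ i, d i ^ p = 1 := by
    intro i
    fin_cases i
    · exact one_pow p
    · exact hζl
    · change ζ⁻¹ ^ p = 1
      rw [inv_pow, hζl, inv_one]
  have hdq : ∀ i, d i ^ (q + 1) = 1 := by
    intro i
    fin_cases i
    · exact one_pow _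
    · exact hζ1
    · change ζ⁻¹ ^ (q + 1) = 1
      rw [inv_pow, hζ1, inv_one]
  have hdinj : Function.Injective d := by
    intro i j h
    have h01 : (1 : Fˣ) ≠ ζ := hζ0.symm
    have h02 : (1 : Fˣ) ≠ ζ⁻¹ := fun h => hζ0 (by rw [eq_comm, inv_eq_one] at h; exact h)
    fin_cases i <;> fin_cases j <;> first
      | rfl
      | exact absurd h h01
      | exact absurd h h02
      | exact absurd h.symm h01
      | exact absurd h.symm h02
      | exact absurd h hζ2
      | exact absurd h.symm hζ2
  let Z : Cfsg.SU 3 F q := SUBasic.suDiag q (fun i => (d i : F)) (by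
    rw [Fin.prod_univ_three]
    change ((1 : Fˣ) : F) * (ζ : F) * ((ζ⁻¹ : Fˣ) : F) = 1
    rw [Units.val_one, one_mul, Units.mul_inv]) (fun i => by
      rw [← Units.val_pow_eq_pow_val, hdq, Units.val_one])
  have hZ : ((Z : Matrix.SpecialLinearGroup (Fin 3) F) : Matrix (Fin 3) (Fin 3) F) =
      Matrix.diagonal (fun i => (d i : F)) := rfl
  have hdiag : ∀ A : Cfsg.SU 3 F q, A * Z = Z * A → ∀ i j, i ≠ j →
      ((A : Matrix.SpecialLinearGroup (Fin 3) F) : Matrix (Fin 3) (Fin 3) F) i j = 0 := by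
    intro A hA i j hij
    have h1 : ((A : Matrix.SpecialLinearGroup (Fin 3) F) : Matrix (Fin 3) (Fin 3) F) *
        Matrix.diagonal (fun i => (d i : F)) = Matrix.diagonal (fun i => (d i : F)) *
        ((A : Matrix.SpecialLinearGroup (Fin 3) F) : Matrix (Fin 3) (Fin 3) F) :=
      congrArg (fun A : Cfsg.SU 3 F q =>
        ((A : Matrix.SpecialLinearGroup (Fin 3) F) : Matrix (Fin 3) (Fin 3) F)) hA
    have h2 := congrFun (congrFun h1 i) j
    rw [Matrix.mul_diagonal, Matrix.diagonal_mul] at h2
    by_contra hne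
    apply hij
    apply hdinj
    apply Units.ext
    apply mul_right_cancel₀ hne
    rw [← h2]; ring
  refine evAt_of_real hp2 (QuotientGroup.mk' (Subgroup.center (Cfsg.SU 3 F q)))
    (QuotientGroup.mk'_surjective _) ?_ Z ?_ ?_ ?_ ?_
  · intro x hx g
    rw [QuotientGroup.ker_mk'] at hx
    exact (Subgroup.mem_center_iff.1 hx g).symm
  · apply Subtype.ext
    apply Subtype.ext
    change ((Z : Matrix.SpecialLinearGroup (Fin 3) F) ^ p : Matrix.SpecialLinearGroup (Fin 3) F).1 = 1
    rw [Matrix.SpecialLinearGroup.coe_pow, hZ, Matrix.diagonal_pow, ← Matrix.diagonal_one]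
    congr 1
    funext i
    rw [Pi.pow_apply, ← Units.val_pow_eq_pow_val, hdl, Units.val_one]
  · intro h
    rw [QuotientGroup.mk'_apply, QuotientGroup.eq_one_iff] at h
    obtain ⟨c, hcn, hcq, hc⟩ := (SUBasic.mem_center_SU_iff hF le_rfl Z).1 h
    have hc' : Matrix.diagonal (fun i => (d i : F)) = Matrix.diagonal (fun _ => c) := by
      rw [← hZ, hc]
      rfl
    have h0 := congrFun (congrFun hc' 0) 0
    have h1 := congrFun (congrFun hc' 1) 1
    rw [Matrix.diagonal_apply_eq, Matrix.diagonal_apply_eq] at h0 h1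
    have : d 0 = d 1 := Units.ext (h0.trans h1.symm)
    exact absurd (hdinj this) (by decide)
  · intro A B hA hB
    have h1 : ∀ A : Cfsg.SU 3 F q, A * Z = Z * A →
        ((A : Matrix.SpecialLinearGroup (Fin 3) F) : Matrix (Fin 3) (Fin 3) F) =
        Matrix.diagonal fun i => ((A : Matrix.SpecialLinearGroup (Fin 3) F) : Matrix (Fin 3) (Fin 3) F) i i := by
      intro A hA
      ext i j
      by_cases hij : i = j
      · subst hij
        rw [Matrix.diagonal_apply_eq]
      · rw [Matrix.diagonal_apply_ne _ hij, hdiag A hA i j hij]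
    apply Subtype.ext
    apply Subtype.ext
    change ((A : Matrix.SpecialLinearGroup (Fin 3) F) : Matrix (Fin 3) (Fin 3) F) *
        ((B : Matrix.SpecialLinearGroup (Fin 3) F) : Matrix (Fin 3) (Fin 3) F) =
        ((B : Matrix.SpecialLinearGroup (Fin 3) F) : Matrix (Fin 3) (Fin 3) F) *
        ((A : Matrix.SpecialLinearGroup (Fin 3) F) : Matrix (Fin 3) (Fin 3) F)
    rw [h1 A hA, h1 B hB, Matrix.diagonal_mul_diagonal, Matrix.diagonal_mul_diagonal]
    congr 1
    funext i
    ring
  · refine isConj_iff.2 ⟨QuotientGroup.mk' _ (suW hF), ?_⟩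
    rw [← map_inv, ← map_inv, ← map_mul, ← map_mul]
    congr 1
    rw [mul_inv_eq_iff_eq_mul]
    have h2 : Z * (suW hF) * Z = suW hF := by
      apply Subtype.ext
      apply Subtype.ext
      change ((Z : Matrix.SpecialLinearGroup (Fin 3) F) : Matrix (Fin 3) (Fin 3) F) *
        (((suW hF : Cfsg.SU 3 F q) : Matrix.SpecialLinearGroup (Fin 3) F) : Matrix (Fin 3) (Fin 3) F) *
        ((Z : Matrix.SpecialLinearGroup (Fin 3) F) : Matrix (Fin 3) (Fin 3) F) =
        (((suW hF : Cfsg.SU 3 F q) : Matrix.SpecialLinearGroup (Fin 3) F) : Matrix (Fin 3) (Fin 3) F)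
      rw [hZ, coe_suW]
      ext i j
      rw [Matrix.mul_diagonal, Matrix.diagonal_mul]
      (revert i j; simp only [d, _root_.Fin.forall_fin_succ, _root_.Matrix.of_apply, _root_.Matrix.cons_val', _root_.Matrix.cons_val_fin_one, Fin.isValue, _root_.Matrix.cons_val_zero, _root_.Units.val_one, _root_.mul_one, _root_.Matrix.cons_val_succ, _root_.Units.val_inv_eq_inv_val, _root_.forall_const, _root_.mul_neg, _root_.MulZeroClass.mul_zero, _root_.MulZeroClass.zero_mul, _root_.and_self, _root_.ne_eq, _root_.Units.ne_zero, _root_.not_false_eq_true, _root_.mul_inv_cancel₀, _root_.inv_mul_cancel₀, _root_.implies_true])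
    rw [eq_inv_mul_iff_mul_eq, ← mul_assoc, h2]

end succ

section row

open Cfsg.Agent.H664.R1 Cfsg.Agent.H664.R1.U3 Cfsg.Agent.LieClassical.HermBasic

/-- **The row of `PSU(3,q)`** -/
theorem row_psu3 : ∀ (F : Type) [Field F] [Fintype F] (q : ℕ), Fintype.card F = q ^ 2 → q ≠ 2 → Ev (PSU 3 F q) := by
  intro F _ _ q hF hq2 p hp hp2 hd
  have : Fact p.Prime := ⟨hp⟩
  have hq : 3 ≤ q := by
    have h1 : 1 < Fintype.card F := Fintype.one_lt_card
    rw [hF] at h1
    have h2 : q ≠ 0 := by
      rintro rfl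
      simp at h1
    have h3 : q ≠ 1 := by
      rintro rfl
      simp at h1
    omega
  obtain ⟨σ, hσ, hs, ⟨e⟩⟩ := exists_iso hF
  have hdS : p ∣ Nat.card (S σ) := by
    rw [← Nat.card_congr e.toEquiv]
    exact hd
  have hidx : Odd (S σ).index := by
    rcases index_S (σ := σ) hF hq hs with h | ⟨h, -⟩
    · rw [h]; exact odd_one
    · rw [h]; exact ⟨1, rfl⟩
  by_cases h1 : p ∣ q + 1
  · exact evAt_succ hF hp2 h1
  refine EvAt.tr e.symm ?_
  by_cases h2 : p ∣ q - 1
  · exact evAt_down (S σ) hidx (evAt_PG_pred hF hs hp2 h2)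
  obtain ⟨r, k, hr, -, hrk, hk⟩ := exists_prime_pow hF
  by_cases h3 : p ∣ q
  · have h4 : p = r := by
      rw [hrk] at h3
      exact (Nat.prime_dvd_prime_iff_eq hp hr).1 (hp.dvd_of_dvd_pow h3)
    rw [h4] at hp2 ⊢
    have : Fact r.Prime := ⟨hr⟩
    exact evAt_down (S σ) hidx (evAt_PG_char hF hq hs hp2 hrk)
  have hsq : q ^ 2 - 1 = (q + 1) * (q - 1) := by
    have := Nat.sq_sub_sq q 1
    rw [one_pow] at this
    exact this
  have hB : ¬ p ∣ Nat.card (spP σ).B := by
    rw [(spP σ).card_B, card_UP hF hs, card_TP hF hs, hsq]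
    intro h
    rcases (Nat.Prime.dvd_mul hp).1 h with h | h
    · exact h3 (hp.dvd_of_dvd_pow h)
    · rcases (Nat.Prime.dvd_mul hp).1 h with h | h
      · exact h1 h
      · exact h2 h
  rcases Nat.even_or_odd q with hev | hod
  · have hBS : ¬ p ∣ Nat.card (spS σ).B := by
      intro h
      rw [(spS σ).card_B, card_US hF hs] at h
      rcases (Nat.Prime.dvd_mul hp).1 h with h | h
      · exact h3 (hp.dvd_of_dvd_pow h)
      · have h4 := h.trans (card_TS hF hs)
        rw [hsq] at h4
        rcases (Nat.Prime.dvd_mul hp).1 h4 with h | h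
        · exact h1 h
        · exact h2 h
    have := Fintype.ofFinite (S σ)
    refine evAt_of_steinberg (spS σ) hBS hdS ?_
    rw [card_US hF hs]
    exact (even_iff_two_dvd.1 hev).trans (dvd_pow_self q (by norm_num))
  · exact evAt_down (S σ) hidx (evAt_PG_odd hF hq hs hod hB h1 hdS)

end row

end Cfsg.Agent.H906.EP

private theorem dce_0b5ea85f47da : _root_.True := by
  try have : _root_.True := by simp only [_root_.Cfsg.Agent.H664.R1.U3.PG.congr_simp]
  exact _root_.True.intro
end

-- part: H710/EP/Sz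
section
set_option linter.all false
open scoped Cfsg.Agent.FastGrp

/-!
# S4929: the row of the Suzuki groups (helper710)
-/

set_option autoImplicit false

open Cfsg Cfsg.Agent.H892.EP

namespace Cfsg.Agent.H710.EP

theorem row_sz : SpRow fun K => Lie.IsoSuzuki K := by
  intro K _ _ _ h p hp hp2 hd
  have : Fact p.Prime := ⟨hp⟩
  have hcyc := fun P : Sylow p K => Cfsg.Agent.OddRank.SzTits.isCyclic_of_isPGroup h hp2 (P : Subgroup K) P.isPGroup'
  obtain ⟨F, _, _, m, hm, hF, ⟨e⟩⟩ := h
  rw [Nat.card_congr e.toEquiv] at hd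
  obtain ⟨g, hg, hr⟩ := (Cfsg.Agent.H410.RealTw.real_sz hm hF hp2 hd).congr e.symm
  exact evAt_of_real_cyclic hp2 hcyc hg hr

end Cfsg.Agent.H710.EP
end

-- part: H828/EP/Fi24_mg
section
set_option linter.all false
open scoped Cfsg.Agent.FastGrp

-- part: H828/EP/Fi24
section
/-!
# S4929: the row of `Fi₂₄'`, all odd primes except 5 and 23

3, 7: the degree 249458 (the centralizer of a Sylow subgroup is a `p`-group); 11, 13, 17, 29: cyclic Sylow subgroups, real elements.
-/

set_option autoImplicit false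
set_option maxRecDepth 100000

namespace Cfsg.Agent.H828.EP

open Cfsg Cfsg.Agent Subgroup Cfsg.Agent.H892.EP
open Cfsg.Spor (Fi24 Fi24')

theorem card : Nat.card Fi24' = 1255205709190661721292800 := by
  have h1 : Nat.card (commutator Fi24) * (commutator Fi24).index = Nat.card Fi24 := Subgroup.card_mul_index _
  rw [LThreeFi24.FiveConj.card_Fi24, Cfsg.Agent.Fischer.Fi24Final.index_commutator] at h1
  have h2 : Nat.card Fi24' = Nat.card (commutator Fi24) := rfl
  rw [h2]
  omega

theorem fin : Finite Fi24' := H713.Spor.FiTF.finite'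

theorem prime_cases {p : ℕ} (hp : p.Prime) (h : p ∣ 1255205709190661721292800) :
    p = 2 ∨ p = 3 ∨ p = 5 ∨ p = 7 ∨ p = 11 ∨ p = 13 ∨ p = 17 ∨ p = 23 ∨ p = 29 := by
  rw [show 1255205709190661721292800 = 2 ^ 21 * 3 ^ 16 * 5 ^ 2 * 7 ^ 3 * 11 * 13 * 17 * 23 * 29 by norm_num, hp.dvd_mul,
    hp.dvd_mul, hp.dvd_mul, hp.dvd_mul, hp.dvd_mul, hp.dvd_mul, hp.dvd_mul, hp.dvd_mul] at h
  have key : ∀ {q : ℕ}, q.Prime → p ∣ q → p = q := fun hq h1 => (Nat.prime_dvd_prime_iff_eq hp hq).1 h1
  rcases h with (((((((h | h) | h) | h) | h) | h) | h) | h) | h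
  · exact Or.inl (key (by norm_num) (hp.dvd_of_dvd_pow h))
  · exact Or.inr (Or.inl (key (by norm_num) (hp.dvd_of_dvd_pow h)))
  · exact Or.inr (Or.inr (Or.inl (key (by norm_num) (hp.dvd_of_dvd_pow h))))
  · exact Or.inr (Or.inr (Or.inr (Or.inl (key (by norm_num) (hp.dvd_of_dvd_pow h)))))
  · exact Or.inr (Or.inr (Or.inr (Or.inr (Or.inl (key (by norm_num) h)))))
  · exact Or.inr (Or.inr (Or.inr (Or.inr (Or.inr (Or.inl (key (by norm_num) h))))))
  · exact Or.inr (Or.inr (Or.inr (Or.inr (Or.inr (Or.inr (Or.inl (key (by norm_num) h)))))))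
  · exact Or.inr (Or.inr (Or.inr (Or.inr (Or.inr (Or.inr (Or.inr (Or.inl (key (by norm_num) h))))))))
  · exact Or.inr (Or.inr (Or.inr (Or.inr (Or.inr (Or.inr (Or.inr (Or.inr (key (by norm_num) h))))))))

/-- cyclic Sylow subgroups and a real element -/
theorem evAt_cyc {p : ℕ} [hp : Fact p.Prime] (hp2 : p ≠ 2) (h2 : ¬ p ^ 2 ∣ 1255205709190661721292800)
    (hr : H722.RealP.HasReal p Fi24') : EvAt p Fi24' := by
  have := fin
  obtain ⟨z, hz, hzr⟩ := hr.isConj
  refine evAt_of_real_cyclic hp2 (fun P => ?_) hz hzr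
  obtain ⟨k, hk⟩ := P.isPGroup'.exists_card_eq
  have h1 : p ^ k ∣ 1255205709190661721292800 := by
    rw [← hk, ← card]
    exact Subgroup.card_subgroup_dvd_card _
  have h3 : k < 2 := by
    by_contra hk2
    exact h2 ((pow_dvd_pow p (not_lt.1 hk2)).trans h1)
  interval_cases k
  · have := (Nat.card_eq_one_iff_unique.1 hk).1
    exact isCyclic_of_subsingleton
  · exact isCyclic_of_prime_card (by rw [hk, pow_one])

/-- a Sylow subgroup of `Fi₂₄` of odd order lies in `Fi₂₄'` -/
theorem le_comm {p : ℕ} [hp : Fact p.Prime] (hp2 : p ≠ 2) (P : Sylow p Fi24) : (P : Subgroup Fi24) ≤ commutator Fi24 := by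
  intro x hx
  refine H843.Fi24N.mem_commutator ?_
  obtain ⟨k, hk⟩ := P.isPGroup' ⟨x, hx⟩
  have h1 : x ^ p ^ k = 1 := congrArg Subtype.val hk
  exact (hp.out.odd_of_ne_two hp2).pow.of_dvd_nat (orderOf_dvd_of_pow_eq_one h1)

/-- the centralizer of a Sylow `p`-subgroup of `Fi₂₄'` is a `p`-group -/
theorem cent_of {p : ℕ} [hp : Fact p.Prime] (hp2 : p ≠ 2) (P : Sylow p Fi24)
    (h : ∀ g : Fi24, (∀ x ∈ P, Commute g x) → ∃ k : ℕ, g ^ p ^ k = 1) :
    ∃ Q : Sylow p Fi24', ∀ x ∈ centralizer ((Q : Subgroup Fi24') : Set Fi24'), ∃ k : ℕ, x ^ p ^ k = 1 := by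
  refine ⟨P.subtype (le_comm hp2 P), fun x hx => ?_⟩
  obtain ⟨k, hk⟩ := h x (fun y hy => by
    have h1 := mem_centralizer_iff.1 hx ⟨y, le_comm hp2 P hy⟩ hy
    exact (congrArg Subtype.val h1).symm)
  exact ⟨k, Subtype.ext hk⟩

theorem cent_three : ∃ Q : Sylow 3 Fi24', ∀ x ∈ centralizer ((Q : Subgroup Fi24') : Set Fi24'), ∃ k : ℕ, x ^ 3 ^ k = 1 := by
  have f3 : Fact (Nat.Prime 3) := ⟨Nat.prime_three⟩
  obtain ⟨P, hP⟩ := H841.Tri.exists_sylow3
  refine cent_of (by norm_num) P fun g hg => ⟨1, ?_⟩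
  obtain ⟨k, rfl⟩ := mem_zpowers_iff.1 (hP g hg)
  rw [pow_one, ← zpow_natCast, ← zpow_mul, mul_comm, zpow_mul, zpow_natCast, H841.Tri.x3_cube, one_zpow]

open Equiv in
theorem seven_fin : ∀ σ : Perm (Fin 7), σ * (swap (0 : Fin 7) 1 * (swap (1 : Fin 7) 2 * (swap (2 : Fin 7) 3 * (swap (3 : Fin 7) 4 * (swap (4 : Fin 7) 5 * swap (5 : Fin 7) 6))))) =
    (swap (0 : Fin 7) 1 * (swap (1 : Fin 7) 2 * (swap (2 : Fin 7) 3 * (swap (3 : Fin 7) 4 * (swap (4 : Fin 7) 5 * swap (5 : Fin 7) 6))))) * σ → σ ^ 7 = 1 := by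
  intro σ h
  have hc : ∀ j : Fin 7, ∃ m : Fin 7, ((swap (0 : Fin 7) 1 * (swap (1 : Fin 7) 2 * (swap (2 : Fin 7) 3 * (swap (3 : Fin 7) 4 * (swap (4 : Fin 7) 5 * swap (5 : Fin 7) 6)))) :
      Perm (Fin 7)) ^ (m : ℕ)) 0 = j := by decide +kernel
  have h7 : (swap (0 : Fin 7) 1 * (swap (1 : Fin 7) 2 * (swap (2 : Fin 7) 3 * (swap (3 : Fin 7) 4 * (swap (4 : Fin 7) 5 * swap (5 : Fin 7) 6)))) : Perm (Fin 7)) ^ 7 = 1 := by
    decide +kernel
  generalize (swap (0 : Fin 7) 1 * (swap (1 : Fin 7) 2 * (swap (2 : Fin 7) 3 * (swap (3 : Fin 7) 4 * (swap (4 : Fin 7) 5 * swap (5 : Fin 7) 6)))) : Perm (Fin 7)) = c at h hc h7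
  obtain ⟨m, hm⟩ := hc (σ 0)
  have e : σ = c ^ (m : ℕ) := Equiv.ext fun x => by
    obtain ⟨n, rfl⟩ := hc x
    rw [← Perm.mul_apply, ((show Commute σ c from h).pow_right n).eq, Perm.mul_apply, ← hm, ← Perm.mul_apply,
      ← Perm.mul_apply, ← pow_add, ← pow_add, Nat.add_comm]
  rw [e, ← pow_mul, mul_comm, pow_mul, h7, one_pow]

open H842.SevenSyl in
theorem cent_seven : ∃ Q : Sylow 7 Fi24', ∀ x ∈ centralizer ((Q : Subgroup Fi24') : Set Fi24'), ∃ k : ℕ, x ^ 7 ^ k = 1 := by
  have f7 : Fact (Nat.Prime 7) := ⟨by norm_num⟩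
  obtain ⟨P, hP⟩ := exists_sylow
  refine cent_of (by norm_num) P fun g hg => ⟨1, ?_⟩
  have hmem : ∀ x : Fi24, x ∈ dat.P → Commute g x := fun x hx => hg x (by
    change x ∈ (P : Subgroup Fi24)
    rw [hP]; exact hx)
  have hy : Commute g H842.Seven.y7 := hmem _ (dat.mem_P.2 ⟨0, 1, 0, by simp⟩)
  have hc : Commute g c := hmem _ (dat.mem_P.2 ⟨0, 0, 1, by simp⟩)
  obtain ⟨i, σ, rfl⟩ := H842.Seven.exists_of_comm7 hy.eq
  have h1 : Commute (H842.Seven.Psi σ) c := by
    have h2 : H842.Seven.Psi σ = (H842.Seven.y7 ^ i)⁻¹ * (H842.Seven.y7 ^ i * H842.Seven.Psi σ) := by group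
    rw [h2]
    exact (((show Commute c H842.Seven.y7 from c_y7).symm.pow_left i).inv_left).mul_left hc
  have h3 : σ ^ 7 = 1 := by
    apply seven_fin
    apply H842.Seven.Psi_injective
    have h5 := h1.eq
    rw [c_eq, ← map_mul, ← map_mul] at h5
    exact h5
  have h4 : Commute (H842.Seven.y7 ^ i) (H842.Seven.Psi σ) := ((H842.Seven.y7_Psi σ).pow_right i).symm
  rw [pow_one, h4.mul_pow, ← map_pow, h3, map_one, mul_one, ← pow_mul, mul_comm, pow_mul, y7_pow, one_pow]

/-- **`Fi₂₄'`, the primes different from 5 and 23.** -/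
theorem ev_rest : ∀ p : ℕ, p.Prime → p ≠ 2 → p ≠ 5 → p ≠ 23 → p ∣ Nat.card Fi24' → EvAt p Fi24' := by
  intro p hp hp2 hp5 hp23 hd
  have := fin
  have hpF : Fact p.Prime := ⟨hp⟩
  obtain ⟨-, ψ, hψ⟩ := H30.GraphFi24.exists_deg
  rw [card] at hd
  rcases prime_cases hp hd with rfl | rfl | rfl | rfl | rfl | rfl | rfl | rfl | rfl
  · exact absurd rfl hp2
  · obtain ⟨P, hP⟩ := cent_three
    exact H142.EP.evAt_of_centralizer P hP ψ (by rw [hψ]; norm_num) (by rw [hψ]; norm_num)
  · exact absurd rfl hp5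
  · obtain ⟨P, hP⟩ := cent_seven
    exact H142.EP.evAt_of_centralizer P hP ψ (by rw [hψ]; norm_num) (by rw [hψ]; norm_num)
  · exact evAt_cyc (by norm_num) (by norm_num) (H30.RealFi.Fi24.of_fi23 H30.RealFi.Fi24.real11)
  · exact evAt_cyc (by norm_num) (by norm_num)
      (H30.RealFi.Fi24.of_fi23 (H30.RealFi.Fi23.of_fi22 (by norm_num) (by norm_num) H30.RealFi.Fi22.real13))
  · exact evAt_cyc (by norm_num) (by norm_num) (H30.RealFi.Fi24.of_fi23 H30.RealFi.Fi23.real17)
  · exact absurd rfl hp23
  · exact evAt_cyc (by norm_num) (by norm_num) H30.RealFi.Fi24.real29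

/-- the row, from the primes 5 and 23 -/
theorem row_of (h5 : EvAt 5 Fi24') (h23 : EvAt 23 Fi24') : SpRow fun K => Spor.IsoFi24' K := by
  intro K _ _ _ hK
  obtain ⟨e⟩ := hK
  have := fin
  refine Ev.tr e.symm ?_
  intro p hp hp2 hd
  by_cases h1 : p = 5
  · subst h1; exact h5
  by_cases h2 : p = 23
  · subst h2; exact h23
  exact ev_rest p hp hp2 h1 h2 hd

end Cfsg.Agent.H828.EP
end

-- part: H669/EP/Count
section
/-!
# S4929: counting modulo a power of 2 (helper669)

`N` a normal subgroup of index 2 of `G`, `d ∈ G ∖ N`, `2 ^ k ∣ |G : C(d)|`. If all members of the principal `p`-block of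
`N` have odd degree, then for every `v ∈ G`
* `dvd_card_singular` : `2 ^ k` divides the number of conjugates `b` of `d` with `p ∣ orderOf (b * v)`;
* `dvd_card_class` : `y` of order `p`, `p ^ 2 ∤ |G|`, `|C_G(y)| = 2 c`, `c` odd, and all characters of `N` outside the
  principal block have degree divisible by `p`: `2 ^ k` divides twice the number of conjugates `b` of `d` with `b * v`
  conjugate to `y`.
-/

set_option autoImplicit false

open Cfsg

namespace Cfsg.Agent.H669.EP

open Cfsg.Agent.Characters.Core Cfsg.Agent.Blocks.Basic Cfsg.Agent.Blocks.Local Cfsg.Agent.H133.PB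
  Cfsg.Agent.H709.PB Cfsg.Agent.H892.EP
open scoped ComplexConjugate

universe u v

variable {G : Type u} [Group G]

open scoped Classical in
/-- Sums over a class of a class function; only the characters in the function not vanishing at the class matter. -/
theorem index_dvd_count [Fintype G] {p : ℕ} [hp : Fact p.Prime] {φ : G → ℂ} (hφ : IsClassFunction G φ) (d v : G)
    (hB : ∀ χ : IrrCharacter G, classInner φ (χ : G → ℂ) ≠ 0 → (χ : G → ℂ) d ≠ 0 → ¬ p ∣ charDegree (χ : G → ℂ))
    {c : ℕ} (hc : ¬ p ∣ c)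
    (hint : ∀ χ : IrrCharacter G, IsIntegral ℤ ((c : ℂ) * classInner φ (χ : G → ℂ))) {N : ℕ}
    (hN : ∑ b with IsConj d b, φ (b * v) = (N : ℂ)) :
    ∃ m : ℕ, ¬ p ∣ m ∧ (Subgroup.centralizer ({d} : Set G)).index ∣ m * N := by
  have : Finite (IrrCharacter G) := finite_irr
  have : Fintype (IrrCharacter G) := Fintype.ofFinite _
  have hdeg : ∀ χ : IrrCharacter G, (χ : G → ℂ) 1 = (charDegree (χ : G → ℂ) : ℂ) := fun χ =>
    Cfsg.Agent.Blocks.Basic.irr_one_eq_charDegree χ.2
  have hpos : ∀ χ : IrrCharacter G, charDegree (χ : G → ℂ) ≠ 0 := fun χ =>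
    (Cfsg.Agent.Blocks.Basic.charDegree_pos χ.2).ne'
  set s : Finset (IrrCharacter G) := Finset.univ.filter
    (fun χ : IrrCharacter G => classInner φ (χ : G → ℂ) ≠ 0 ∧ (χ : G → ℂ) d ≠ 0) with hs
  have hmem : ∀ χ : IrrCharacter G, χ ∈ s ↔ classInner φ (χ : G → ℂ) ≠ 0 ∧ (χ : G → ℂ) d ≠ 0 := fun χ => by
    rw [hs, Finset.mem_filter]
    exact and_iff_right (Finset.mem_univ _)
  have hkey : ∀ g : G, φ g = ∑ χ : IrrCharacter G, classInner φ (χ : G → ℂ) * (χ : G → ℂ) g := by
    intro g
    have h1 := congrFun (S0152.result φ hφ) g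
    rw [finsum_eq_sum_of_fintype, Finset.sum_apply] at h1
    rw [h1]
    rfl
  have hidx : ((Subgroup.centralizer ({d} : Set G)).index : ℂ) ≠ 0 := by
    exact_mod_cast Subgroup.index_ne_zero_of_finite
  have hsum : (N : ℂ) = ∑ χ : IrrCharacter G, classInner φ (χ : G → ℂ) *
      (((Subgroup.centralizer ({d} : Set G)).index : ℂ) * (χ : G → ℂ) d * (χ : G → ℂ) v / (χ : G → ℂ) 1) := by
    rw [← hN]
    simp_rw [hkey]
    rw [Finset.sum_comm]
    refine Finset.sum_congr rfl fun χ _ => ?_
    rw [← Finset.mul_sum]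
    congr 1
    exact Cfsg.Agent.Characters.ClassMul.sum_class_char_mul χ.2 d v
  refine ⟨c * ∏ χ ∈ s, charDegree (χ : G → ℂ), ?_, ?_⟩
  · intro hd
    rcases (hp.out.dvd_mul).1 hd with h | h
    · exact hc h
    · obtain ⟨χ, h1, hχ⟩ := (Prime.dvd_finsetProd_iff hp.out.prime _).1 h
      exact hB χ ((hmem χ).1 h1).1 ((hmem χ).1 h1).2 hχ
  · set m := ∏ χ ∈ s, charDegree (χ : G → ℂ) with hm
    apply Cfsg.Agent.Characters.DegreeBounds.nat_dvd_of_isIntegral_div Subgroup.index_ne_zero_of_finite
    have h0 : ((c * m * N : ℕ) : ℂ) / ((Subgroup.centralizer ({d} : Set G)).index : ℂ) =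
        ∑ χ : IrrCharacter G, (m : ℂ) * ((c : ℂ) * classInner φ (χ : G → ℂ)) *
          ((χ : G → ℂ) d * (χ : G → ℂ) v / (χ : G → ℂ) 1) := by
      push_cast
      rw [hsum, Finset.mul_sum, Finset.sum_div]
      refine Finset.sum_congr rfl fun χ _ => ?_
      have h1 : (χ : G → ℂ) 1 ≠ 0 := by rw [hdeg χ]; exact_mod_cast hpos χ
      field_simp
    rw [h0]
    apply IsIntegral.sum
    intro χ _
    by_cases hχs : χ ∈ s
    swap
    · have h2 : classInner φ (χ : G → ℂ) = 0 ∨ (χ : G → ℂ) d = 0 := by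
        by_contra hcon
        push Not at hcon
        exact hχs ((hmem χ).2 hcon)
      rcases h2 with h2 | h2
      · rw [h2]
        simp only [mul_zero, zero_mul]
        exact isIntegral_zero
      · rw [h2]
        simp only [mul_zero, zero_mul, zero_div]
        exact isIntegral_zero
    have hsplit : (m : ℂ) = (charDegree (χ : G → ℂ) : ℂ) *
        ∏ ψ ∈ s.erase χ, (charDegree (ψ : G → ℂ) : ℂ) := by
      rw [hm]
      push_cast
      rw [Finset.mul_prod_erase s (fun ψ : IrrCharacter G => (charDegree (ψ : G → ℂ) : ℂ)) hχs]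
    have hne : (charDegree (χ : G → ℂ) : ℂ) ≠ 0 := by exact_mod_cast hpos χ
    have : (m : ℂ) * ((c : ℂ) * classInner φ (χ : G → ℂ)) *
          ((χ : G → ℂ) d * (χ : G → ℂ) v / (χ : G → ℂ) 1) =
        (∏ ψ ∈ s.erase χ, (charDegree (ψ : G → ℂ) : ℂ)) * ((c : ℂ) * classInner φ (χ : G → ℂ)) *
        ((χ : G → ℂ) d * (χ : G → ℂ) v) := by
      rw [hdeg χ, hsplit]
      field_simp
    rw [this]
    have hχ : IsCharacter G (χ : G → ℂ) := by
      obtain ⟨n, ρ, -, h3⟩ := χ.2
      exact ⟨n, ρ, h3⟩
    refine IsIntegral.mul (IsIntegral.mul ?_ (hint χ)) ((Characters.GaloisBasic.isIntegral_apply hχ d).mul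
      (Characters.GaloisBasic.isIntegral_apply hχ v))
    apply IsIntegral.prod
    intro ψ _
    have h3 : IsIntegral ℤ (algebraMap ℤ ℂ (charDegree (ψ : G → ℂ) : ℤ)) :=
      isIntegral_algebraMap
    simpa using h3

/-- A character in the principal block not vanishing outside the subgroup of index 2 restricts to a member of the
principal block. -/
theorem exists_restrict [Finite G] {p : ℕ} [Fact p.Prime] (N : Subgroup G) [N.Normal] (hN : N.index = 2) {d : G}
    (hd : d ∉ N) (χ : IrrCharacter G) (hχ : (χ : G → ℂ) d ≠ 0) :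
    ∃ θ : IrrCharacter N, charDegree (θ : N → ℂ) = charDegree (χ : G → ℂ) ∧
      ∀ M : Ideal AlgInt, IsPModular p M → χ ∈ principalBlock M G → θ ∈ principalBlock M N := by
  classical
  have := Fintype.ofFinite G
  have := Fintype.ofFinite N
  have h1 := HKS.CosetTwo.isIrr_restrict hN χ.2 hd hχ
  refine ⟨⟨_, h1⟩, rfl, fun M hM h => ?_⟩
  refine H611.CoverPrincipal.mem_principalBlock_of_over p hM N χ ⟨_, h1⟩ ?_ h
  change classInner (fun n : N => (χ : G → ℂ) n) (fun n : N => (χ : G → ℂ) n) ≠ 0
  rw [classInner_irr_self h1]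
  exact one_ne_zero

/-- **The counting criterion**, all `p`-singular elements. -/
theorem dvd_card_singular [Finite G] {p : ℕ} [hp : Fact p.Prime] (hp2 : p ≠ 2) (N : Subgroup G) [N.Normal]
    (hN : N.index = 2) {M : Ideal AlgInt} (hM : IsPModular p M)
    (hodd : ∀ θ : IrrCharacter N, θ ∈ principalBlock M N → ¬ 2 ∣ charDegree (θ : N → ℂ)) {d : G} (hd : d ∉ N) (v : G)
    {k : ℕ} (hk : 2 ^ k ∣ (Subgroup.centralizer ({d} : Set G)).index) :
    2 ^ k ∣ Nat.card {b : G // IsConj d b ∧ p ∣ orderOf (b * v)} := by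
  classical
  have := Fintype.ofFinite G
  have : Fact (Nat.Prime 2) := ⟨Nat.prime_two⟩
  obtain ⟨h1, h2, h3⟩ := indicator_regular (G := G) hM
  obtain ⟨m, hm, hdv⟩ := index_dvd_count (p := 2) h1 d v (fun χ hχ1 hχ2 => by
      obtain ⟨θ, hθ, hb⟩ := exists_restrict (p := p) N hN hd χ hχ2
      rw [← hθ]
      refine hodd θ (hb M hM ?_)
      by_contra hcon
      exact hχ1 (h2 χ hcon)) (c := p ^ (Nat.card G).factorization p)
    (fun hd => hp2 ((Nat.prime_dvd_prime_iff_eq Nat.prime_two hp.out).1 (Nat.prime_two.dvd_of_dvd_pow hd)).symm) h3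
    (N := Nat.card {b : G // IsConj d b ∧ ¬ p ∣ orderOf (b * v)}) (by
      rw [Nat.card_eq_fintype_card, Fintype.card_subtype, Finset.card_eq_sum_ones, Nat.cast_sum, Finset.sum_filter,
        Finset.sum_filter]
      refine Finset.sum_congr rfl fun b _ => ?_
      by_cases h5 : p ∣ orderOf (b * v) <;> simp [h5])
  have h4 : (2 ^ k).Coprime m := Nat.Coprime.pow_left _ ((Nat.Prime.coprime_iff_not_dvd Nat.prime_two).2 hm)
  have h5 := h4.dvd_of_dvd_mul_left (hk.trans hdv)
  have h6 : Nat.card {b : G // IsConj d b ∧ p ∣ orderOf (b * v)} +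
      Nat.card {b : G // IsConj d b ∧ ¬ p ∣ orderOf (b * v)} = (Subgroup.centralizer ({d} : Set G)).index := by
    rw [← Cfsg.Agent.Characters.ClassMul.card_filter_isConj, Nat.card_eq_fintype_card, Nat.card_eq_fintype_card,
      Fintype.card_subtype, Fintype.card_subtype, ← Finset.filter_filter, ← Finset.filter_filter]
    exact Finset.card_filter_add_card_filter_not _
  rw [← h6] at hk
  exact (Nat.dvd_add_left h5).1 hk

open scoped Classical in
theorem classInner_class [Fintype G] (y : G) (χ : IrrCharacter G) {a : ℂ} :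
    classInner (fun g : G => if IsConj y g then a else 0) (χ : G → ℂ) * (Nat.card (Subgroup.centralizer ({y} : Set G)) : ℂ) =
      a * conj ((χ : G → ℂ) y) := by
  have hcf := isIrr_isClassFunction χ.2
  have h1 : ∑ g : G, (if IsConj y g then a else 0) * conj ((χ : G → ℂ) g) =
      ((Subgroup.centralizer ({y} : Set G)).index : ℂ) * (a * conj ((χ : G → ℂ) y)) := by
    rw [← Finset.sum_filter_add_sum_filter_not Finset.univ (fun g : G => IsConj y g)]
    have h2 : ∑ g : G with ¬ IsConj y g, (if IsConj y g then a else 0) * conj ((χ : G → ℂ) g) = 0 := by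
      refine Finset.sum_eq_zero fun g hg => ?_
      rw [if_neg (Finset.mem_filter.1 hg).2, zero_mul]
    rw [h2, add_zero]
    have h3 : ∀ g ∈ Finset.univ.filter (fun g : G => IsConj y g),
        (if IsConj y g then a else 0) * conj ((χ : G → ℂ) g) = a * conj ((χ : G → ℂ) y) := by
      intro g hg
      have h4 := (Finset.mem_filter.1 hg).2
      rw [if_pos h4]
      obtain ⟨k, hk⟩ := isConj_iff.1 h4
      rw [← hk, isClassFunction_def.1 hcf]
    rw [Finset.sum_congr rfl h3, Finset.sum_const, nsmul_eq_mul]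
    congr 2
    rw [← Cfsg.Agent.Characters.ClassMul.card_filter_isConj y]
  rw [Characters.Core.classInner_def, h1]
  have hG : (Nat.card G : ℂ) ≠ 0 := by exact_mod_cast Nat.card_pos.ne'
  have h5 : ((Subgroup.centralizer ({y} : Set G)).index : ℂ) * (Nat.card (Subgroup.centralizer ({y} : Set G)) : ℂ) =
      (Nat.card G : ℂ) := by
    rw [mul_comm]
    exact_mod_cast (Subgroup.centralizer ({y} : Set G)).card_mul_index
  field_simp
  linear_combination (a * conj ((χ : G → ℂ) y)) * h5

/-- **The counting criterion**, one class of elements of order `p`. -/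
theorem dvd_card_class [Finite G] {p : ℕ} [hp : Fact p.Prime] (N : Subgroup G) [N.Normal]
    (hN : N.index = 2) {M : Ideal AlgInt} (hM : IsPModular p M) (hNB : NB p 1 N) (hsq : ¬ p ^ 2 ∣ Nat.card G)
    (hodd : ∀ θ : IrrCharacter N, θ ∈ principalBlock M N → ¬ 2 ∣ charDegree (θ : N → ℂ)) {d : G} (hd : d ∉ N) (v : G)
    {y : G} (hy : orderOf y = p) {c : ℕ} (hcy : Nat.card (Subgroup.centralizer ({y} : Set G)) = 2 * c) (hc : ¬ 2 ∣ c)
    {k : ℕ} (hk : 2 ^ k ∣ (Subgroup.centralizer ({d} : Set G)).index) :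
    2 ^ k ∣ 2 * Nat.card {b : G // IsConj d b ∧ IsConj y (b * v)} := by
  classical
  have := Fintype.ofFinite G
  have : Fact (Nat.Prime 2) := ⟨Nat.prime_two⟩
  have hc0 : (c : ℂ) ≠ 0 := by
    intro h
    rw [Nat.cast_eq_zero] at h
    exact hc (h ▸ dvd_zero 2)
  have key : ∀ χ : IrrCharacter G, (c : ℂ) * classInner (fun g : G => if IsConj y g then (2 : ℂ) else 0) (χ : G → ℂ) =
      conj ((χ : G → ℂ) y) := by
    intro χ
    have h1 := classInner_class y χ (a := 2)
    rw [hcy] at h1
    push_cast at h1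
    linear_combination h1 / 2
  have hpG : p ∣ Nat.card G := by
    rw [← hy]; exact orderOf_dvd_natCard y
  obtain ⟨m, hm, hdv⟩ := index_dvd_count (p := 2) (φ := fun g : G => if IsConj y g then (2 : ℂ) else 0)
    (isClassFunction_def.2 fun g k => by
      have : IsConj y (k * g * k⁻¹) ↔ IsConj y g := by
        have h1 : IsConj g (k * g * k⁻¹) := isConj_iff.2 ⟨k, rfl⟩
        exact ⟨fun h => h.trans h1.symm, fun h => h.trans h1⟩
      simp only [this]) d v (fun χ hχ1 hχ2 => by
      obtain ⟨θ, hθ, -⟩ := exists_restrict (p := p) N hN hd χ hχ2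
      have h1 : (χ : G → ℂ) y ≠ 0 := by
        intro h0
        apply hχ1
        have h2 := key χ
        rw [h0, map_zero] at h2
        exact (mul_eq_zero.1 h2).resolve_left hc0
      have h2 : ¬ p ∣ charDegree (χ : G → ℂ) := fun h3 => h1 (H813.K547.vanish χ.2 hp.out hpG hsq h3 (by rw [hy]))
      rw [← hθ]
      refine hodd θ ?_
      by_contra h3
      have h4 := hNB M hM θ h3
      rw [pow_one, hθ] at h4
      exact h2 h4) (c := c) hc (fun χ => by
      rw [key χ]
      have hχ : IsCharacter G (χ : G → ℂ) := by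
        obtain ⟨n, ρ, -, h3⟩ := χ.2
        exact ⟨n, ρ, h3⟩
      have h1 := Characters.GaloisBasic.isIntegral_apply hχ y
      exact h1.map (RingHom.toIntAlgHom (starRingEnd ℂ)))
    (N := 2 * Nat.card {b : G // IsConj d b ∧ IsConj y (b * v)}) (by
      rw [Nat.card_eq_fintype_card, Fintype.card_subtype, Finset.card_eq_sum_ones, Nat.cast_mul, Nat.cast_sum,
        Finset.sum_filter, Finset.sum_filter, Finset.mul_sum]
      refine Finset.sum_congr rfl fun b _ => ?_
      by_cases h4 : IsConj d b <;> by_cases h5 : IsConj y (b * v)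
      · rw [if_pos h4, if_pos h5, if_pos (And.intro h4 h5)]; norm_num
      · rw [if_pos h4, if_neg h5, if_neg (fun h => h5 (And.right h))]; norm_num
      · rw [if_neg h4, if_neg (fun h => h4 (And.left h))]; norm_num
      · rw [if_neg h4, if_neg (fun h => h4 (And.left h))]; norm_num)
  have h4 : (2 ^ k).Coprime m := Nat.Coprime.pow_left _ ((Nat.Prime.coprime_iff_not_dvd Nat.prime_two).2 hm)
  exact h4.dvd_of_dvd_mul_left (hk.trans hdv)

/-- the conclusion of S4929 from the number of the conjugates `b` of `d` with `p ∣ orderOf (b * v)` -/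
theorem evAt_of_singular [Finite G] {p : ℕ} [hp : Fact p.Prime] (hp2 : p ≠ 2) (N : Subgroup G) [N.Normal]
    (hN : N.index = 2) {d : G} (hd : d ∉ N) (v : G) {k : ℕ} (hk : 2 ^ k ∣ (Subgroup.centralizer ({d} : Set G)).index)
    (h : ¬ 2 ^ k ∣ Nat.card {b : G // IsConj d b ∧ p ∣ orderOf (b * v)}) : EvAt p N := by
  intro M hM
  by_contra hcon
  push Not at hcon
  exact h (dvd_card_singular hp2 N hN hM hcon hd v hk)

/-- the conclusion of S4929 from the number of the conjugates `b` of `d` with `orderOf (b * v) = p`, if the elements of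
order `p` are not real, but `v` is real -/
theorem evAt_of_nonreal [Finite G] {p : ℕ} [hp : Fact p.Prime] (N : Subgroup G) [N.Normal] (hN : N.index = 2)
    (hNB : NB p 1 N) (hsq : ¬ p ^ 2 ∣ Nat.card G) {d : G} (hd : d ∉ N) (hdd : d * d = 1) {v c : G}
    (hc : c * v * c⁻¹ = v⁻¹) (hcent : ∀ y : G, orderOf y = p →
      ∃ m : ℕ, Nat.card (Subgroup.centralizer ({y} : Set G)) = 2 * m ∧ ¬ 2 ∣ m)
    (hreal : ∀ y : G, orderOf y = p → ¬ IsConj y y⁻¹) {k : ℕ}
    (hk : 2 ^ k ∣ (Subgroup.centralizer ({d} : Set G)).index)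
    (h : ¬ 2 ^ k ∣ Nat.card {b : G // IsConj d b ∧ orderOf (b * v) = p}) : EvAt p N := by
  classical
  intro M hM
  by_contra hcon
  push Not at hcon
  apply h
  have := Fintype.ofFinite G
  set f : ConjClasses G → ℕ := fun C => Nat.card {b : G // IsConj d b ∧ ConjClasses.mk (b * v) = C} with hf
  set S : Finset (ConjClasses G) := Finset.univ.filter (fun C => ∃ y : G, orderOf y = p ∧ ConjClasses.mk y = C) with hS
  -- the number of the elements in a class
  have h1 : ∀ C ∈ S, 2 ^ k ∣ 2 * f C := by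
    intro C hC
    obtain ⟨y, hy, rfl⟩ := (Finset.mem_filter.1 hC).2
    obtain ⟨m, hm, hm2⟩ := hcent y hy
    have h2 := dvd_card_class N hN hM hNB hsq hcon hd v hy hm hm2 hk
    have h3 : f (ConjClasses.mk y) = Nat.card {b : G // IsConj d b ∧ IsConj y (b * v)} := by
      rw [hf]
      refine Nat.card_congr (Equiv.subtypeEquivRight fun b => ?_)
      rw [ConjClasses.mk_eq_mk_iff_isConj]
      exact and_congr_right fun _ => ⟨IsConj.symm, IsConj.symm⟩
    rw [h3]
    exact h2
  have h2 : Nat.card {b : G // IsConj d b ∧ orderOf (b * v) = p} = ∑ C ∈ S, f C := by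
    have h3 : ∀ C, f C = (Finset.univ.filter (fun b : G => IsConj d b ∧ ConjClasses.mk (b * v) = C)).card := by
      intro C
      show Nat.card {b : G // IsConj d b ∧ ConjClasses.mk (b * v) = C} = _
      rw [Nat.card_eq_fintype_card, Fintype.card_subtype]
    simp_rw [h3]
    rw [Nat.card_eq_fintype_card, Fintype.card_subtype, ← Finset.card_biUnion]
    · congr 1
      ext b
      simp only [Finset.mem_filter, Finset.mem_univ, true_and, Finset.mem_biUnion]
      constructor
      · rintro ⟨h4, h5⟩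
        exact ⟨_, Finset.mem_filter.2 ⟨Finset.mem_univ _, b * v, h5, rfl⟩, h4, rfl⟩
      · rintro ⟨C, hC, h4, h5⟩
        obtain ⟨y, hy, hyC⟩ := (Finset.mem_filter.1 hC).2
        refine ⟨h4, ?_⟩
        rw [← hyC, ConjClasses.mk_eq_mk_iff_isConj] at h5
        obtain ⟨a, ha⟩ := isConj_iff.1 h5
        rw [← hy, ← ha]
        exact ((MulAut.conj a).orderOf_eq _).symm
    · intro C _ C' _ hne
      rw [Function.onFun, Finset.disjoint_left]
      intro b hb hb'
      exact hne ((Finset.mem_filter.1 hb).2.2.symm.trans (Finset.mem_filter.1 hb').2.2)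
  rw [h2, ← ZMod.natCast_eq_zero_iff, Nat.cast_sum]
  have key : ∀ y : G, f (ConjClasses.mk y⁻¹) = f (ConjClasses.mk y) := by
    intro y
    refine Nat.card_congr (Equiv.subtypeEquiv (MulAut.conj c).toEquiv fun b => ?_)
    change _ ↔ (IsConj d (c * b * c⁻¹) ∧ ConjClasses.mk (c * b * c⁻¹ * v) = ConjClasses.mk y)
    have e1 : IsConj b (c * b * c⁻¹) := isConj_iff.2 ⟨c, rfl⟩
    have e2 : IsConj d b ↔ IsConj d (c * b * c⁻¹) := ⟨fun h => h.trans e1, fun h => h.trans e1.symm⟩
    rw [← e2]
    refine and_congr_right fun hb => ?_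
    have hbb : b * b = 1 := by
      obtain ⟨a, rfl⟩ := isConj_iff.1 hb
      calc a * d * a⁻¹ * (a * d * a⁻¹) = a * (d * d) * a⁻¹ := by group
        _ = 1 := by rw [hdd, mul_one, mul_inv_cancel]
    have hb1 : b⁻¹ = b := inv_eq_of_mul_eq_one_left hbb
    -- `c b c⁻¹ v` is conjugate to `(b v)⁻¹`
    have e3 : IsConj (c * b * c⁻¹ * v) (b * v)⁻¹ := by
      have e4 : v = c⁻¹ * v⁻¹ * c := by rw [← hc]; group
      have e5 : c⁻¹ * v * c = v⁻¹ := by
        calc c⁻¹ * v * c = (c⁻¹ * v⁻¹ * c)⁻¹ := by group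
          _ = v⁻¹ := by rw [← e4]
      refine isConj_iff.2 ⟨b * c⁻¹, ?_⟩
      calc b * c⁻¹ * (c * b * c⁻¹ * v) * (b * c⁻¹)⁻¹ = (b * b) * (c⁻¹ * v * c) * b⁻¹ := by group
        _ = (b * v)⁻¹ := by rw [hbb, e5, one_mul, mul_inv_rev]
    rw [ConjClasses.mk_eq_mk_iff_isConj, ConjClasses.mk_eq_mk_iff_isConj]
    have e6 : ∀ a b : G, IsConj a b → IsConj a⁻¹ b⁻¹ := by
      rintro a b hab
      obtain ⟨g, rfl⟩ := isConj_iff.1 hab
      exact isConj_iff.2 ⟨g, by group⟩
    constructor
    · intro h7
      have h8 := e6 _ _ h7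
      rw [inv_inv] at h8
      exact e3.trans h8
    · intro h7
      have h8 := e3.symm.trans h7
      have h9 := e6 _ _ h8
      rwa [inv_inv] at h9
  refine Finset.sum_involution (fun C _ => ConjClasses.mk (Quotient.out C)⁻¹) ?_ ?_ ?_ ?_
  · intro C hC
    have h3 : ConjClasses.mk (Quotient.out C) = C := Quotient.out_eq C
    have h4 : f (ConjClasses.mk (Quotient.out C)⁻¹) = f C := by rw [key, h3]
    rw [h4, ← two_mul]
    have h5 := (ZMod.natCast_eq_zero_iff (2 * f C) (2 ^ k)).2 (h1 C hC)
    push_cast at h5 ⊢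
    exact h5
  · intro C hC _ h4
    obtain ⟨y, hy, hyC⟩ := (Finset.mem_filter.1 hC).2
    have h3 : ConjClasses.mk (Quotient.out C) = C := Quotient.out_eq C
    have h5 : IsConj (Quotient.out C)⁻¹ (Quotient.out C) := by
      rw [← ConjClasses.mk_eq_mk_iff_isConj, h4, h3]
    have h6 : IsConj y (Quotient.out C) := by
      rw [← ConjClasses.mk_eq_mk_iff_isConj, hyC, h3]
    obtain ⟨a, ha⟩ := isConj_iff.1 h6
    have h7 : orderOf (Quotient.out C) = p := by
      rw [← hy, ← ha]
      exact (MulAut.conj a).orderOf_eq _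
    exact hreal _ h7 h5.symm
  · intro C hC
    obtain ⟨y, hy, hyC⟩ := (Finset.mem_filter.1 hC).2
    have h3 : ConjClasses.mk (Quotient.out C) = C := Quotient.out_eq C
    have h6 : IsConj y (Quotient.out C) := by
      rw [← ConjClasses.mk_eq_mk_iff_isConj, hyC, h3]
    obtain ⟨a, ha⟩ := isConj_iff.1 h6
    refine Finset.mem_filter.2 ⟨Finset.mem_univ _, (Quotient.out C)⁻¹, ?_, rfl⟩
    rw [orderOf_inv, ← hy, ← ha]
    exact (MulAut.conj a).orderOf_eq _
  · intro C hC
    have h3 : ConjClasses.mk (Quotient.out C) = C := Quotient.out_eq C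
    obtain ⟨x, hx⟩ : ∃ x : G, x = Quotient.out C := ⟨_, rfl⟩
    obtain ⟨z, hz⟩ : ∃ z : G, z = Quotient.out (ConjClasses.mk x⁻¹) := ⟨_, rfl⟩
    have h4 : ConjClasses.mk z = ConjClasses.mk x⁻¹ := by
      rw [hz]
      exact Quotient.out_eq (ConjClasses.mk x⁻¹)
    rw [ConjClasses.mk_eq_mk_iff_isConj] at h4
    obtain ⟨a, ha⟩ := isConj_iff.1 h4
    have h5 : ConjClasses.mk z⁻¹ = C := by
      rw [← h3, ← hx, ConjClasses.mk_eq_mk_iff_isConj]
      refine isConj_iff.2 ⟨a, ?_⟩
      calc a * z⁻¹ * a⁻¹ = (a * z * a⁻¹)⁻¹ := by group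
        _ = x := by rw [ha, inv_inv]
    rw [hz, hx] at h5
    exact h5

end Cfsg.Agent.H669.EP
end

-- part: H669/EP/FiCyc
section
/-!
# `Fi24`: cycles of the products of a transposition with a fixed element (helper669, for S4929)

`v = word vw`, the list `l` consists of `(p, k, q, cu)`: `cu` is the code of a transposition `d` at the point `p`; the
point `q` is fixed by `(d v) ^ k`, not by `d v` (`cyc_spec`).
-/

set_option autoImplicit false
set_option maxRecDepth 100000
set_option linter.constructorNameAsVariable false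

namespace Cfsg.Agent.H669.EP.Fi

open Cfsg Cfsg.Agent.Lib.PermNet Cfsg.Agent.Lib.PermNetPt Cfsg.Agent.Fischer.Fi24RepDef Cfsg.Agent.Fischer.Fi24Rep
open Cfsg.Agent.Fischer.Fi24Spider (word_append word_cons word_nil)
open Cfsg.Agent.R08.FiTwentyFour (L)
open Cfsg.Agent.KFacts.FiTF.Pts Cfsg.Agent.KFacts.FiTF.FixMask Cfsg.Agent.H843.Pat
open Cfsg.Agent.KFacts.FiTF.Defs (tr)
open Cfsg.Spor (Fi24)
open Cfsg.Spor.Fi24 (Gen)

/-- the check for one point -/
noncomputable def cyc1 (vw : List Gen) (p k q cu : ℕ) : Bool :=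
  (fun (c : Gen) (u : List Gen) => Bool.rec false
    ((fun (W : List Net) => Bool.rec (itx W (fun z => Nat.beq z q) k q) false (Nat.beq (winv W q) q))
      (nw (u ++ c :: (u.reverse ++ vw)) false))
    (Nat.beq (winv (nw u false) p) (pn c))) (gd (Nat.mod cu 16)) (dec 100 (Nat.div cu 16))

theorem cyc1_spec {vw : List Gen} {p k q cu : ℕ} (h : cyc1 vw p k q cu = true) :
    ∃ d, IsPt d p ∧ rho ((d * word vw) ^ k) q = q ∧ rho (d * word vw) q ≠ q := by
  unfold cyc1 at h
  generalize gd (Nat.mod cu 16) = c at h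
  generalize dec 100 (Nat.div cu 16) = u at h
  replace h : (Bool.rec false
    (Bool.rec (itx (nw (u ++ c :: (u.reverse ++ vw)) false) (fun z => Nat.beq z q) k q) false
      (Nat.beq (winv (nw (u ++ c :: (u.reverse ++ vw)) false) q) q) : Bool)
    (Nat.beq (winv (nw u false) p) (pn c)) : Bool) = true := h
  have h1 : Nat.beq (winv (nw u false) p) (pn c) = true := by
    cases hc : Nat.beq (winv (nw u false) p) (pn c) with
    | false => rw [hc] at h; exact absurd h (by simp)
    | true => rfl
  rw [h1] at h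
  replace h : (Bool.rec (itx (nw (u ++ c :: (u.reverse ++ vw)) false) (fun z => Nat.beq z q) k q) false
      (Nat.beq (winv (nw (u ++ c :: (u.reverse ++ vw)) false) q) q) : Bool) = true := h
  have h2 : Nat.beq (winv (nw (u ++ c :: (u.reverse ++ vw)) false) q) q = false := by
    cases hc : Nat.beq (winv (nw (u ++ c :: (u.reverse ++ vw)) false) q) q with
    | true => rw [hc] at h; exact absurd h (by simp)
    | false => rfl
  rw [h2] at h
  replace h : itx (nw (u ++ c :: (u.reverse ++ vw)) false) (fun z => Nat.beq z q) k q = true := h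
  have hW : word (u ++ c :: (u.reverse ++ vw)) = tr u c * word vw := by
    rw [word_append, word_cons, word_append, word_reverse, tr_eq]
    group
  have h3 := Nat.eq_of_beq_eq_true h1
  rw [winv_word, map_inv, Equiv.Perm.inv_eq_iff_eq] at h3
  refine ⟨tr u c, ?_, ?_, ?_⟩
  · rw [tr_eq, h3]
    exact (isPt_gen c).conj _
  · have h4 := itx_eq (u ++ c :: (u.reverse ++ vw)).reverse (fun z => Nat.beq z q) k q
    rw [List.reverse_reverse, h, word_reverse, hW] at h4
    have h5 := Nat.eq_of_beq_eq_true h4.symm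
    rw [inv_pow, map_inv, Equiv.Perm.inv_eq_iff_eq] at h5
    exact h5.symm
  · intro h4
    have h5 : winv (nw (u ++ c :: (u.reverse ++ vw)) false) q = q := by
      rw [winv_word, hW, map_inv, Equiv.Perm.inv_eq_iff_eq]
      exact h4.symm
    rw [h5, Nat.beq_refl] at h2
    exact absurd h2 (by simp)

/-- the check for a list `(p, k, q, cu)` -/
noncomputable def cycL (vw : List Gen) (l : List (ℕ × ℕ × ℕ × ℕ)) : Bool :=
  List.rec (motive := fun _ => Bool) true (fun a _ ih => Bool.rec false ih (cyc1 vw a.1 a.2.1 a.2.2.1 a.2.2.2)) l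

theorem cycL_spec {vw : List Gen} : ∀ {l : List (ℕ × ℕ × ℕ × ℕ)}, cycL vw l = true →
    ∀ a ∈ l, ∃ d, IsPt d a.1 ∧ rho ((d * word vw) ^ a.2.1) a.2.2.1 = a.2.2.1 ∧ rho (d * word vw) a.2.2.1 ≠ a.2.2.1
  | [], _, a, ha => absurd ha (by simp)
  | b :: l, h, a, ha => by
    have h' : (Bool.rec false (cycL vw l) (cyc1 vw b.1 b.2.1 b.2.2.1 b.2.2.2) : Bool) = true := h
    have h1 : cyc1 vw b.1 b.2.1 b.2.2.1 b.2.2.2 = true := by
      cases hc : cyc1 vw b.1 b.2.1 b.2.2.1 b.2.2.2 with
      | false => rw [hc] at h'; exact absurd h' (by simp)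
      | true => rfl
    rw [h1] at h'
    rcases List.mem_cons.1 ha with rfl | ha
    · exact cyc1_spec h1
    · exact cycL_spec h' a ha

/-- a cycle of length prime to the order -/
theorem not_coprime {g : Fi24} {k n q : ℕ} (h1 : rho (g ^ k) q = q) (h2 : rho g q ≠ q) (h3 : g ^ n = 1)
    (h : Nat.Coprime k n) : False := by
  have e1 : Function.IsPeriodicPt (rho g) k q := by
    show (rho g)^[k] q = q
    rw [← Equiv.Perm.coe_pow, ← map_pow]
    exact h1
  have e2 : Function.IsPeriodicPt (rho g) n q := by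
    show (rho g)^[n] q = q
    rw [← Equiv.Perm.coe_pow, ← map_pow, h3, map_one, Equiv.Perm.one_apply]
  have e3 := e1.gcd e2
  rw [show Nat.gcd k n = 1 from h] at e3
  exact h2 e3

theorem dvd_of_cycle {g : Fi24} {p q : ℕ} (hp : p.Prime) (h1 : rho (g ^ p) q = q) (h2 : rho g q ≠ q) :
    p ∣ orderOf g := by
  by_contra hc
  exact not_coprime h1 h2 (pow_orderOf_eq_one g) ((Nat.Prime.coprime_iff_not_dvd hp).2 hc)

end Cfsg.Agent.H669.EP.Fi
end

-- part: H669/EP/FiSet
section
/-!
# `Fi24`: counting transpositions by masks of points (helper669, for S4929)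

* `ncard_eq` : a set of transpositions and the set of the points;
* `covD` : the covering `cov` of `H843.Pat`, the translates being disjoint (`covD_spec`).
-/

set_option autoImplicit false
set_option maxRecDepth 100000
set_option linter.constructorNameAsVariable false

namespace Cfsg.Agent.H669.EP.Fi

open Cfsg Cfsg.Agent.Lib.PermNet Cfsg.Agent.Lib.PermNetPt Cfsg.Agent.Fischer.Fi24RepDef Cfsg.Agent.Fischer.Fi24Rep
open Cfsg.Agent.Fischer.Fi24RepOrb (UG orbG)
open Cfsg.Agent.Fischer.Fi24Spider (word_append word_cons word_nil)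
open Cfsg.Agent.R08.FiTwentyFour (L)
open Cfsg.Agent.KFacts.FiTF.Pts Cfsg.Agent.KFacts.FiTF.FixMask Cfsg.Agent.H843.Pat
open Cfsg.Agent.KFacts.FiTF.Defs (tr)
open Cfsg.Spor (Fi24)
open Cfsg.Spor.Fi24 (Gen)

/-! ### Transpositions and points -/

theorem ncard_eq {S : Set Fi24} {T : Set ℕ} (hS : S ⊆ L) (h : ∀ e p, IsPt e p → (e ∈ S ↔ p ∈ T))
    (hT : ∀ p ∈ T, ∃ e, IsPt e p) : S.ncard = T.ncard := by
  classical
  choose f hf using fun (e : Fi24) (he : e ∈ S) => exists_pt (hS he)
  refine Set.ncard_congr f ?_ ?_ ?_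
  · intro e he
    exact (h e _ (hf e he)).1 he
  · intro a b ha hb hab
    have h1 := hf a ha
    rw [hab] at h1
    exact h1.inj (hf b hb)
  · intro p hp
    obtain ⟨e, he⟩ := hT p hp
    have h1 := (h e p he).2 hp
    exact ⟨e, h1, (hf e h1).uniq he⟩

/-! ### Fixed points -/

/-- `q` is a point fixed by `d v`, `d` the transposition of the code `cu` at the point `p` -/
noncomputable def fix1 (vw : List Gen) (p q cu : ℕ) : Bool :=
  (fun (c : Gen) (u : List Gen) => Bool.rec false
    (Bool.rec false (tbc UG q) (Nat.beq (winv (nw (u ++ c :: (u.reverse ++ vw)) false) q) q))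
    (Nat.beq (winv (nw u false) p) (pn c))) (gd (Nat.mod cu 16)) (dec 100 (Nat.div cu 16))

theorem fix1_spec {vw : List Gen} {p q cu : ℕ} (h : fix1 vw p q cu = true) :
    ∃ d, IsPt d p ∧ rho (d * word vw) q = q ∧ ∃ f, IsPt f q := by
  unfold fix1 at h
  generalize gd (Nat.mod cu 16) = c at h
  generalize dec 100 (Nat.div cu 16) = u at h
  replace h : (Bool.rec false
    (Bool.rec false (tbc UG q) (Nat.beq (winv (nw (u ++ c :: (u.reverse ++ vw)) false) q) q))
    (Nat.beq (winv (nw u false) p) (pn c)) : Bool) = true := h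
  have h1 : Nat.beq (winv (nw u false) p) (pn c) = true := by
    cases hc : Nat.beq (winv (nw u false) p) (pn c) with
    | false => rw [hc] at h; exact absurd h (by simp)
    | true => rfl
  rw [h1] at h
  replace h : (Bool.rec false (tbc UG q) (Nat.beq (winv (nw (u ++ c :: (u.reverse ++ vw)) false) q) q) : Bool) =
    true := h
  have h2 : Nat.beq (winv (nw (u ++ c :: (u.reverse ++ vw)) false) q) q = true := by
    cases hc : Nat.beq (winv (nw (u ++ c :: (u.reverse ++ vw)) false) q) q with
    | false => rw [hc] at h; exact absurd h (by simp)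
    | true => rfl
  rw [h2] at h
  replace h : tbc UG q = true := h
  rw [tbc_eq] at h
  have hW : word (u ++ c :: (u.reverse ++ vw)) = tr u c * word vw := by
    rw [word_append, word_cons, word_append, word_reverse, tr_eq]
    group
  have h3 := Nat.eq_of_beq_eq_true h1
  rw [winv_word, map_inv, Equiv.Perm.inv_eq_iff_eq] at h3
  refine ⟨tr u c, ?_, ?_, ?_⟩
  · rw [tr_eq, h3]
    exact (isPt_gen c).conj _
  · have h4 := Nat.eq_of_beq_eq_true h2
    rw [winv_word, hW, map_inv, Equiv.Perm.inv_eq_iff_eq] at h4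
    exact h4.symm
  · have h5 : q ∈ {p : ℕ | ∃ x, rho x 0 = p} := by
      rw [orbG]
      exact h
    obtain ⟨g, hg⟩ := h5
    exact ⟨_, g, hg, rfl⟩

/-- the check for a list `(p, _, q, cu)` -/
noncomputable def fixL (vw : List Gen) (l : List (ℕ × ℕ × ℕ × ℕ)) : Bool :=
  List.rec (motive := fun _ => Bool) true (fun a _ ih => Bool.rec false ih (fix1 vw a.1 a.2.2.1 a.2.2.2)) l

theorem fixL_spec {vw : List Gen} : ∀ {l : List (ℕ × ℕ × ℕ × ℕ)}, fixL vw l = true →
    ∀ a ∈ l, ∃ d, IsPt d a.1 ∧ rho (d * word vw) a.2.2.1 = a.2.2.1 ∧ ∃ f, IsPt f a.2.2.1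
  | [], _, a, ha => absurd ha (by simp)
  | b :: l, h, a, ha => by
    have h' : (Bool.rec false (fixL vw l) (fix1 vw b.1 b.2.2.1 b.2.2.2) : Bool) = true := h
    have h1 : fix1 vw b.1 b.2.2.1 b.2.2.2 = true := by
      cases hc : fix1 vw b.1 b.2.2.1 b.2.2.2 with
      | false => rw [hc] at h'; exact absurd h' (by simp)
      | true => rfl
    rw [h1] at h'
    rcases List.mem_cons.1 ha with rfl | ha
    · exact fix1_spec h1
    · exact fixL_spec h' a ha

/-- every point of the list is fixed by the word -/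
noncomputable def fixB (w : List Net) (l : List ℕ) : Bool :=
  List.rec (motive := fun _ => Bool) true (fun p _ ih => Bool.rec false ih (chkPt w p p)) l

theorem fixB_spec {w : List Gen} : ∀ {l : List ℕ}, fixB (nw w false) l = true → ∀ p ∈ l, rho (word w) p = p
  | [], _, a, ha => absurd ha (by simp)
  | b :: l, h, a, ha => by
    have h' : (Bool.rec false (fixB (nw w false) l) (chkPt (nw w false) b b) : Bool) = true := h
    have h1 : chkPt (nw w false) b b = true := by
      cases hc : chkPt (nw w false) b b with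
      | false => rw [hc] at h'; exact absurd h' (by simp)
      | true => rfl
    rw [h1] at h'
    rcases List.mem_cons.1 ha with rfl | ha
    · exact rho_of_chkPt h1
    · exact fixB_spec h' a ha

/-! ### Masks -/

/-- the bits of a mask -/
def bits (M : ℕ) : Set ℕ := {p | M.testBit p = true}

theorem mem_bits {M p : ℕ} : p ∈ bits M ↔ M.testBit p = true := Iff.rfl

theorem finite_bits (M : ℕ) : (bits M).Finite := by
  refine (Set.finite_lt_nat (M.log2 + 1)).subset ?_
  intro p hp
  rw [mem_bits] at hp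
  show p < M.log2 + 1
  by_contra h
  have h1 : M < 2 ^ p := by
    rcases eq_or_ne M 0 with rfl | h0
    · exact Nat.two_pow_pos p
    · exact (Nat.log2_lt h0).1 (by omega)
  rw [Nat.testBit_lt_two_pow h1] at hp
  exact absurd hp (by simp)

theorem bits_msk {l : List ℕ} (h : l.Nodup) : (bits (msk l)).ncard = l.length := by
  have h1 : bits (msk l) = (l.toFinset : Set ℕ) := by
    ext p
    rw [mem_bits, testBit_msk, List.coe_toFinset]
    exact Iff.rfl
  rw [h1, Set.ncard_coe_finset, List.toFinset_card_of_nodup h]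

theorem bits_app (w : List Gen) (M : ℕ) : (bits (appWord (nw w false) M)).ncard = (bits M).ncard := by
  refine Set.ncard_congr (fun p _ => rho (word w) p) ?_ ?_ ?_
  · intro p hp
    rw [mem_bits, testBit_appWord (wok w false), ← rho_word] at hp
    exact hp
  · intro a b _ _ h
    exact (rho (word w)).injective h
  · intro q hq
    refine ⟨rho (word w)⁻¹ q, ?_, ?_⟩
    · rw [mem_bits, testBit_appWord (wok w false), ← rho_word, ← Equiv.Perm.mul_apply, ← map_mul, mul_inv_cancel,
        map_one, Equiv.Perm.one_apply]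
      exact hq
    · rw [← Equiv.Perm.mul_apply, ← map_mul, mul_inv_cancel, map_one, Equiv.Perm.one_apply]

theorem bits_lor {A B : ℕ} (h : Nat.land A B = 0) : (bits (Nat.lor A B)).ncard = (bits A).ncard + (bits B).ncard := by
  have h1 : bits (Nat.lor A B) = bits A ∪ bits B := by
    ext p
    rw [mem_bits, Set.mem_union, mem_bits, mem_bits, show Nat.lor A B = A ||| B from rfl, Nat.testBit_or,
      Bool.or_eq_true]
  rw [h1, Set.ncard_union_eq ?_ (finite_bits A) (finite_bits B)]
  rw [Set.disjoint_left]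
  intro p hp hp'
  have h2 := congrArg (fun x => Nat.testBit x p) h
  rw [show Nat.land A B = A &&& B from rfl] at h2
  simp only [Nat.testBit_and, Nat.zero_testBit] at h2
  rw [mem_bits.1 hp, mem_bits.1 hp'] at h2
  exact absurd h2 (by simp)

/-! ### Disjoint coverings -/

/-- `stp` with the disjointness of the translates, then `k` -/
noncomputable def stpD (M : ℕ) (k : ℕ → Bool) (ws : List (List Gen)) : ℕ → Bool :=
  List.rec (motive := fun _ => ℕ → Bool) k
    (fun w _ ih A => seqB (appWord (nw w false) M) fun B =>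
      Bool.rec false (seqB (Nat.lor A B) ih) (Nat.beq (Nat.land A B) 0)) ws

theorem stpD_spec {M : ℕ} {k : ℕ → Bool} : ∀ {ws : List (List Gen)} {A : ℕ}, stpD M k ws A = true →
    k (stp M ws A) = true ∧ (bits (stp M ws A)).ncard = (bits A).ncard + ws.length * (bits M).ncard
  | [], A, h => ⟨h, by simp [stp]⟩
  | w :: ws, A, h => by
    have h1 : seqB (appWord (nw w false) M) (fun B =>
      Bool.rec false (seqB (Nat.lor A B) (stpD M k ws)) (Nat.beq (Nat.land A B) 0)) = true := h
    rw [seqB_eq, seqB_eq] at h1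
    have h2 : Nat.beq (Nat.land A (appWord (nw w false) M)) 0 = true := by
      cases hc : Nat.beq (Nat.land A (appWord (nw w false) M)) 0 with
      | false => rw [hc] at h1; exact absurd h1 (by simp)
      | true => rfl
    rw [h2] at h1
    obtain ⟨h3, h4⟩ := stpD_spec (ws := ws) h1
    have h5 : stp M (w :: ws) A = stp M ws (Nat.lor A (appWord (nw w false) M)) := by
      show seq _ (stp M ws) = _
      rw [seq_eq]
    rw [h5]
    refine ⟨h3, ?_⟩
    rw [h4, bits_lor (Nat.eq_of_beq_eq_true h2), bits_app, List.length_cons]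
    ring

/-- the covering `cov` with the disjointness of the translates, then `k` -/
noncomputable def covD (k : ℕ → Bool) (ss : List (List (List Gen))) : ℕ → Bool :=
  List.rec (motive := fun _ => ℕ → Bool) k (fun s _ ih M => stpD M ih s M) ss

theorem covD_spec {k : ℕ → Bool} : ∀ {ss : List (List (List Gen))} {M : ℕ}, covD k ss M = true →
    k (cov ss M) = true ∧ (bits (cov ss M)).ncard = cnt ss * (bits M).ncard
  | [], M, h => ⟨h, by simp [cov, cnt]⟩
  | s :: ss, M, h => by
    obtain ⟨h1, h2⟩ := stpD_spec (show stpD M (covD k ss) s M = true from h)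
    obtain ⟨h3, h4⟩ := covD_spec h1
    have h5 : cov (s :: ss) M = cov ss (stp M s M) := by
      show seq _ (cov ss) = _
      rw [seq_eq]
    rw [h5]
    refine ⟨h3, ?_⟩
    rw [h4, h2, show cnt (s :: ss) = (s.length + 1) * cnt ss from rfl]
    ring

end Cfsg.Agent.H669.EP.Fi
end

-- part: H669/EP/FiTwDat
section
/-!
# `Fi24`, `p = 23`: the data (helper669, for S4929)

`vw` : the word of an element `v = y j c ^ 2` of order 30, `y = l a k b` of order 5, `c = f d i e h` of order 6, `j` a
transposition; `ss` : the words of a group of order 180 (modulo `⟨j⟩`) of elements commuting with `j` and centralizing or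
inverting `v`. `lP` (`lN`, `lF`): the points commuting with `j`, up to this group, whose transposition `e` satisfies
`orderOf (e * v) = 23` (does not satisfy it); see `FiCyc`. The entries `(p, 1, q,
     cu)` of `lF`: `q` is fixed by `e * v`.
-/

set_option autoImplicit false
set_option maxRecDepth 100000

namespace Cfsg.Agent.H669.EP.Fi.Tw

open Cfsg.Spor.Fi24 (Gen)

def vw : List Gen := [.f, .d, .i, .j, .e, .h, .l, .a, .f, .d, .i, .k, .b, .e, .h]

/-- the words -/
def ss : List (List (List Gen)) :=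
  [[[.l, .a, .k, .b],
    [.l, .a, .k, .b, .l, .a, .k, .b],
    [.l, .a, .k, .b, .l, .a, .k, .b, .l, .a, .k, .b],
    [.l, .a, .k, .b, .l, .a, .k, .b, .l, .a, .k, .b, .l, .a, .k, .b]],
   [[.f, .d, .i, .e, .h],
    [.f, .d, .i, .e, .h, .f, .d, .i, .e, .h],
    [.f, .d, .i, .e, .h, .f, .d, .i, .e, .h, .f, .d, .i, .e, .h],
    [.f, .d, .i, .e, .h, .f, .d, .i, .e, .h, .f, .d, .i, .e, .h, .f, .d, .i, .e, .h],
    [.f, .d, .i, .e, .h, .f, .d, .i, .e, .h, .f, .d, .i, .e, .h, .f, .d, .i, .e, .h, .f, .d, .i, .e, .h]],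
   [[.f, .e, .d, .e, .f, .h],
    [.f, .e, .d, .e, .f, .h, .f, .e, .d, .e, .f, .h]],
   [[.l, .a, .e, .h]]]

def lP : List (ℕ × ℕ × ℕ × ℕ) :=
  [(290891, 23, 0, 0xb75c864b9732a861956), (308011, 23, 0, 0xb75c86b97a8649753286),
   (189954, 23, 0, 0xb75c864b975a86b9732864156), (35459, 23, 0, 0xb75c864b975a86b9732c86456),
   (227694, 23, 0, 0xb75c864b97586b7532a64956), (228106, 23, 0, 0xb75c864b97586b7532a641b95c6),
   (228122, 23, 0, 0xb75c864b97586b7532ca641b95c6), (7658, 23, 0, 0xb75c864b97586b753ca64956),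
   (13922, 23, 0, 0xb75c864b975a86b975386456), (40210, 23, 0, 0xb75c864b97586b7532ca641b95c86),
   (45954, 23, 0, 0xb75c864b9753a86497586b72c64156), (4646, 23, 0, 0xb75c864b9753a86497586b764756),
   (288066, 23, 0, 0xb75c864b9753a864b97586b72864156), (16210, 23, 0, 0xb75c864b9753a86497586b7c64b56),
   (71362, 23, 0, 0xb75c864b9753a864b9752864b753c64156), (82242, 23, 0, 0xb75c864b9753a864b9752c8641b75326456),
   (95330, 23, 0, 0xb75c864b9753a864b9752c8641b7532c64156),
   (196050, 23, 0, 0xb75c864b9753a864b975864b752c6b53c64156),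
   (196086, 23, 0, 0xb75c864b9753a864b975864b752c6b53c64756)]

def lN : List (ℕ × ℕ × ℕ × ℕ) :=
  [(2, 2, 301830, 0x5), (308003, 2, 189507, 0x64b732655), (176, 2, 156, 0xc), (305763, 2, 500, 0xb75c864b732656),
   (305770, 5, 9057, 0xb758649732a8956), (300010, 2, 96355, 0xb758649732ca8956), (10706, 2, 156, 0xb75c864b75364b56),
   (499, 2, 290886, 0xb75c864b756b7566), (32986, 2, 33138, 0xb75c864b97532a8641b956),
   (10763, 2, 33224, 0xb75c864b9753a864956), (189567, 2, 71455, 0xb75c864b97532a8641b975c6),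
   (227586, 2, 86543, 0xb75c864b97532a864197586), (189610, 17, 0, 0xb75864975c86b732a64956),
   (2074, 2, 302111, 0xb75864975c86b73a64956), (13050, 5, 306450, 0xb75c86b97864753a64b956),
   (626, 17, 0, 0xb75c864b9753a864b975c86), (33659, 2, 59428, 0xb75864975c86b732ca641b956),
   (34474, 17, 0, 0xb75c864b9753864b752a64956), (36134, 5, 32875, 0xb75c864b975a86b97532864756),
   (37894, 17, 0, 0xb75c864b975a86b97532c8641756), (37906, 2, 190339, 0xb75c864b975a86b97532c8641b56),
   (36114, 2, 69202, 0xb75c864b975a86b975328641b56), (36146, 17, 0, 0xb75c864b975a86b97532864b56),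
   (190216, 2, 267719, 0xb75c864b97532864753a641b9566), (247432, 2, 77698, 0xb75c864b97586b7532ca641b9566),
   (903, 2, 4, 0xb75864975a86b9786756456), (190248, 17, 0, 0xb75c864b97532864753a64b9566),
   (228175, 5, 3553, 0xb75c864b9753286417532a6495326), (289434, 5, 46571, 0xb75c864b9753864b752a641b97566),
   (44658, 17, 0, 0xb75c864b9753864b752a641b975c86), (1880, 2, 56611, 0xb75c864b9753864b75a64b97566),
   (45826, 2, 41791, 0xb75c864b9753a864975864b7526156), (4642, 17, 0, 0xb75c864b9753a86497586b76456),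
   (45858, 2, 290923, 0xb75c864b9753a864975864b752656), (48354, 17, 0, 0xb75c864b9753a864975864b9752a861956),
   (1638, 2, 40026, 0xb75c864b9753a864b975c86b76456), (305878, 2, 266438, 0xb75c864b9753a864b97528641b7328656),
   (61538, 2, 298191, 0xb75c864b9753a864b9752864b7536456), (71394, 2, 56710, 0xb75c864b9753a864b9752864b753c6456),
   (82359, 2, 61957, 0xb75c864b9753a864b9752864b7532c64b56), (61522, 17, 0, 0xb75c864b9753a864b9752864b753641b56),
   (61554, 17, 0, 0xb75c864b9753a864b9752864b75364b56), (71266, 2, 286294, 0xb75c864b9753a864b97528641b753264156),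
   (71047, 2, 191810, 0xb75c864b9753a864b9752864b753264156),
   (86775, 5, 307969, 0xb75c864b9753a864b9752c864b753264b56),
   (86743, 2, 43093, 0xb75c864b9753a864b9752c864b7532641b56),
   (77346, 2, 182272, 0xb75c864b9753a864b9752c864b7532864156),
   (71282, 17, 0, 0xb75c864b9753a864b97528641b7532641b56),
   (96822, 2, 183114, 0xb75c864b9753a86497586b72c64b75364b756),
   (133970, 17, 0, 0xb75c864b9753a86497586b72c64b7532864b56),
   (133986, 5, 189637, 0xb75c864b9753a86497586b72c64b7532864156),
   (265850, 2, 156, 0xb75c864b9753864b752864b753c64b5678b96),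
   (134002, 2, 158635, 0xb75c864b9753a86497586b72c64b75328641b56),
   (106354, 2, 288623, 0xb75c864b9753a86497586b72c64b753864b56),
   (118498, 2, 68662, 0xb75c864b9753a86497586b72c64b753264156),
   (133496, 2, 156, 0xb75c864b9753864b752864b753c64b567c8b96),
   (166250, 2, 156, 0xb75c864b9753864b752864b753c64b56b75c861956),
   (149966, 2, 156, 0xb75c864b9753864b752864b753c64b5672864b956),
   (149787, 2, 156, 0xb75c864b9753864b752864b753c64b56b7286956)]

def lF : List (ℕ × ℕ × ℕ × ℕ) :=
  [(0, 1, 307969, 0x1), (307872, 1, 307840, 0x2), (5, 1, 302177, 0xb7566), (306786, 1, 8469, 0x64b732c655),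
   (199, 1, 2645, 0xb756456), (4, 1, 3538, 0xb), (2339, 1, 228041, 0xb75c6456), (137, 1, 189609, 0xb758697a896),
   (1447, 1, 33556, 0xb75c86b76456), (32770, 1, 246625, 0xb75c864b753264156), (1451, 1, 187271, 0xb758697a84956),
   (32802, 1, 33782, 0xb75c864b75326456), (32786, 1, 246706, 0xb75c864b7532641b56),
   (32774, 1, 246694, 0xb75c864b7532641756), (579, 1, 266163, 0xb75c86b7656), (7403, 1, 127670, 0xb758697ca84956),
   (10690, 1, 32865, 0xb75c864b7536456), (32818, 1, 128959, 0xb75c864b753264b56),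
   (32806, 1, 128939, 0xb75c864b753264756), (189495, 1, 217553, 0xb75c864b7532641b75c6),
   (308261, 1, 289188, 0xb75c864b756b753266), (290923, 1, 33948, 0xb75c864b9732a86956),
   (189459, 1, 58738, 0xb75c864b75364b52c6), (305772, 1, 192788, 0xb75864975a86b973266),
   (4223, 1, 245284, 0xb75c86b97a8649756), (2035, 1, 3235, 0xb75c864b75364b5c6),
   (4219, 1, 180803, 0xb75c86b97a864956), (32970, 1, 227864, 0xb75c864b97532a8641956),
   (2058, 1, 269537, 0xb75c86b97a86956), (1469, 1, 4205, 0xb75864975a86b9766),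
   (33002, 1, 86472, 0xb75c864b97532a864956), (32974, 1, 33065, 0xb75c864b97532a86419756),
   (70, 1, 190625, 0xb75c86b97a8697586), (219, 1, 251841, 0xb75c86b97a86497586),
   (33018, 1, 130751, 0xb75c864b97532a864b956), (33006, 1, 131662, 0xb75c864b97532a8649756),
   (189578, 1, 245254, 0xb75864975c86b732a641956), (305826, 1, 207673, 0xb75c864b975a86b97532c86),
   (33482, 1, 259818, 0xb75c86b978647532a641956), (10779, 1, 294640, 0xb75c864b9753a864b956),
   (189531, 1, 226883, 0xb75c864b9753a864b952c6), (227618, 1, 42829, 0xb75c864b9753a864975286),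
   (33514, 1, 82707, 0xb75c86b978647532a64956), (33610, 1, 298204, 0xb75864975c86b732ca649536),
   (33643, 1, 104651, 0xb75864975c86b732ca641956), (10922, 1, 102166, 0xb75864975c86b73ca64956),
   (13034, 1, 92035, 0xb75c86b97864753a64956), (2075, 1, 270337, 0xb75c864b9753a864b95c6),
   (3558, 1, 302237, 0xb75c864b9753a86497586), (1507, 1, 191013, 0xb75c864b975a86b975c86),
   (33530, 1, 257165, 0xb75c86b978647532a64b956), (427, 1, 777, 0xb75864975ca86b97386456),
   (33647, 1, 170423, 0xb75864975c86b732ca6419756), (2131, 1, 106001, 0xb75c864b975a86b97386456),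
   (227662, 1, 292309, 0xb75c864b97586b7532a641956), (189986, 1, 227446, 0xb75c864b975a86b973286456),
   (227790, 1, 118272, 0xb75c864b97532864753a641956), (35491, 1, 133728, 0xb75c864b975a86b9732c864156),
   (34442, 1, 43308, 0xb75c864b9753864b752a641956), (227678, 1, 10248, 0xb75c864b97586b7532a641b956),
   (227914, 1, 161063, 0xb75c864b97586b7532ca641956), (227710, 1, 46675, 0xb75c864b97586b7532a64b956),
   (36098, 1, 531, 0xb75c864b975a86b97532864156), (11075, 1, 3361, 0xb75c864b975a86b973c86456),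
   (308023, 1, 44838, 0xb75c86b97a86497586b732656), (7566, 1, 61584, 0xb75c864b97586b753a64956),
   (227822, 1, 45188, 0xb75c864b97532864753a64956), (7582, 1, 223077, 0xb75c864b97586b753a64b956),
   (36130, 1, 47944, 0xb75c864b975a86b9753286456), (7626, 1, 37782, 0xb75c864b9753286417532a64956),
   (37890, 1, 190825, 0xb75c864b975a86b97532c864156), (35310, 1, 122245, 0xb75c864b9753864b752ca641956),
   (13938, 1, 7419, 0xb75c864b975a86b9753864b56), (227930, 1, 45222, 0xb75c864b97586b7532ca641b956),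
   (35278, 1, 272219, 0xb75c864b9753864b752ca64956), (36102, 1, 53121, 0xb75c864b975a86b975328641756),
   (36234, 1, 272008, 0xb75c864b97586b7532a641b9566), (306863, 1, 231841, 0xb75c86b97a86497586b732c656),
   (13290, 1, 201729, 0xb75c864b9753864b75a64956), (247, 1, 5919, 0xb75864975ca86b978675c6456),
   (13614, 1, 52646, 0xb75c864b9753864b75ca64956), (14466, 1, 122070, 0xb75c864b975a86b9753c86456),
   (7674, 1, 78834, 0xb75c864b97586b753ca64b956), (14470, 1, 1239, 0xb75c864b975a86b9753c864756),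
   (228174, 1, 192864, 0xb75c864b97532864753a64195326), (300298, 1, 86608, 0xb75c864b97532864753a6495326),
   (287774, 1, 7581, 0xb75c864b97532864753a641b95c6), (40194, 1, 48617, 0xb75c864b97586b7532a641b95c86),
   (14482, 1, 91489, 0xb75c864b975a86b9753c864b56), (2467, 1, 2347, 0xb75864975ca86b9786756456),
   (287806, 1, 227481, 0xb75c864b97532864753a64b95c6), (15826, 1, 203406, 0xb75c864b9753864b75a64b975c86),
   (190482, 1, 229536, 0xb75c864b9753a86497586b7264156), (190514, 1, 59507, 0xb75c864b9753a86497586b726456),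
   (291410, 1, 300026, 0xb75c864b97532864753a64b9532c86), (305866, 1, 241586, 0xb75c864b97532864753a64b9532c6),
   (190486, 1, 41403, 0xb75c864b9753a86497586b72641756), (8242, 1, 71046, 0xb75c864b9753a864b975c86b7c64b56),
   (190793, 1, 37924, 0xb75c864b9753286417532a64b953266), (230530, 1, 193266, 0xb75c864b9753a864b975c86b72c64156),
   (45986, 1, 88625, 0xb75c864b9753a86497586b72c6456), (287839, 1, 227516, 0xb75c864b9753286417532a64b9532c6),
   (230562, 1, 249319, 0xb75c864b9753a864b975c86b72c6456), (230546, 1, 149309, 0xb75c864b9753a864b975c86b72c641b56),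
   (230578, 1, 247907, 0xb75c864b9753a864b975c86b72c64b56), (288082, 1, 103250, 0xb75c864b9753a864b975c86b7264156),
   (49346, 1, 188254, 0xb75c864b9753a864b975864b7526156), (45958, 1, 273239, 0xb75c864b9753a86497586b72c641756),
   (45970, 1, 95841, 0xb75c864b9753a86497586b72c641b56), (45990, 1, 127479, 0xb75c864b9753a86497586b72c64756),
   (16162, 1, 225882, 0xb75c864b9753a864975864b75656), (16194, 1, 40375, 0xb75c864b9753a86497586b7c6456),
   (48482, 1, 37252, 0xb75c864b9753a86497586b972ca8641956), (288098, 1, 268438, 0xb75c864b9753a864b97586b7286456),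
   (230214, 1, 17592, 0xb75c864b9753a864b97586b72c864156), (46002, 1, 10942, 0xb75c864b9753a86497586b72c64b56),
   (48498, 1, 59655, 0xb75c864b9753a86497586b972ca8641b956), (1622, 1, 58740, 0xb75c864b9753a864b97586b786456),
   (288282, 1, 47200, 0xb75c864b9753a864b975c864b7326156), (61506, 1, 232709, 0xb75c864b9753a864b9752864b75364156),
   (82274, 1, 44150, 0xb75c864b9753a864b9752c8641b753264156),
   (71095, 1, 199262, 0xb75c864b9753a864b9752864b753264b56),
   (71234, 1, 304846, 0xb75c864b9753a864b97528641b75326456),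
   (96551, 1, 227106, 0xb75c864b9753a864b9752c864b7532c6456), (288314, 1, 83189, 0xb75c864b9753a864b975c864b732656),
   (71063, 1, 192996, 0xb75c864b9753a864b9752864b7532641b56),
   (82327, 1, 33502, 0xb75c864b9753a864b9752864b7532c641b56),
   (71079, 1, 229926, 0xb75c864b9753a864b9752864b75326456),
   (95298, 1, 66551, 0xb75c864b9753a864b9752c8641b7532c6456),
   (96519, 1, 172583, 0xb75c864b9753a864b9752c864b7532c64156),
   (71250, 1, 167267, 0xb75c864b9753a864b97528641b753264b56),
   (71238, 1, 47926, 0xb75c864b9753a864b97528641b753264756),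
   (82690, 1, 96235, 0xb75c864b9753a864b97528641b7532c6456),
   (86759, 1, 251460, 0xb75c864b9753a864b9752c864b75326456),
   (86723, 1, 42586, 0xb75c864b9753a864b9752c864b7532641756),
   (82722, 1, 167232, 0xb75c864b9753a864b97528641b7532c64156),
   (86727, 1, 33503, 0xb75c864b9753a864b9752c864b753264156),
   (86755, 1, 147055, 0xb75c864b9753a864b9752c864b753264756),
   (96770, 1, 13505, 0xb75c864b9753a86497586b72c64b75364156),
   (96802, 1, 73963, 0xb75c864b9753a86497586b72c64b7536456),
   (104002, 1, 192122, 0xb75c864b9753a86497586b972c864b753a64956),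
   (106306, 1, 33436, 0xb75c864b9753a86497586b72c64b753864156),
   (96786, 1, 173010, 0xb75c864b9753a86497586b72c64b753641b56),
   (118482, 1, 26363, 0xb75c864b9753a86497586b72c64b753264b56),
   (265834, 1, 166953, 0xb75c864b9753864b752864b753c64b567896),
   (106322, 1, 54732, 0xb75c864b9753a86497586b72c64b7538641b56),
   (118514, 1, 233239, 0xb75c864b9753a86497586b72c64b7532641b56),
   (111378, 1, 228499, 0xb75c864b9753a86497586b72c641b753264b56),
   (96818, 1, 33887, 0xb75c864b9753a86497586b72c64b75364b56),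
   (111394, 1, 35952, 0xb75c864b9753a86497586b72c641b753264156),
   (111363, 1, 230720, 0xb75c864b9753a86497586b72c641b753264536),
   (133794, 1, 14320, 0xb75c864b9753a86497586b972c8641b7532a641956),
   (197490, 1, 247433, 0xb75c864b9753a864b975864b752c61b532c64156),
   (133358, 1, 9328, 0xb75c864b9753864b752864b753c64b567281b96),
   (133342, 1, 267670, 0xb75c864b9753864b752864b753c64b5672896),
   (133480, 1, 224495, 0xb75c864b9753864b752864b753c64b567c896),
   (133340, 1, 11235, 0xb75c864b9753864b752864b753c64b56728956),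
   (111410, 1, 82888, 0xb75c864b9753a86497586b72c641b7532641b56),
   (198002, 1, 17072, 0xb75c864b9753a864b975864b752c6b532c64156),
   (196082, 1, 18963, 0xb75c864b9753a864b975864b752c6b53c6456),
   (197970, 1, 76293, 0xb75c864b9753a864b975864b752c6b532c6456),
   (196054, 1, 80759, 0xb75c864b9753a864b975864b752c6b53c641756),
   (197458, 1, 61538, 0xb75c864b9753a864b975864b752c61b532c6456),
   (133484, 1, 297967, 0xb75c864b9753864b752864b753c64b567c8976),
   (150254, 1, 49379, 0xb75c864b9753864b752864b753c64b5678649756),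
   (149823, 1, 289356, 0xb75c864b9753864b752864b753c64b56b728619756),
   (149803, 1, 265897, 0xb75c864b9753864b752864b753c64b56b72861b956),
   (178762, 1, 251776, 0xb75c864b9753864b752864b753c64b56b72c869536),
   (178779, 1, 1924, 0xb75c864b9753864b752864b753c64b56b72c86b956),
   (150250, 1, 1838, 0xb75c864b9753864b752864b753c64b567864956),
   (149819, 1, 190423, 0xb75c864b9753864b752864b753c64b56b72861956),
   (178795, 1, 297857, 0xb75c864b9753864b752864b753c64b56b72c861956),
   (150266, 1, 42144, 0xb75c864b9753864b752864b753c64b567864b956),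
   (149771, 1, 33022, 0xb75c864b9753864b752864b753c64b56b7286b956),
   (149775, 1, 178392, 0xb75c864b9753864b752864b753c64b56b7286b9756),
   (178811, 1, 178573, 0xb75c864b9753864b752864b753c64b56b72c861b956),
   (166939, 1, 128076, 0xb75c864b9753864b752864b753c64b5672c864956), (136, 1, 156, 0xa)]

end Cfsg.Agent.H669.EP.Fi.Tw
end

private theorem dce_4236c7662fec : _root_.True := by
  try have : _root_.True := by simp only [_root_.Cfsg.Agent.H843.Pat.cnt.eq_1]
  try have : _root_.True := by simp only [_root_.Cfsg.Agent.H843.Pat.stp.eq_1]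
  try have : _root_.True := by simp only [_root_.Cfsg.Agent.H843.Pat.cov.eq_1]
  try have : _root_.True := by simp only [_root_.Cfsg.Agent.H843.Pat.cnt.eq_def]
  try have : _root_.True := by simp only [_root_.Cfsg.Agent.H843.Pat.cnt.eq_2]
  exact _root_.True.intro
end

-- part: H669/EP/Fi24
section
prune_inst 0x656036551be20200001c0596d1207eb7df0005b0012b8801d9a60f460687ff236d82af60fea03f0e1b2a2a6d203b8048005400f9405000002e000600411901a088aa54443340a10c24001f809087190c00000000000000000000000000051004004010002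
set_option linter.all false
open scoped Cfsg.Agent.FastGrp

-- part: H828/EP/FiveK
section
/-!
# `Fi24`: the 504 transpositions commuting with `(j g f e d h i) ^ 4`, kernel checks (helper828)

`o 0, …, o 13`: the orbits of a group of elements commuting with `y0 = l k a b` and with `(j g f e d h i) ^ 4`.
-/

set_option autoImplicit false
set_option maxRecDepth 100000
set_option Elab.async false

namespace Cfsg.Agent.H828.EP.FiveK

open Cfsg Cfsg.Agent.Lib.PermNet Cfsg.Agent.Lib.PermNetPt Cfsg.Agent.Fischer.Fi24RepDef Cfsg.Agent.Fischer.Fi24Rep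
open Cfsg.Agent.Fischer.Fi24RepOrb (UG orbG)
open Cfsg.Agent.KFacts.FiTF.Pts Cfsg.Agent.KFacts.FiTF.FixMask
open Cfsg.Spor (Fi24)
open Cfsg.Spor.Fi24 (Gen)

/-- the moves -/
def mv (i : ℕ) : List Gen := (([[.j, .g, .f, .e, .f, .g, .j], [.j, .d], [.g, .h], [.f, .i], [.l, .k, .a, .b]] : List (List Gen)).getD i [])

/-- Add the images of the mask under the moves, one after the other. -/
noncomputable def grow (l : List ℕ) : ℕ → ℕ :=
  List.rec (motive := fun _ => ℕ → ℕ) (fun M => M)
    (fun i _ ih M => seq (Nat.lor M (appWord (nw (mv i) false) M)) ih) l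

theorem grow_cons (i : ℕ) (l : List ℕ) (M : ℕ) : grow (i :: l) M = grow l (M ||| appWord (nw (mv i) false) M) := by
  show seq _ (grow l) = _
  rw [seq_eq]
  rfl

/-- the orbits -/
def o (k : ℕ) : List ℕ := (([
  [0, 1, 193, 307872, 307968],
  [56, 246, 352, 1278, 7850, 7858, 15106, 15130, 44810, 44811, 44818, 44819, 44842, 44850, 229704, 229705, 229712,
   229713, 229736, 229744, 267299, 267323, 286154, 286155, 286186, 286428, 286429, 286460, 300331, 300339, 304524,
   304525, 304542, 304543, 304556, 304574, 305207, 308023, 308154, 308524],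
  [57, 80, 81, 86, 87, 247, 353, 435, 442, 468, 469, 1279, 3757, 3765, 3779, 3803, 7851, 7859, 11498, 11506, 11530,
   11538, 15107, 15131, 44843, 44851, 229737, 229745, 267267, 267291, 286187, 286461, 300299, 300307, 304557, 304575,
   305175, 307991, 308122, 308492],
  [92, 93, 263, 11494, 11518, 11526, 11550, 15119, 15127, 44839, 44863, 267279, 267287, 304625, 308035],
  [96, 390, 3530, 3538],
  [106, 406, 1061, 1085, 1174, 1175, 1202, 1203, 7438, 7439, 7446, 7447, 299982, 299990, 300014, 300022, 305107,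
   305113, 305139, 305145],
  [192, 307840, 307841, 307873, 308000],
  [262, 15118, 15126, 44806, 44807, 44830, 44831, 44838, 44862, 267311, 267319, 304592, 304593, 304624, 308067],
  [3877, 3901, 10981, 11005, 11044, 11068, 11552, 11576, 13189, 13213, 13797, 13821, 14149, 14173, 16897, 16921,
   34116, 34140, 35086, 35094, 35780, 35804, 36964, 36988, 41317, 41341, 41573, 41597, 49856, 49880, 63048, 63056,
   266629, 266653, 267076, 267100, 268100, 268124, 270272, 270296],
  [10382, 10383, 10390, 10391, 25518, 25519, 25526, 25527, 27501, 27509, 27758, 27759, 27766, 27767, 28454, 28455,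
   28478, 28479, 28685, 28693, 29895, 29919, 30095, 30103, 30119, 30143, 30341, 30365, 30541, 30549, 30821, 30845,
   136655, 136663, 153935, 153943, 171823, 171831, 176871, 176895, 179655, 179679, 181287, 181311, 262127, 262135,
   263559, 263583, 279341, 279349, 279878, 279902, 279910, 279934, 280684, 280692, 282319, 282327, 282351, 282359,
   282375, 282399, 282766, 282774, 283078, 283102, 283110, 283134, 283140, 283164, 283406, 283414, 283596, 283604,
   284005, 284029, 303500, 303508, 303532, 303540],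
  [12130, 12154, 12162, 12165, 12169, 12174, 12177, 12182, 12186, 12189, 12199, 12204, 12212, 12223, 12239, 12247,
   31014, 31015, 31018, 31019, 31026, 31027, 31038, 31039, 31054, 31055, 31062, 31063, 31078, 31079, 31082, 31083,
   31090, 31091, 31102, 31103, 31170, 31171, 31194, 31195, 31310, 31311, 31318, 31319, 31594, 31595, 31602, 31603,
   284231, 284235, 284243, 284255, 284263, 284267, 284275, 284287, 284302, 284310, 284334, 284342, 284358, 284362,
   284370, 284382, 284390, 284394, 284402, 284414, 284495, 284503, 284527, 284535, 284622, 284630, 284654, 284662,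
   284875, 284883, 284907, 284915],
  [13188, 13212, 13796, 13820, 14148, 14172, 16896, 16920, 34117, 34141, 34500, 34524, 34533, 34557, 35118, 35126,
   35781, 35805, 36965, 36989, 41285, 41309, 41541, 41565, 49857, 49881, 63080, 63088, 266661, 266685, 267108,
   267132, 268132, 268156, 270304, 270328, 285825, 285849, 304326, 304350],
  [27500, 27508, 28684, 28692, 29894, 29918, 30094, 30102, 30118, 30142, 30340, 30364, 30540, 30548, 30820, 30844,
   136654, 136662, 136686, 136687, 136694, 136695, 153934, 153942, 153966, 153967, 153974, 153975, 171790, 171791,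
   171798, 171799, 171822, 171830, 176838, 176839, 176862, 176863, 176870, 176894, 179654, 179678, 179686, 179687,
   179710, 179711, 181254, 181255, 181278, 181279, 181286, 181310, 262094, 262095, 262102, 262103, 262126, 262134,
   263558, 263582, 263590, 263591, 263614, 263615, 279309, 279317, 280652, 280660, 282407, 282431, 282798, 282806,
   283172, 283196, 283438, 283446, 283628, 283636, 283973, 283997],
  [34148, 34149, 34172, 34173, 34501, 34525, 34532, 34556, 35087, 35095, 35119, 35127, 35812, 35813, 35836, 35837,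
   36932, 36933, 36956, 36957, 41284, 41308, 41316, 41340, 41540, 41564, 41572, 41596, 49888, 49889, 49912, 49913,
   63049, 63057, 63081, 63089, 285857, 285881, 304358, 304382]] : List (List ℕ)).getD k [])

/-- the representatives -/
def r (k : ℕ) : ℕ := ([0, 246, 247, 263, 96, 406, 192, 262, 3877, 25526, 31170, 13188, 27500, 304358] : List ℕ).getD k 0

/-- the chains -/
def ch (k : ℕ) : List ℕ := (([[4, 4, 4, 4],
  [0, 3, 4, 2, 4, 4, 4, 1, 0],
  [0, 3, 4, 2, 4, 4, 4, 1, 0],
  [1, 4, 2, 4, 4, 4],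
  [1, 2, 3],
  [1, 4, 2, 4, 3, 4, 4],
  [4, 4, 4, 4],
  [1, 4, 2, 4, 4, 4],
  [1, 2, 4, 1, 4, 3, 4, 4],
  [0, 1, 3, 4, 0, 4, 1, 4, 4],
  [0, 1, 2, 4, 0, 4, 4, 4, 1, 0],
  [1, 2, 4, 1, 4, 3, 4, 4],
  [0, 1, 3, 4, 0, 4, 1, 4, 4],
  [1, 2, 4, 1, 4, 3, 4, 4]] : List (List ℕ)).getD k [])

theorem g0 : Nat.beq (grow (ch 0) (msk [r 0])) (msk (o 0)) = true := by decide +kernel
theorem g1 : Nat.beq (grow (ch 1) (msk [r 1])) (msk (o 1)) = true := by decide +kernel
theorem g2 : Nat.beq (grow (ch 2) (msk [r 2])) (msk (o 2)) = true := by decide +kernel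
theorem g3 : Nat.beq (grow (ch 3) (msk [r 3])) (msk (o 3)) = true := by decide +kernel
theorem g4 : Nat.beq (grow (ch 4) (msk [r 4])) (msk (o 4)) = true := by decide +kernel
theorem g5 : Nat.beq (grow (ch 5) (msk [r 5])) (msk (o 5)) = true := by decide +kernel
theorem g6 : Nat.beq (grow (ch 6) (msk [r 6])) (msk (o 6)) = true := by decide +kernel
theorem g7 : Nat.beq (grow (ch 7) (msk [r 7])) (msk (o 7)) = true := by decide +kernel
theorem g8 : Nat.beq (grow (ch 8) (msk [r 8])) (msk (o 8)) = true := by decide +kernel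
theorem g9 : Nat.beq (grow (ch 9) (msk [r 9])) (msk (o 9)) = true := by decide +kernel
theorem g10 : Nat.beq (grow (ch 10) (msk [r 10])) (msk (o 10)) = true := by decide +kernel
theorem g11 : Nat.beq (grow (ch 11) (msk [r 11])) (msk (o 11)) = true := by decide +kernel
theorem g12 : Nat.beq (grow (ch 12) (msk [r 12])) (msk (o 12)) = true := by decide +kernel
theorem g13 : Nat.beq (grow (ch 13) (msk [r 13])) (msk (o 13)) = true := by decide +kernel

/-- all the points -/
def oF : List ℕ := o 0 ++ (o 3 ++ (o 5 ++ (o 6 ++ (o 7 ++ (o 4 ++ (o 1 ++ (o 2 ++ (o 8 ++ (o 9 ++ (o 10 ++ (o 11 ++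
  (o 12 ++ o 13))))))))))))

/-- the 8-cycle -/
def cw : List Gen := [.j, .g, .f, .e, .d, .h, .i]

theorem sv_app (w : List Net) (bs cs : List ℕ) (A : ℕ) : sv w (bs ++ cs) A = sv w cs (sv w bs A) := by
  induction bs generalizing A with
  | nil => rfl
  | cons b bs ih => rw [List.cons_append, sv_cons, sv_cons, ih]

/-- the mask after the planes `0, …, 9` -/
noncomputable def half : ℕ := asm [0x200000200000000000000000080000080020200000000000000000000000000000000000000000000000000000040400000000000000000000000000000000000000000000000000000000000000000000000000000000000000000000000000000400000000000000000000000000000000000000000000000000000000000000000000000000000000000000000000000000000000000000000000000000000000c0000000000000000000000000000000000000000000000000000000000000000000000000000000000000000000000000000000000000000000000000000004000000000000000000000000000000000000000000000000000000000000000000000000000000000000000000000000000000000000000000000000000000000000000000000000000000000000000000000000000000000000000000000000000000000000c000000000000000000c000000c00000000000000000000020000020000000000000000000000000000000000000000000000000000000000000000000000000000000000000000000000000000000000000000000000000000000000000000000000000003000000408000000400040000000030000000000000000000000c000c000000000000300000000000000000000040130c300000300000000000003,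
  0xc0c0000000000000000000000000000000000000000000000000000000000000000000000000000000000000000000000000000c0c00000000000000000000000000000000000000000000000000000000000000000000000000000000000000000000000000000000000000000000000000000000000000000000000000000000000000000000000000000000000000000000000000000000000000000000000000000000000c0000000000000000000000000000000000000000000000000000000000000000000000000000000000000000000000000000000000000000000000000000000000000000000000000000000000000000000000000000000000000000000000000000000000000000000c00000000000000000000000000000000000000000000000000000000000000000000000000000000000000000000000000000000000000000000000000000000000000000000000000000000000000000000000000000000000000000000000000000000000000000000000000000000000000000000000000000000000000000000000000000000000000000000000000000000000c00000000000000000000000000000000000000000000000000000000000000000000000000000000000000000000000,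
  0x80800080101080244242240400000400000000000000000000000000000000000000000000000000000000000000000000000000000000000000000000000000000000000000000000000000000000000000000100000140040440400404400000000000000000000000000000000000000000000000000000000000000000000000000000000000000000000000000000000010000010000000002000002000000000000000000000000000000000000000000000000000000000000000000000000000000000000000000000000000000000000000000000000000000000000000000000000000c0c0000000000000000000000000000000000000000000000000000000000000000000000000000000000000000000000000000000000000000000000000000000000000000000000000000000000000000000000000000000000000000000000000000000000000000000000000000000000000000000000000000000000000000000000000000000000000000000000000000000000000000000000000000000000000000000000000000000000000000000000000000000000000000000000000000000000000000000000000000000000000000000000000000000000000000000000000000000000000000000000000000000000000000000000000000000000000000000000000000000000000000000,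
  0xc00000c0000000000000000000000000000000000000000000000000000000000000000000000000000000000000000000000000000000000000000000000000000000000000000000000000000000000000000000000000000000000000000000000000000000000000000000000000000000000000000000000000000000000000000000000000cc0c00c00000000000000000000000000000000000000000000000000000000000000000000000000000000000000000000000000000000000000000000000000000000000000000000000000000000000000000000000000000000000000000000000000000000000000000000000000000000000000003000003000000000000000000000000000000000000000000000000000000000000000000000000000000000300000300000000000000000000000000000000000000000000000000000000000000000000000000000000000000000000000000000000000000000000000000000000000000000000000003000003000000000000000000000000000000000000000000000000000000000000000000000000000000000000000000000000000000000000000000000000000000000000000000000000000000000000000000000000000000000000000000000000000000000000000000000000000000000,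
  0x300000300000000000000000000000000000000000000000000000000000000000000000000000000000000000000000000000000000000000000000000000000000000,
  0x0,
  0xc00000c000000000000000000000000000000000000000000000000000000000000000000000000000000000000000000000000000000000000000000000000000000000000000000000000000000000000000000000000000c0c00000000000000000000000000000000000000000000000000000000000003030000000000000000000000000000000000000000000000000000000000000000000000000000000000000000000000000000000000000000000000000000000000000000000000000000000000000000000000000000000000000000000000000000000000000000000000000000000000000000000000000000000000000000000000000000000000000000000000000000000000000000000000000000000000000000000000000000000000000000000000000000000000000000000000000000000000000000000000000000000000000000000000000000000000000000000000000000000000000000000000000000000000000c0c00000000000000000000c00000c0000000000000000000000000000000000000000000000000000000000000000000000000000000000000000000000000000000000000000000000000000000000000000000000000000000000000000000000000000000000000000000000000000000000000000,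
  0xc0c00000000000000000000000000000000000000000000000000000000000000000000c0c0000000000000000000000000000c00000c0000000000000000c00c0cc000c0c000c00c0cc0000000000000000000000000000000000000000030000030000000000000000000000000000000000000000000000000000000000000000000303000000000000000000000000000000000000000000030000030000000000000000000000000000000000000000000000000c00000c000c0c0000000000000000000000000000000000000000000c00000c00000000000000000000000000000000000000000000000000000000000000000000000000000000000000000000000000000000000000000000000000000000000000000000000000000000000000000000000000000000000000000000000000000000000000000000000000000000000000000000000000000000000000000000000000000000000000000000000000000000000303000,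
  0x3000003030000030000000000000000000000000000000000000000000000000000000000000000000000000000000000000000000000000000000000000000000000000000000000000000000000000000000000000000000c0c00000c0c000000000000000000000000000000000000000000000000000000000000000000000000000000000000000000000000000000000000000000000000000000000003000003030000030000000000000000000000000000000000000000000000000300000303000003000000000000000003000003030000030000000000000000000000000000000000000000000000000000000000000000000000000000000000000000000000000000000000000000000000000000000000000000000000000000000000000000000000000000000000000000000000000000000000000000030000030300000300000000000000000000000000000000000000000000000000000000000000000300000303000003000000000000000000000000000000000,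
  0x30000030300000300000000000000000,
  0xc00c0cc0c00c0cc0000000000000000000000000000000000000000000000000000000000000000000000000000000000000000000000000000000000000000000000000000000000000000000000000000000000000000000000000000000000000000000000000000000000000000000000000000000000000000000000000000000000000000000000000000000000000000000000000000000000000000000000000000000000000000000000000000000000000000000000000000000000000000000000000000000000000000000000000000000000000000000000000000000000000000000000000000000000000000000000000000000000000000000030300000303000000000000000000000000000000000000000000000000000000000000000000000000000000000000000000000000000000000000000000000000000000000000000000000000000000000000000000000000000000000000000000000000000000000000000000000000000000000000000000000000000000000000000000000000000000000000000000000000003000003030000030000000000000000000000000000000000000000000000000300000303000003000000000000000000000000000000000000000000000000000000000000000000000000000000000,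
  0xc00000c0c00000c000000000000000000000000000000000000000000000000000000000000000000000000000000000000000000000000000000000000000000000000000000000000000000000000000000000000000000000000000000000000000000000000000000000000000000000000000000000000000000000000000000000000000000000000000000000000000000000000000000000000000000000000000000000000000000000000000000000000000000000000000000000000000000000000000000000000000000000000000000000000000000000000000000000000000000000000000000000000000000000000000000000000000000000000000000000000000000000000000000000000000000000000000000000000000000000000000000000000000000000000000000000000000000000000000000000000000000000000000000000000000000000000000000000000000000000000000000000000000000000000000000000000000000000000000000000000000000000000000000000000000000000000000000000000000000000000000000000000000000000000000000000000000000000000000000000000000000000000000000000,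
  0xc00000c0c00000c000000000000000000000000000000000000000000000000000000000000000000000000000000000030000030300000300000000000000000000000000000000000000000000000000000000000000000000000000000000000000000000000000000000000000000000000000000000000000000000000000000000000000000000000000000000,
  0x0,
  0xc00000c0c00000c000000000000000000000000000000000000000000000000000000000000000000000000000000000000000000000000000c0c00000c0c0000000000000000000000000000000000000000000000000000000000000000000000000000000000000000000000000000000000000000000000000000000000000000000000000000000000000000000,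
  0x30300000303000000000000000000000000000000000000000000000000000000000000000000000000000000000000000000000000000000000000000000000000000000000000000000000000000000000000000000000000000000000000000000000000000000000000000000000000000000000000000000000000003000003030000030c00000c0c00000c000000000000000000000000000000000000000000000000000000000000000000000000000000000000000000000000000000000000000000000000000000000,
  0x3000003030000030000000000000000000000000000000000000000000000000000000000000000000000000000000000000000000000000000000000000000000000000000000000000000000000000000000000000000000000000000000000000000000000000000000000000000000000000000000000000000000000000000000000000000000000000000000000000000000000000000000000000000000000000000000000000000000000000000000000000000000000000000000000000000000000000000000000000000000000000000000000000000000000000000000000000000000000000000000000000000000000000000000000000000000000000000000000000000000000000000000000000000000000000000000000000000000000000000000000000000000000000000000000000000000000000000000000000000000000000000000000000000000000000,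
  0xc0c00000c0c00000000000000000000000000000000000000000000000000000000000000000000000000000000000000000000000000000000000000000000000000000000000000000000000000000000000000000000000000000000000000000000000000000000000000000003000003030000030000000000000000000000000000000000000000000000000000000000000000000000000000000000000000000000000000000000000000000000000000000000000000000000000000000000000000000000000000000000000000000000000000000000000000000000000000000000000000000000000000000000000000000000000000000000000000000000000000000000000000000000000000000000000000000000000000000000000000000000000000000000000000000000000000000000000000000000000000000000000000000000000000000000000000000000000000000000000000000000000,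
  0x0,
  0xc0c00000c0c000000000000000000000000000000000000000000000000000000000000000000000000000000000000000000000000000000000000000000000000000000000000000000000000000000000000000000000000000000000000000000000000000000000000000000000000000000000000000000000000000000000000000000000000000000000000000000000000000000000000000000000000000000000000000000000000000000000000000000000000000000000000000000000000000000000000000000000000000000000000000000000000000000000000000000000000000000000000000000000000000000000000000000000000000000000000000000000000000000000000000000000000000000000000000000000000000000000000000000000000000000000000000000000000000000000000000000000000000000000000000000000000000000000000000000000000000000000000000000000000000000000000000000000000000000000000000000000000000000000000000000000000000000000000000000000000000000000000000000000000000000000000000000000000000000000000000000000000000000000000000000000000000000000000000000000000000000000000000000000000000,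
  0xc00000c0c00000c000000000000000000000000000000000000000000000000000000000000000000000000000000000000000000000000000000000000000000000000000000000000000000000000000000000000000000000000000000000000000000000000000000000000000000000000000000000000000000000000000000000000000000000000000000000000000000000000000000000000000000000000000000000000000000000000000000000000000000000000000000000000000000000000000000000000000000000000000000000000000000000000000000000000000000000000000000000000000000000000000000000000000000000000000000000000000000000000000000000000000000000000000000000000000000000000030000030300000300000000000000000000000000000000000000000000000000000000000000000000000000000000000000000000000000000000000000000000000000000000000000000000000000000000000000000000000000000000000000000000000000000000000000000000000000000000000000000000000000000000000000000000000000000000000000000000000000000000000000000000000000000000000000000000000000000000000000000000000000000000000000000000000000000000000000000,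
  0x0,
  0x0,
  0xc0c00000c0c0000000000000000000000000000000000000000000000000000000000000000000000000000000000000000000000000000000000000000000000000000000000000000000000000000000000000000000,
  0x0,
  0x3000003030000030000000000000000000000000000000000000000000000000000000000000000000000000000000000000000000000000000000000000000000000000000000000000000000000000000000000000000000000000000000000000000000000000000000000000000000000000000000000000000000000000000000000000000000000000000000000000000000000000000000000000000000000000000000000000000000000000000000000000000000000000000000000000000000000000000000000000000000000000000000000000000000000000000000000000000000000000000000000000000000000000000000000000000000000000000000000000000000000000000000000000000000000000000000000000000000000000000000000000000000000000000000000000000000000000000000000000000000000000000000000000000000000000000000000000000000000000000000000000000000000000000000000000000000000000000000000000000000000000000000000000000000000000000000000000000000000000000000000000000000000000000000000000000000000000000000000000000000000000000000000000000000000000,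
  0x300000303000003000000000000000000000000000000000000000000000000000000000000000000000000000000000000000000000000000000000000000000000000000000000000000000000000000000000000000000000000000000000000000000000000000000000000000000000000000000000000000000000000000000000000000000000000000000000000000000000000000000000000000000000000000000000000000000000000000000000000000000000000000000000000000000000000000000000000000000000000000000000000000000000000,
  0xc00000c0c00000c00000000000000000000000000000000000000000000000000000000000000000000000000000000000000000000000000000000000000000000000000000000000000000000000000000000000000000000000000000000000000000000000000000000000000000000000000000000000000000000000000000000000000000000000000000000,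
  0x0,
  0x3000003030000030000000000000000000000000000000000000000000000000000000000000000000000000000000000000000000000000000000000000000000000000000000000000000000000000000000000000000000000000000000000000000000000000000000000000000000000000000000000000000000000000000000000000000000000000000000000000000000000000000000000000000000000000000000000000000000000000000000000000000,
  0x3030000030300000000000000000000000000000000000000000000000000000000000000000000000000000000000000000000000000000000000000000000000000000000000000000000000000000000000000000000000000000000000000000000000000000000000000000000000000000000000000000000000000000000000000000000000000000000000000000000000000000000000000000000000000000000000000000000000000000000000000000000000000000000000000000000000000000000000000000000000000000000000000000000000000000000000000000000000000000000000000000000000000000000000000000000000000000000000000000000000000000000000000000000000000000000000000000000000000000000000000000000000000000000000000000000000000000000000000000000000000000000000000000000000000030000030300000300000000000000000000000000000000000000000000000000000000000000000000000000000000000000000000000000000000000000000000000000000000000000000000000000000000000000000000000000000000,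
  0x3000003030000030000000000000000000000000000000000000000000000000000000000000000000000000000000000000000000000000000000000000000000000000000000000000000000000000000000000000000000000000000000000000000000000000000000000000000000000000000000000000000000000000000000000000000000000000000000000000000000000000000000000000000000000000000000000000000000000000000000000000000000000000000000000000000000000000000000000000000000000000000000000000000000000000000000000000000000000000000000000000000000000000000000000000000000000000000000000000000000000000000000000000000000000000000000000000000000000000000000000000000000000000000000000000000000000000000000000000000000000000000000000000000000000000000000000000000000000000000000000000000000000000000000000000000,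
  0x300000303000003000000000000000000000000000000000000000000000000000000000000000000000000000000000000000000000000000000000000000000000000000000000000000000000000000000000000000000000000000000000000000000000000000000000000000000000000000000000000000000000000000000000000000000000000000000000000000000000000000000000000000000000000000000000000000000000000000000000000000000000000000000000000000000000000000000000000000000000000000000000000000000000000000000000000000000000000000000000000000000000000c00000c0c00000c000000000000000000000000000000000000000000000000000000000000000000000000000000000000000000000000000000000000000000000000000000000000000000000000000000000000000000000000000000000000000000000000000000000000000000000000000000000,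
  0xc0c00000c0c00000000000000000000000000000000000000000000000000000000000000000000000000000000000000000000000000000000000000000000000000000000000000000000000000000000000000000000000000000000000000000000000000000000000000000000000000000000000000000000000000000000000000000000300000303000003000000000000000000000000000000000000000000000000000000000000000000000000000000000000000000000000,
  0xc0c00000c0c0000000000000000000000000000000000000000000000000000000000000000000000000000000000000000000000000000000000000000000000000000000000,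
  0x0,
  0x3000003030000030000000000000000000000000000000000000000000000000000000000000000000000000000000000000000000000000000000000000000000000000000000000000000000000000000000000000000000000000000000000000000000000000000000000000000000000000000000000000000000000000000000000000000000000000000000000000000000000000000000000000000000000000000000000000000000000000000000000000000000000000000000000000000000000000000000000000000000000000000000000000000000000000000000000000000000000000000000000000000000000000000000000000000000000000000000000000000000000000000000000000000000000000000000000000000000000000000000000000000000000000000000000000000000000000000000000000000000000000000000000000000000000000000000000000000000000000000000000000000000000000000000000000000000000000000000000000000000000000000000000000000000000000000000000000000000000000000000000000000000000000000000000000000000000000003030000030300000000000000000000000000000000000000000000000000000000000000000000000000000000000000000000000000,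
  0xc0c00000c0c0000000000000000000000000000000000000000000000000000000000000000000000000000000000000000000000000000000000000000000000000000000000000000000000000000000000000000000000000000000000000000000000000000000000000000000000000000000000000000000000000000000000000000000000000000000000000000000000000000000000000000000000000000000000000000000000000000000000000000000000000000000000000000000000000000000000000000000000000000000000000000000000000000000000000000000000000000000000000000000000000000000000000000000000000000000000000000000000000000000000000000000000000000000000000000000000000000000000000000000,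
  0xc0c00000c0c0000000000000000000000000000000000000000000000000000000000000000000000000000000000000000000000000000000000000000000000000000000000000000000000000000000000000000000000000000000000000000000000000000000000000000000000000000000000000000000000000000000000000000000000000000000000000000000000000000000000000000000000000000000000000000000000000000000000000000000,
  0x404000004040000000000000000000000000000000000000000000000000000000000000000000000000000000000000000000000000000000000000000000000000000000000000000000000000000000000000000000000000000000000000000000000000000000000000000000,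
  0x0,
  0xc0c00000c0c000000000000000000000000000000000000000000000000000000000000000000000000000000000000000000000000000000000000000000000000000000000000000000000000000000000000000000000000000000000000000000000000000000000000000000000000000000000000000000000000000000000000000000000000000000000000000000000000000000000000000000000000000000000000000000000000000000000000000000000000000000000000000000000000000000000000000000000000000000000000000000000000000000000000000000000000000000000000000000000000000000000000000000000000000000000000000000000000000000000000000000000000000000000000000000000000000000000000000000000000000000000000000000000000000000000000000000000000000000000000000000000000000000000000000000000000000000000000000000000000000000000000000000000000000000000000000000000000000000000000000000000000000000000000000000000000000000000000000000000000000000000000000000000000000000000000000000000000000000000000000000000000000000000000000000000000000000000000000000000000000,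
  0xc00000c0c00000c000000000000000000000000000000000c00000c0c00000c0000000000000000000000000000000000000000000000000000000000000000000000000000000000000000000000000000000000000000000000000000000000000000000000000000000000000000000000000000000000000000000000000000000000000000000000000000000000000000000000000000000000000000000000000000000000000000000000000000000000000000000000000000000000000000000000000000000000000000000000000000000000000000000000000000000000000000000000000000000000000000000000000000000000000000000000000000000000000000000000000000000000000000000000000000000000000000000000000000000000000000000000000000000000000000000000000000000000000000000000000000000000000000000000000000000000000000000000000000000000000000000000000000000000000000000000000000000000000000000000000000000000000000,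
  0xc00000c0c00000c00000000000000000000000000000000000000000000000000000000000000000000000000000000000000000000000000000000000000000000000000000000000000000000000000000000000000000000000000000000000000000000000000000000000000000000000000000000000000000000000000000000000000000000000000000000000000000000000000000000000000000000000000000000000000000000000000000000000000000000000000000000000000000000000000000000000000000000000000000000000000000000000000000000000000000000000000000000000000000000000000000000000000000000000000000000000000000000000000000000000000000000000000000000000000000000000000000000000000000000000000000000000000000000000000000000000000000000000000000000000000000000000000000000000000000c00000c0c00000c000000000000000000000000000000000000000000000000000000000000000000000000000000000000000000000000000000000000000000000000000000000000000000000000000000000000000000000000000000000,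
  0xc00000c0c00000c00000000000000000000000000000000000000000000000000000000000000000000000000000000000000000000000000000000000000000000000000000000000000000000000000000000000000000000000000000000000000000000000000000000000000000000000000000000000000000000000000000000000000000,
  0xc00000c0c00000c0000000000000000000000000000000000000000000000000000000000000000000000000000000000000000000000000000000000000000000000000000000000000000000000000000000000000000000000000000000000000000000000000000000000000000000000000000000000000000000000000000000000000000000000000000000000000000000000000000c0c00000c0c0000000000000000000000000000000000000000000000000000000000000000000000000000000000000000000000000000000000000000000000000000000000000000000000000000000000000000000000000000000000000000000000000000000000000000000000000000000000000000000000000000000000000000000000000000000000000000000000000000000000000000000000000000000000000000000000000000000000000000000000000000000000000000000000000000000000000000000000000000000000000000000000000000000000000000000000000000000000000000000000000000000000000000000000000000000000000000000000000000000000000000000000000000000000,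
  0x10000000100000000000000000000000000000000000000000000000000000000000000000000000000000000000000000000000000000000000000000000000000000000000000000000000000000000000000000000000000000000000000000000000000000000000000000000000000000000000000000000000000000000000000000,
  0xc0000000c00000000000000000000000000000000000000000000000000000000000000000000000000000000000000000000000000000000000000000000000000000000000000000000000000000000000000000000000000000000000000,
  0xc0000000c000000000000000000000000000000000000000000000000000000000c0000000c0000000000000000000000000000000000000000000000000000000000000000000000000000000000030000000300000000000000000000000000000000000000000000000000000000000000000000000000000000000000000000000000000000000000000000000000000000000000000000000000000000000000000000000000000000000000000000000000000000000000000000000000000000000000000000000000000000000000000000000000000000000000000000000000000000000000000000000000000000000000000000000000000000000000000000000000000000000000000000000000000000000000000000000000000000000000000000000000000000000000000000000000000000000000000000000000000000000000000000000000000000000000000000000000000000000000000000000000000000000000,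
  0x3000000030000000000000000000000000000000000000000000000000000000000000000000000000000000000000000000000000000000000000000000000000000000000000000000000000000000000000000000000000000000000000000000000000000000000000000000000000000000000000000000000000000000000000000000000000000000000,
  0x40000000400000000000000000000c0000000c00000000000000000000000000000000000000000000000000000000000000000000000000000000000000000000000000000000000000000000000000000000000000000000000000000000000000000000000000000000000000000000000000000000000000000000000000000000000000000000000000000000000000000000000000000000000000000000000000000000000000000000000000003000000030000000000000000000000000000000000000000000000000000000000000000000000000000000000000000000000000000000000000000000000000000000000000000000000000000000000000000000000000000000000000000000000000000000000000000000000000000000000000000000000000000000000000000000000000000000000000000000000000000000000000000000000000000000000000000000000000000000000000000000000000000000000000000000000000000000000000000000000000000000000000000000000000000000000000000000000000000000000000000000000000000000000000000000000000000000000000000000000000000000000000000000000000000000000008000000080000000000000000000000000000000000000000000000000000,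
  0x0,
  0xc0000000c00000000000000000000000000000000000000000000000000000000000000000000000000000000000000000000000000000000000000000000000000000000000000000000000000000000000000000000000000000000000000000000000000000000000000000000000000000000000000000000000000000000000000000000000000000000000000000000000000000000000000000000000000000000000000000000000000000000000000000000000000000000000000000000000000000000000000000000000000000000000000000000000000000000000000000000000000000000000000000000000000000000000000000000000000000000000000000000000000000000000000000000000000000000000000000000000000000000000000000000000000000000000000000000000000000000000000000000000000000000000000000000000000000000000000000000000000000000000000000000000000000000000000000000000000000000000000000000000000000000000000000000000000000000000000000000000000000000000000000000000000000000000000000000000000000000000000000000000000000000000000000000000000,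
  0x300000003000000000000000000000000000300000003000000000000000000000000000000000000000000000000000000000000000000000000000000000000000000000000000000000000000000000000000000000000000000000000000000000000000000000000000000000000000000000000000000000000000000000000000000000000000000000000000000000000000000000000000000000000000000000000000c0000000c00000000000000000000000000000000000000000000000000000000000000000000000000000000000000000000000000000000000000000000000000000000000000000000000000000000000000000000000000000000000000000000000000000000000000000000000000000000000000,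
  0x0,
  0x303000003030000000000000000000000000000000000000000000000000000000000000000000000000000000000000000000000000000000000000000000000000000000000000000000000000030000030300000300000000000000000000000000000000000000000000000000000000000000000000000000000000000000000000000000000000000000000000000000000000000000000000000000000000000000000000000000000000000000000000000000000000000000000000000000000000000000000000000000000000000000000000000000000000000000000000000000000000000000000000000000000000000000000000000000000000000000000000000000000000000000000000000000000000000000000000000000000000000000000000000000000000000000000000000000000000000000000000000000000000000000000000000000000000000000000000000000000000000000000,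
  0xc00000c0c00000c00000000000000000000000000000000000000000000000000000000000000000000000000000000000000000000000000000000000000000000000000000000000000000000000000000000000000000000000000000000000000000000000000000000000000000000000000000000000000000000000000000000000000000000000000000000000000000000000000000000000000000000000000000000000000000000000000000000000000000000000000000000000000000000000000000000000000000000000000000000000000000000000000000000000000000000000000000000000000000000000000000000000000000000000000000000000000000000000000000000000000000000000000000000000000000000000000000000000000000000000000000000000000000000000000000000000000000000000000000000000000000000000000000000000000000000000000000000000000000000000000000000000000000000000000000000000000000000000000000000000000000000000000000000000303000003030000000000000000000000000000000000000000000000000000000000000000000000000000000000,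
  0x0,
  0x0,
  0x0,
  0x3000003030000030000000000000000000000000000000000000000000000000000000000000000000000000000000000000000000000000000000000000000000000000000000000000000000000000000000000000000030000030300000300000000000000000000000000000000000000000000000000000000000000000000000000000000000000000000000000000000000000000000000000000000000000000000000000000000000000000000000000000000000000000000000000000000000000000000000000000000000000000000000000000000000000000000000000000000000000000000000000000000000000000000000000000000000000000000000000000000000000000000000000000000000000000000000000000000000000000000000000000000000000000000000000000000000000000000000000000000000000000000000000000000000000000000000000000000000000000000000000000000000000000000000000000000000000000000000000000000000000000000000000000000000000000000000000000000000000000000000000000000000000000000000000000000000000000000000000000000000000000000000000000000000000000,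
  0xc0c00000c0c000000000000000000000000000000000000000000000000000000000000000000000000000000000000000000000000000000000000000000000000000000000000000000000000000000000000000000000000000000000000000000000000000000000000000000000000000000000000000000000000000000000000000000000000000000000000000000000000000000000000000000000000000000000000000000000000000000000000000000000000000000000000000000000000000000000000000000000000000000000000000000000000000000000000000000000000000000000030000030300000300000000000000000000000000000000000000000000000000000000000000000000000000000000000000000000000000000000000000000000000000000000000000000000000000000000000000000,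
  0xc0c00000c0c000000000000000000000000000000000000000000000000000000000000000000000000000000000000000000000000000,
  0xc0c00000c0c000000000000000000000000000000000000000000000000000000000000000000000000000000000000000000000000000000000000000000000000000000000000000000000000000000000000000000000000000000000000000000000000000000000000000000000000000000000000000000000000000000000000000000003000003030000030000000000000000000000000000000000000000000000000000000000000000000000000000000000000000000000000000000000000000000000000000000000000000000000000000000000000000000000000000000000000000000000000000000000000000000000000000000000000000000000000000000000000000000000000000000000000000000000000000000000000000000000000000000000000000000000000c00000c0c00000c0000000000000000c00000c0c00000c00000000000000000000000000000000000000000000000000000000000000000000000000000000000000000000000000000000000000000000000000000000000000000000000000000000000000000000000000000000000000000000000000000000000000000000000000000000000000000000000000000000000000000000000000000000000000000000000000000000000000000000000000000000000000000000000000000000000000000,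
  0xc0c00000c0c0000000000000000000000000000000000000000000000000000000000000000000c00000c0c00000c0000000000000000000000000000000000000000000000000000000000000000000000000000000000000000000000000000000000000000c00000c0c00000c00000000000000000000000000000000000000000000000000000000000000000000000000000000000000000000000000000000000000000000000000000000000000000000000000000000000000000000000000000000000000000000000000000000000000000000000000000000000000000000000000000000000000000000000000000000000000000000000000000000000000000000000000000000000000000000000000000000000000000,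
  0x100000101000001000000000000000001000001010000010000000000000000000000000000000000000000000000000000000000000000000000000000000000000000000000000000000000000000000000000000000000000000000000000000000000000000000000000000000000000000000000000000000000000000000000000000000000000000000000000000000000000000000000000000000000000000000000000000000000000000000000000000000000000000000000000000000000000000000000000000000000000000000000000000000000000000000000000000000000000000000000000000000000000000000000000000000000000000000000000000000000000000110000111100001100000000000000000000000000000000000000000000000000000000000000000000000000000000000000000000000000000000000000000000000000000000000000000000000000000000000000000000000000000000000000000000000008808008088080080000000000000000000000000000000011000011110000110000000000000000000000000000000000000000000000000000000000000000000000000000000000000000000000002000002020000020000000000000000000000000000000000000000000000000000000000000000000000000000000000000000000000000,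
  0x0,
  0x8080000080800000000000000000000000000000000000000000000000000000000000000000000000000000000000000000000000000000000000000000000000000000000000000000000000000000000000000000000000000000000000000000000000000000000000000000000000000000000000000000000000000000000000000000000000000000000000000000000000000000000000000000000000000000000000000000000000000000000000000000000000000000000000000000000000000000000000000000000000000000000000000000000000000000000000000000000000000000000000000000000000000000000000000000000000000000000000000000000000000000000000000000000000000000000000000000000000000000000000000000000000000000000000000000000000000000000000000000000000000000000000000000000000000,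
  0x8000008080000080008080000080800000080800000808000000000000000000000000000000000000000000000000000000000000000000000000000000000000000000000000000000000000000000800000808000008000000000000000000000000000000000000000000000000000000000000000000000000000000000000000000000000000000000000000000000000000000000000000000000000000000000000000000000000000000000000000000000000000000000000000000000000000000000000000000000000080000080800000800010100000101000000000000000000000000000000000000000000000000000000000000000000000000000000000000000000000000000000000000000000000000000000000000000000000000000000000000000000000000000000000004000004040000040000000000000000000000000000000000000000000000000000000000000000000000000000000000000000000000000000000000000000000000000000000000020200000202000000000000000000000000000000000000000000000000000000000000000000000000000000000000000000000000000000000000000000000000000000000000000000000000000000000000000000000000000000000000000000000000000,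
  0x300000003000000000000000000000000000000000000000000000000000000000000c0000000c000000000000000000000000000000000000000000000000000000000000000000020000020200000200000000000000000000000000000000000000000000000000000000000000000000000000000000000000000000000000000000000000000000000000000000000000000000000000000000000000000000000000000000000000000000000000000000000000000000000000000000000808000008080000000000000000000000000000000000000000000000000000404000004040000000000000000000008080000080800000000000000000004004044040040440004040000040400080080880800808800000000000000000000000000000000000000000000000002000002020000020000000000000000000000000000000000000000000000000000000000000000000000000000000000010100000101000000000000000000000000000000000000040400000404000000000000000000000000000000000000000000000000000100000101000001040000040400000400000000000000000000000000000000000000000000000000000000000000000004040000040400000000000000000000000000000000000,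
  0xc0000000c000000000000000000000000000000000000000000000000000000000000000000000000000000000000000000000000000000000000000000000000000000000000000000000000000000000000000000000000000000000000000000000000000000000000000000000000000000000000000000000000000000000000000000000000000000000000000000000000000000000000000000000000000000000000000000000000000000000000000000000000000000000000000000000000000000000000000000000000000000000000000000000000000000000000000000000000000000000000000000000000000000,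
  0x30000000300000000000000000000000000000000000000000000000000000000000000000000000000000000000000000000000000000000000000000000000000000000000000000000000000000000000000000000000000000000000000000000000000000000000000000000000000000000000000000000000000000000000000000000000000000000000000000000000000000000000000000000000000000000000000000000000000000000000000000000000000000000000000000000000000000000000000000000040000000400000000000000000000000000000000000000000000000000000000000000000000000000000000000000000000000000000000000000000000000000000000000000000000000000000000000000000000000000000000000000000000000000000004000000040000000000000000000000000000000000000000000000000000000000000000000000000000000000000000000000000000000000000000000000000000000000000000000000000000000000000000000000000000000000000000000000000000000000000000000000000000000000000000000000000000000000000000000,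
  0x10000000100000000000000000000000000000000000000000000000000000000000000000000000000000000000000000000000000000000000000000000000000000000000000000000000000000000000000000000000000000000000000000000000000000000000000000000000000000000000000000000000000000400000004000000000000000000000000000000000000000000000000000000000000000000000000000000000000000000000000000000000000000000000000000000000000000000000000000000000000000000000000000000000000000000000000000000000000000000000000000000000000000000000000000000000000000000000000000000000000000000000000000000c0000000c00000000000000000000000000000000000000000000000000000000000000000000000000000000000000000000000000000000000000000000000000000000000000000000000000000000000000000000000000000000000000000000000000000000000000000000,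
  0x40400000404000000000000000000000000000000000000000000000000000000000000000000000000000000000000000000000000000000000000000000000000000000000000000000000000000000000000000000000000000000000000000000000000000000000000000000000000000000000000000000000000000010000010100000100000000000000000000000000000000000000000000000000000000000000000000000000000000000000000000000000000000000000000000000000000000000808000008080000000000000000000000000000000000000000000000000000000000000000000040400000404000000000000000000000000000000000000000000000000000000000000000000000000000000000000000000000000000000000000000000000000000000000000000000000000000000000000000000000000000000000000000000000000000000000000000000000000000000000000000000000000000,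
  0x1000000010000000000000000000000000000000000000000000000000000000000000000000000000000000000000000000000000000000000000000000000000000000000000000000000000000000000000000000000000000000000000000000000000000000000000000000000000000000000000000000000000000000100000001000000000000000000000000000000000000000000000000000000000000000000000000000000000000000000000000000000000000000000000000000000000080000000800000020800000208000000000000000000000000000000000000000000000000000000000000000000000000000000000000000000000000000000000000000000000003000000030000c0003000c00030000000000000000000000000000000000040000040400000400000000000000000000000000000000000000000000000000000000000000000000000000000000000000000000000000000000000000000000000000000000000000000000000000000000000000000000000000000000000000000000000000010100000101000000000000000000000000000000000000000000000000000000000000000000000000000000000000000000000000000,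
  0x10000000100000000000000000000000000000000000000000000000000000000000000000000000000000000000040000000400000000000008000000080080000100800001000000000000000000000003000000030000000000000000000000000000000000000000000000000000000000000000000000000000000000000000000000000008000000080000000000000000000000000000000000000000000000000000]

theorem sieve_F1 : Nat.beq (sv (nw (cw ++ (cw ++ (cw ++ cw))) false) [0, 1, 2, 3, 4, 5, 6, 7, 8, 9] UG) half = true := by
  decide +kernel

theorem sieve_F2 : Nat.beq (sv (nw (cw ++ (cw ++ (cw ++ cw))) false) [10, 11, 12, 13, 14, 15, 16, 17, 18] half) (msk oF) =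
    true := by decide +kernel

theorem sieve_F : Nat.beq (sv (nw (cw ++ (cw ++ (cw ++ cw))) false) bl UG) (msk oF) = true := by
  have h : bl = [0, 1, 2, 3, 4, 5, 6, 7, 8, 9] ++ [10, 11, 12, 13, 14, 15, 16, 17, 18] := rfl
  rw [h, sv_app, Nat.eq_of_beq_eq_true sieve_F1]
  exact sieve_F2

theorem inv_F : Nat.beq (appWord (nw cw false) (msk oF)) (msk oF) = true := by decide +kernel

/-- the list has no duplicates and no element in the mask -/
noncomputable def ndB (l : List ℕ) : ℕ → Bool :=
  List.rec (motive := fun _ => ℕ → Bool) (fun _ => true)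
    (fun x _ ih m => and (Nat.beq (Nat.land (Nat.shiftRight m x) 1) 0) (seqB (Nat.lor m (Nat.pow 2 x)) ih)) l

theorem ndB_cons (x : ℕ) (l : List ℕ) (m : ℕ) :
    ndB (x :: l) m = and (Nat.beq ((m >>> x) &&& 1) 0) (ndB l (m ||| 2 ^ x)) := by
  show and _ (seqB _ (ndB l)) = _
  rw [seqB_eq]
  rfl

theorem ndB_spec (l : List ℕ) : ∀ m : ℕ, ndB l m = true → l.Nodup ∧ ∀ x ∈ l, m.testBit x = false := by
  induction l with
  | nil => exact fun m _ => ⟨List.nodup_nil, fun x hx => absurd hx List.not_mem_nil⟩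
  | cons x l ih =>
    intro m h
    rw [ndB_cons, Bool.and_eq_true] at h
    obtain ⟨h1, h2⟩ := ih _ h.2
    have h3 := Nat.eq_of_beq_eq_true h.1
    have h4 : m.testBit x = false := by
      rw [Nat.testBit, Nat.and_comm, h3]
      rfl
    refine ⟨List.nodup_cons.2 ⟨fun hx => ?_, h1⟩, fun y hy => ?_⟩
    · have h5 := h2 x hx
      rw [Nat.testBit_or, Nat.testBit_two_pow_self, Bool.or_true] at h5
      exact absurd h5 (by decide)
    · rcases List.mem_cons.1 hy with rfl | hy
      · exact h4
      · have h5 := h2 y hy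
        rw [Nat.testBit_or, Bool.or_eq_false_iff] at h5
        exact h5.1

theorem ndB_F : ndB oF 0 = true := by decide +kernel

theorem nodup_F : oF.Nodup := (ndB_spec oF 0 ndB_F).1

/-- the words of the representatives: `t = u x u⁻¹` -/
def u0 : List Gen := []
def u3 : List Gen := [.c, .d, .h, .f, .g, .e, .f, .d, .e, .c, .d, .h, .i, .g, .f, .d, .e, .c, .d, .h, .j, .g, .f, .e, .d, .c]
private noncomputable def _root_.Cfsg.Agent.LsF.f54adc8_0 : {f // @Cfsg.Agent.Fischer.Fi24RepDef.net = f} := ⟨_, by first | (delta Cfsg.Agent.Fischer.Fi24RepDef.net; (try delta Cfsg.Agent.Fischer.Fi24RepDef.net.match_1); (try delta Cfsg.Spor.Fi24.Gen.casesOn); exact rfl) | exact rfl⟩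
private noncomputable def _root_.Cfsg.Agent.LsF.f54adc8_1 : {f // @Cfsg.Agent.Fischer.Fi24RepDef.fst = f} := ⟨_, by first | (delta Cfsg.Agent.Fischer.Fi24RepDef.fst; (try delta Cfsg.Agent.Fischer.Fi24RepDef.net.match_1); (try delta Cfsg.Spor.Fi24.Gen.casesOn); exact rfl) | exact rfl⟩
private noncomputable def _root_.Cfsg.Agent.LsF.f54adc8_2 : {f // @Cfsg.Agent.Fischer.Fi24RepDef.nw = f} := ⟨_, by first | (delta Cfsg.Agent.Fischer.Fi24RepDef.nw; rewrite [Cfsg.Agent.LsF.f54adc8_0.2, Cfsg.Agent.LsF.f54adc8_1.2]; exact rfl) | exact rfl⟩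
theorem p3 : chkPt (nw u3 false) 193 263 = true := by ((try (rewrite [Cfsg.Agent.LsF.f54adc8_2.2])); decide +kernel)
def u5 : List Gen := [.e, .c, .d, .h, .i, .f, .e, .d, .h, .g, .f, .e, .d]
theorem p5 : chkPt (nw u5 false) 2 406 = true := by decide +kernel
def u6 : List Gen := [.b]
theorem p6 : chkPt (nw u6 false) 1 192 = true := by decide +kernel
def u7 : List Gen := [.c, .d, .h, .f, .g, .e, .f, .d, .e, .c, .d, .h, .i, .g, .f, .d, .e, .c, .d, .h, .j, .g, .f, .e, .d, .c, .b]
theorem p7 : chkPt (nw u7 false) 1 262 = true := by decide +kernel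

/-- the word of `(t * y0) ^ n` -/
def pw (n : ℕ) (u : List Gen) (x : Gen) : List Gen := rep n ((u ++ x :: u.reverse) ++ ([.l, .k, .a, .b] : List Cfsg.Spor.Fi24.Gen))

private theorem allG {f : Gen → Bool}
    (h : List.all [.l, .k, .a, .b, .c, .d, .e, .f, .g, .j, .h, .i] f = true) (x : Gen) : f x = true :=
  List.all_eq_true.1 h x (by cases x <;> simp only [List.mem_cons, true_or, or_true])

private noncomputable def _root_.Cfsg.Agent.LsF.f54adc8_5 : {f // @Cfsg.Agent.Lib.PermNet.Net.ok = f} := ⟨_, by first | (delta Cfsg.Agent.Lib.PermNet.Net.ok; rewrite [Cfsg.Agent.LsF.and_eq]; exact rfl) | exact rfl⟩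
private noncomputable def _root_.Cfsg.Agent.LsF.f54adc8_6 : {f // @Cfsg.Agent.Lib.PermNetFast.kOf = f} := ⟨_, by first | (delta Cfsg.Agent.Lib.PermNetFast.kOf; rewrite [Cfsg.Agent.LsF.f54adc8_5.2]; exact rfl) | exact rfl⟩
private noncomputable def _root_.Cfsg.Agent.LsF.f54adc8_7 : {f // @Cfsg.Agent.Lib.PermNetFast.tabI = f} := ⟨_, by first | (delta Cfsg.Agent.Lib.PermNetFast.tabI; rewrite [Cfsg.Agent.LsF.f54adc8_6.2]; exact rfl) | exact rfl⟩
private noncomputable def _root_.Cfsg.Agent.LsF.f54adc8_8 : {f // @Cfsg.Agent.Lib.PermNetFast.good = f} := ⟨_, by first | (delta Cfsg.Agent.Lib.PermNetFast.good; rewrite [Cfsg.Agent.LsF.f54adc8_6.2, Cfsg.Agent.LsF.f54adc8_5.2]; exact rfl) | exact rfl⟩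
private noncomputable def _root_.Cfsg.Agent.LsF.f54adc8_9 : {f // @Cfsg.Agent.Lib.PermNetFast.invF = f} := ⟨_, by first | (delta Cfsg.Agent.Lib.PermNetFast.invF; rewrite [Cfsg.Agent.LsF.f54adc8_7.2, Cfsg.Agent.LsF.f54adc8_8.2]; exact rfl) | exact rfl⟩
private noncomputable def _root_.Cfsg.Agent.LsF.f54adc8_10 : {f // @Cfsg.Agent.Lib.PermNetFast.winvF = f} := ⟨_, by first | (delta Cfsg.Agent.Lib.PermNetFast.winvF; rewrite [Cfsg.Agent.LsF.f54adc8_9.2]; exact rfl) | exact rfl⟩
private noncomputable def _root_.Cfsg.Agent.LsF.f54adc8_11 : {f // @Cfsg.Agent.Fischer.Fi24RepDef.rep = f} := ⟨_, by first | (delta Cfsg.Agent.Fischer.Fi24RepDef.rep; rewrite [Cfsg.Agent.LsF.lappend_pat]; exact rfl) | exact rfl⟩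
private noncomputable def _root_.Cfsg.Agent.LsF.f54adc8_12 : {f // @Cfsg.Agent.H828.EP.FiveK.pw = f} := ⟨_, by first | (delta Cfsg.Agent.H828.EP.FiveK.pw; rewrite [Cfsg.Agent.LsF.f54adc8_11.2, Cfsg.Agent.LsF.lappend_pat, Cfsg.Agent.LsF.reverse_eq]; exact rfl) | exact rfl⟩
private noncomputable def _root_.Cfsg.Agent.LsF.f54adc8_13 : {f // @Cfsg.Agent.KFacts.FiTF.FixMask.pn = f} := ⟨_, by first | (delta Cfsg.Agent.KFacts.FiTF.FixMask.pn; (try delta Cfsg.Agent.KFacts.FiTF.FixMask.pn.match_1); (try delta Cfsg.Spor.Fi24.Gen.casesOn); exact rfl) | exact rfl⟩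
theorem f0 : ∀ x : Gen, chkPt (nw (pw 4 u0 .l) false) (pn x) (pn x) = true :=
  allG (f := fun x => chkPt (nw (pw 4 u0 .l) false) (pn x) (pn x)) (by (rewrite [show @Cfsg.Agent.Lib.PermNetPt.chkPt = delta% @Cfsg.Agent.Lib.PermNetPt.chkPt from by delta Cfsg.Agent.Lib.PermNetPt.chkPt; rfl, Cfsg.Agent.Lib.PermNetFast.winv_fast]; ((try (rewrite [Cfsg.Agent.LsF.f54adc8_10.2, Cfsg.Agent.LsF.f54adc8_2.2, Cfsg.Agent.LsF.f54adc8_12.2, Cfsg.Agent.LsF.f54adc8_13.2, Cfsg.Agent.LsF.all_eq])); decide +kernel)))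

theorem f3 : ∀ x : Gen, chkPt (nw (pw 8 u3 .b) false) (pn x) (pn x) = true :=
  allG (f := fun x => chkPt (nw (pw 8 u3 .b) false) (pn x) (pn x)) (by (rewrite [show @Cfsg.Agent.Lib.PermNetPt.chkPt = delta% @Cfsg.Agent.Lib.PermNetPt.chkPt from by delta Cfsg.Agent.Lib.PermNetPt.chkPt; rfl, Cfsg.Agent.Lib.PermNetFast.winv_fast]; ((try (rewrite [Cfsg.Agent.LsF.f54adc8_10.2, Cfsg.Agent.LsF.f54adc8_2.2, Cfsg.Agent.LsF.f54adc8_12.2, Cfsg.Agent.LsF.f54adc8_13.2, Cfsg.Agent.LsF.all_eq])); decide +kernel)))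

theorem f5 : ∀ x : Gen, chkPt (nw (pw 6 u5 .c) false) (pn x) (pn x) = true :=
  allG (f := fun x => chkPt (nw (pw 6 u5 .c) false) (pn x) (pn x)) (by (rewrite [show @Cfsg.Agent.Lib.PermNetPt.chkPt = delta% @Cfsg.Agent.Lib.PermNetPt.chkPt from by delta Cfsg.Agent.Lib.PermNetPt.chkPt; rfl, Cfsg.Agent.Lib.PermNetFast.winv_fast]; ((try (rewrite [Cfsg.Agent.LsF.f54adc8_10.2, Cfsg.Agent.LsF.f54adc8_2.2, Cfsg.Agent.LsF.f54adc8_12.2, Cfsg.Agent.LsF.f54adc8_13.2, Cfsg.Agent.LsF.all_eq])); decide +kernel)))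

theorem f6 : ∀ x : Gen, chkPt (nw (pw 6 u6 .a) false) (pn x) (pn x) = true :=
  allG (f := fun x => chkPt (nw (pw 6 u6 .a) false) (pn x) (pn x)) (by (rewrite [show @Cfsg.Agent.Lib.PermNetPt.chkPt = delta% @Cfsg.Agent.Lib.PermNetPt.chkPt from by delta Cfsg.Agent.Lib.PermNetPt.chkPt; rfl, Cfsg.Agent.Lib.PermNetFast.winv_fast]; decide +kernel))

theorem f7 : ∀ x : Gen, chkPt (nw (pw 12 u7 .a) false) (pn x) (pn x) = true :=
  allG (f := fun x => chkPt (nw (pw 12 u7 .a) false) (pn x) (pn x)) (by (rewrite [show @Cfsg.Agent.Lib.PermNetPt.chkPt = delta% @Cfsg.Agent.Lib.PermNetPt.chkPt from by delta Cfsg.Agent.Lib.PermNetPt.chkPt; rfl, Cfsg.Agent.Lib.PermNetFast.winv_fast]; decide +kernel))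

def u4 : List Gen := [.j, .g, .f]
theorem p4 : chkPt (nw u4 false) 3 96 = true := by decide +kernel
theorem fixY : chkPt (nw [.l, .k, .a, .b] false) 96 96 = true := by decide +kernel

theorem fC : ∀ x : Gen, chkPt (nw (rep 8 cw) false) (pn x) (pn x) = true :=
  allG (f := fun x => chkPt (nw (rep 8 cw) false) (pn x) (pn x)) (by (rewrite [show @Cfsg.Agent.Lib.PermNetPt.chkPt = delta% @Cfsg.Agent.Lib.PermNetPt.chkPt from by delta Cfsg.Agent.Lib.PermNetPt.chkPt; rfl, Cfsg.Agent.Lib.PermNetFast.winv_fast]; decide +kernel))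

end Cfsg.Agent.H828.EP.FiveK
end

-- part: H828/EP/Five
section
/-!
# S4929: the principal 5-block of `Fi₂₄'` has a character of even degree (helper828)

The number of the transpositions `b` of `Fi₂₄` with `5 ∣ orderOf (b * y0)` is 178956, congruent to 4 modulo 8; the
counting criterion `H669.EP.evAt_of_singular` applies. Modulo 8 the number is found with the element
`c = j g f e d h i` of order 8 which commutes with `y0`: only the 504 transpositions commuting with `c ^ 4` matter.
-/

set_option autoImplicit false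
set_option maxRecDepth 100000

namespace Cfsg.Agent.H828.EP.Five

open Cfsg Cfsg.Agent Cfsg.Agent.H892.EP Cfsg.Agent.H828.EP.FiveK
open Cfsg.Agent.Lib.PermNet Cfsg.Agent.Lib.PermNetPt Cfsg.Agent.Fischer.Fi24RepDef Cfsg.Agent.Fischer.Fi24Rep
open Cfsg.Agent.Fischer.Fi24RepOrb (UG orbG)
open Cfsg.Agent.Fischer.Fi24Spider (word_append word_cons word_nil gword gen_conj)
open Cfsg.Agent.R08.FiTwentyFour (L)
open Cfsg.Agent.Fischer.Fi24Final (gen_sq)
open Cfsg.Agent.KFacts.FiTF.Pts Cfsg.Agent.KFacts.FiTF.FixMask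
open Cfsg.Agent.KFacts.FiTF.Defs (tr)
open Cfsg.Agent.LThreeFi24.SNine (y0 s s_mem_G0 mem_G0 s_gen)
open Cfsg.Agent.LThreeFi24.FiveConj (orderOf_y0 card_Fi24)
open Cfsg.Spor (Fi24 Fi24')
open Cfsg.Spor.Fi24 (Gen)

/-! ### An element of order 8 without fixed points of its fourth power -/

theorem eight_dvd {α : Type*} [Finite α] (σ : Equiv.Perm α) (h8 : σ ^ 8 = 1) (h4 : ∀ x, (σ ^ 4) x ≠ x) :
    8 ∣ Nat.card α := by
  classical
  have := Fintype.ofFinite α
  rcases isEmpty_or_nonempty α with h | ⟨⟨x0⟩⟩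
  · simp
  have hord : orderOf σ = 8 := by
    have : Fact (Nat.Prime 2) := ⟨Nat.prime_two⟩
    have h1 := orderOf_eq_prime_pow (x := σ) (p := 2) (n := 2) (fun h => h4 x0 (by
      have h2 : σ ^ 4 = 1 := h
      rw [h2]; rfl)) (by simpa using h8)
    simpa using h1
  have hst : ∀ x : α, MulAction.stabilizer (Subgroup.zpowers σ) x = ⊥ := by
    intro x
    rw [eq_bot_iff]
    rintro ⟨g, hg⟩ hx
    obtain ⟨k, rfl⟩ := Subgroup.mem_zpowers_iff.1 hg
    have hx' : (σ ^ k) x = x := hx
    have h8' : (σ ^ (8 : ℤ)) x = x := by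
      have : σ ^ (8 : ℤ) = 1 := by
        have h := zpow_natCast σ 8
        rw [h8] at h
        exact_mod_cast h
      rw [this]; rfl
    have hfix : ∀ (τ : Equiv.Perm α) (n : ℤ), τ x = x → (τ ^ n) x = x := fun τ n h =>
      MulAction.mem_stabilizer_iff.1 (zpow_mem (MulAction.mem_stabilizer_iff.2 h : τ ∈ MulAction.stabilizer _ x) n)
    have hd : (σ ^ ((Int.gcd k 8 : ℕ) : ℤ)) x = x := by
      rw [Int.gcd_eq_gcd_ab k 8, zpow_add, zpow_mul, zpow_mul, Equiv.Perm.mul_apply, hfix _ _ h8', hfix _ _ hx']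
    have hdvd : Int.gcd k 8 ∣ 2 ^ 3 := by
      have : Int.gcd k 8 ∣ (8 : ℤ).natAbs := Int.gcd_dvd_natAbs_right k 8
      simpa using this
    obtain ⟨j, hj, hj2⟩ := (Nat.dvd_prime_pow Nat.prime_two).1 hdvd
    have h3 : j = 3 := by
      by_contra hne
      have hj3 : j ≤ 2 := by omega
      apply h4 x
      obtain ⟨t, ht⟩ := pow_dvd_pow 2 hj3
      have h5 : σ ^ 4 = (σ ^ ((Int.gcd k 8 : ℕ) : ℤ)) ^ (t : ℤ) := by
        rw [← zpow_mul, ← Nat.cast_mul, zpow_natCast, hj2, ← ht]
        norm_num
      rw [h5]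
      exact hfix _ _ hd
    have h6 : (8 : ℤ) ∣ k := by
      have h7 : ((Int.gcd k 8 : ℕ) : ℤ) ∣ k := Int.gcd_dvd_left ..
      rw [hj2, h3] at h7
      exact_mod_cast h7
    obtain ⟨m, rfl⟩ := h6
    refine Subgroup.mem_bot.2 (Subtype.ext ?_)
    change σ ^ (8 * m) = 1
    rw [zpow_mul]
    have : σ ^ (8 : ℤ) = 1 := by
      have h := zpow_natCast σ 8
      rw [h8] at h
      exact_mod_cast h
    rw [this, one_zpow]
  rw [Nat.card_eq_fintype_card, MulAction.card_eq_sum_card_group_div_card_stabilizer (Subgroup.zpowers σ) α]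
  refine Finset.dvd_sum fun ω _ => ?_
  have h1 : Fintype.card (MulAction.stabilizer (Subgroup.zpowers σ) (Quotient.out ω)) = 1 := by
    rw [← Nat.card_eq_fintype_card, hst, Subgroup.card_bot]
  rw [h1, Nat.div_one, ← Nat.card_eq_fintype_card, Nat.card_zpowers, hord]

/-! ### The points of the transpositions in question -/

/-- the point of a transposition `b` with `5 ∣ orderOf (b * y0)` -/
def Q (p : ℕ) : Prop := ∃ b : Fi24, IsPt b p ∧ 5 ∣ orderOf (b * y0)

theorem Q_of {g : Fi24} (hg : g * y0 = y0 * g) {p : ℕ} (h : Q p) : Q (rho g p) := by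
  obtain ⟨b, hb, h5⟩ := h
  refine ⟨g * b * g⁻¹, hb.conj g, ?_⟩
  have h1 : g * b * g⁻¹ * y0 = g * (b * y0) * g⁻¹ := by
    have h2 : g⁻¹ * y0 = y0 * g⁻¹ := by
      calc g⁻¹ * y0 = g⁻¹ * (y0 * g) * g⁻¹ := by group
        _ = g⁻¹ * (g * y0) * g⁻¹ := by rw [hg]
        _ = y0 * g⁻¹ := by group
    calc g * b * g⁻¹ * y0 = g * b * (g⁻¹ * y0) := by group
      _ = g * b * (y0 * g⁻¹) := by rw [h2]
      _ = g * (b * y0) * g⁻¹ := by group
  have h3 : orderOf (g * (b * y0) * g⁻¹) = orderOf (b * y0) := (MulAut.conj g).orderOf_eq (b * y0)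
  rw [h1, h3]
  exact h5

theorem Q_rho {g : Fi24} (hg : g * y0 = y0 * g) (p : ℕ) : Q (rho g p) ↔ Q p := by
  refine ⟨fun h => ?_, Q_of hg⟩
  have hg' : g⁻¹ * y0 = y0 * g⁻¹ := by
    calc g⁻¹ * y0 = g⁻¹ * (y0 * g) * g⁻¹ := by group
      _ = g⁻¹ * (g * y0) * g⁻¹ := by rw [hg]
      _ = y0 * g⁻¹ := by group
  have h1 := Q_of hg' h
  have h2 : rho g⁻¹ (rho g p) = p := by
    rw [← Equiv.Perm.mul_apply, ← map_mul, inv_mul_cancel, map_one]
    rfl
  rwa [h2] at h1

/-! ### Words commuting with `y0` -/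

theorem comm_letter {x : Gen} (hx : x ∈ [Gen.j, .g, .f, .e, .d, .h, .i]) : gen x * y0 = y0 * gen x := by
  obtain ⟨h0, h1, h2, h3, h4, h5, h6⟩ := s_gen
  simp only [List.mem_cons, List.not_mem_nil, or_false] at hx
  rcases hx with rfl | rfl | rfl | rfl | rfl | rfl | rfl
  · rw [← h0]; exact mem_G0.1 (s_mem_G0 0)
  · rw [← h1]; exact mem_G0.1 (s_mem_G0 1)
  · rw [← h2]; exact mem_G0.1 (s_mem_G0 2)
  · rw [← h3]; exact mem_G0.1 (s_mem_G0 3)
  · rw [← h4]; exact mem_G0.1 (s_mem_G0 4)
  · rw [← h5]; exact mem_G0.1 (s_mem_G0 5)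
  · rw [← h6]; exact mem_G0.1 (s_mem_G0 6)

theorem comm_word : ∀ w : List Gen, (∀ x ∈ w, x ∈ [Gen.j, .g, .f, .e, .d, .h, .i]) → word w * y0 = y0 * word w
  | [], _ => by rw [word_nil, one_mul, mul_one]
  | x :: w, h => by
    rw [word_cons, mul_assoc, comm_word w (fun y hy => h y (List.mem_cons_of_mem _ hy)), ← mul_assoc,
      comm_letter (h x List.mem_cons_self), mul_assoc]

theorem comm_mv (i : ℕ) : word (mv i) * y0 = y0 * word (mv i) := by
  rcases i with _ | _ | _ | _ | _ | i
  · exact comm_word [.j, .g, .f, .e, .f, .g, .j] (by decide)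
  · exact comm_word [.j, .d] (by decide)
  · exact comm_word [.g, .h] (by decide)
  · exact comm_word [.f, .i] (by decide)
  · rfl
  · exact comm_word [] (by decide)

theorem const (l : List ℕ) {c : Prop} {M : ℕ} (h : ∀ p, M.testBit p = true → (Q p ↔ c)) :
    ∀ p, (grow l M).testBit p = true → (Q p ↔ c) := by
  induction l generalizing M with
  | nil => exact h
  | cons i l ih =>
    rw [grow_cons]
    apply ih
    intro p hp
    rw [Nat.testBit_or, Bool.or_eq_true] at hp
    rcases hp with hp | hp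
    · exact h p hp
    · rw [testBit_appWord (wok _ _), ← rho_word] at hp
      rw [← h _ hp, Q_rho (comm_mv i)]

theorem const_o (k : ℕ) (h : Nat.beq (grow (ch k) (msk [r k])) (msk (o k)) = true) {p : ℕ} (hp : p ∈ o k) :
    Q p ↔ Q (r k) := by
  refine const (ch k) (M := msk [r k]) (fun q hq => ?_) p ?_
  · rw [testBit_msk, List.mem_singleton] at hq
    rw [hq]
  · rw [Nat.eq_of_beq_eq_true h, testBit_msk]
    exact hp

/-! ### The orders -/

theorem word_rep (n : ℕ) (w : List Gen) : word (rep n w) = word w ^ n := by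
  induction n with
  | zero =>
    show word [] = _
    rw [word_nil, pow_zero]
  | succ n ih =>
    show word (w ++ rep n w) = _
    rw [word_append, ih, pow_succ']

theorem word_pw (n : ℕ) (u : List Gen) (x : Gen) : word (pw n u x) = (tr u x * y0) ^ n := by
  unfold pw
  rw [word_rep, word_append]
  rfl

theorem pow_eq {n : ℕ} {u : List Gen} {x : Gen}
    (h : ∀ x' : Gen, chkPt (nw (pw n u x) false) (pn x') (pn x') = true) : (tr u x * y0) ^ n = 1 := by
  rw [← word_pw]
  apply eq_one_of_comm
  intro x'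
  exact ((isPt_gen x').comm_iff _).2 (rho_of_chkPt (h x'))

theorem not_Q {n : ℕ} (hn : ¬ 5 ∣ n) {u : List Gen} {x : Gen} {p : ℕ} (hp : IsPt (tr u x) p)
    (h : ∀ x' : Gen, chkPt (nw (pw n u x) false) (pn x') (pn x') = true) : ¬ Q p := by
  rintro ⟨b, hb, h5⟩
  rw [hb.inj hp] at h5
  exact hn (h5.trans (orderOf_dvd_of_pow_eq_one (pow_eq h)))

theorem not_Q0 : ¬ Q (r 0) := not_Q (n := 4) (by norm_num) (u := FiveK.u0) (x := .l) (p := 0) (by
  have h := isPt_gen .l
  have h1 : tr FiveK.u0 .l = gen .l := by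
    rw [tr_eq]
    show word [] * gen .l * (word [])⁻¹ = gen .l
    rw [word_nil, one_mul, inv_one, mul_one]
  rw [h1]
  exact h) f0

theorem not_Q3 : ¬ Q (r 3) := not_Q (n := 8) (by norm_num) (isPt_tr p3) f3

theorem not_Q5 : ¬ Q (r 5) := not_Q (n := 6) (by norm_num) (isPt_tr p5) f5

theorem not_Q6 : ¬ Q (r 6) := not_Q (n := 6) (by norm_num) (isPt_tr p6) f6

theorem not_Q7 : ¬ Q (r 7) := not_Q (n := 12) (by norm_num) (isPt_tr p7) f7

theorem sq_tr (u : List Gen) (x : Gen) : tr u x * tr u x = 1 := by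
  rw [tr_eq]
  calc word u * gen x * (word u)⁻¹ * (word u * gen x * (word u)⁻¹) = word u * (gen x * gen x) * (word u)⁻¹ := by group
    _ = 1 := by rw [gen_sq, mul_one, mul_inv_cancel]

theorem Q4 : Q (r 4) := by
  have hp : IsPt (tr u4 .e) 96 := isPt_tr p4
  refine ⟨tr u4 .e, hp, ?_⟩
  have hc : y0 * tr u4 .e = tr u4 .e * y0 := (hp.comm_iff y0).2 (rho_of_chkPt fixY)
  have hc' : Commute (tr u4 .e) y0 := hc.symm
  have h1 : (tr u4 .e * y0) ^ (2 * orderOf (tr u4 .e * y0)) = 1 := by
    rw [mul_comm 2, pow_mul, pow_orderOf_eq_one, one_pow]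
  rw [hc'.mul_pow, pow_mul (tr u4 .e), pow_two (tr u4 .e), sq_tr, one_pow, one_mul] at h1
  have h2 : 5 ∣ 2 * orderOf (tr u4 .e * y0) := by
    rw [← orderOf_y0]
    exact orderOf_dvd_of_pow_eq_one h1
  exact (Nat.Coprime.dvd_of_dvd_mul_left (by norm_num) h2)

/-! ### The count -/

open scoped Classical in
theorem countP_o {k : ℕ} (h : Nat.beq (grow (ch k) (msk [r k])) (msk (o k)) = true) :
    List.countP (fun p => decide (Q p)) (o k) = if Q (r k) then (o k).length else 0 := by
  split_ifs with hQ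
  · rw [List.countP_eq_length]
    intro p hp
    exact decide_eq_true ((const_o k h hp).2 hQ)
  · rw [List.countP_eq_zero]
    intro p hp h1
    exact hQ ((const_o k h hp).1 (of_decide_eq_true h1))

open scoped Classical in
theorem count_mod : List.countP (fun p => decide (Q p)) oF % 8 = 4 := by
  have hlen : ∀ {k : ℕ}, 8 ∣ (o k).length → 8 ∣ (if Q (r k) then (o k).length else 0) := by
    intro k hk
    split_ifs
    · exact hk
    · exact dvd_zero 8
  unfold oF
  simp only [List.countP_append]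
  rw [countP_o g0, countP_o g1, countP_o g2, countP_o g3, countP_o g4, countP_o g5, countP_o g6, countP_o g7,
    countP_o g8, countP_o g9, countP_o g10, countP_o g11, countP_o g12, countP_o g13,
    if_neg not_Q0, if_neg not_Q3, if_neg not_Q5, if_neg not_Q6, if_neg not_Q7, if_pos Q4]
  have h1 := hlen (k := 1) (by decide +kernel)
  have h2 := hlen (k := 2) (by decide +kernel)
  have h8 := hlen (k := 8) (by decide +kernel)
  have h9 := hlen (k := 9) (by decide +kernel)
  have h10 := hlen (k := 10) (by decide +kernel)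
  have h11 := hlen (k := 11) (by decide +kernel)
  have h12 := hlen (k := 12) (by decide +kernel)
  have h13 := hlen (k := 13) (by decide +kernel)
  have h4 : (o 4).length = 4 := by decide +kernel
  omega

theorem cw_comm : word cw * y0 = y0 * word cw := comm_word cw (by decide)

theorem cw_pow : word cw ^ 8 = 1 := by
  rw [← word_rep]
  apply eq_one_of_comm
  intro x
  exact ((isPt_gen x).comm_iff _).2 (rho_of_chkPt (fC x))

theorem mem_iff (p : ℕ) : p ∈ oF ↔ rho (word cw) p ∈ oF := by
  rw [← testBit_msk oF p, ← testBit_msk oF (rho (word cw) p), rho_word, ← testBit_appWord (wok cw false),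
    Nat.eq_of_beq_eq_true inv_F]

theorem mem_of_fix {p : ℕ} (hp : UG.testBit p = true) (h : rho (word cw ^ 4) p = p) : p ∈ oF := by
  rw [← testBit_msk, ← Nat.eq_of_beq_eq_true sieve_F]
  apply sv_spec (wok _ _) bl hp
  rw [← rho_word, word_append, word_append, word_append]
  have h1 : word cw * (word cw * (word cw * word cw)) = word cw ^ 4 := by
    simp only [pow_succ, pow_zero, one_mul, mul_assoc]
  rw [h1]
  exact h

theorem fin24 : Finite Fi24 := Nat.finite_of_card_ne_zero (by rw [card_Fi24]; norm_num)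

theorem fin_Q : {p : ℕ | Q p}.Finite := by
  classical
  have := fin24
  refine (Set.finite_range fun b : Fi24 => if h : ∃ p, IsPt b p then h.choose else 0).subset ?_
  rintro p ⟨b, hb, -⟩
  refine ⟨b, ?_⟩
  have h : ∃ p, IsPt b p := ⟨p, hb⟩
  change (if h : ∃ p, IsPt b p then h.choose else 0) = p
  rw [dif_pos h]
  exact h.choose_spec.uniq hb

theorem eight_dvd_out : 8 ∣ Nat.card {p : ℕ // Q p ∧ p ∉ oF} := by
  have : Finite {p : ℕ // Q p ∧ p ∉ oF} := (fin_Q.subset (fun p hp => hp.1) : {p : ℕ | Q p ∧ p ∉ oF}.Finite)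
  have hinv : ∀ p : ℕ, (Q (rho (word cw) p) ∧ rho (word cw) p ∉ oF) ↔ (Q p ∧ p ∉ oF) := fun p =>
    and_congr (Q_rho cw_comm p) (not_congr (mem_iff p).symm)
  refine eight_dvd ((rho (word cw)).subtypePerm hinv) ?_ ?_
  · ext x
    rw [Equiv.Perm.subtypePerm_pow]
    change ((rho (word cw)) ^ 8) (x : ℕ) = x
    rw [← map_pow, cw_pow, map_one]
    rfl
  · rintro ⟨p, ⟨b, hb, hb5⟩, hp2⟩ hx
    rw [Equiv.Perm.subtypePerm_pow] at hx
    have h1 : ((rho (word cw)) ^ 4) p = p := congrArg Subtype.val hx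
    rw [← map_pow] at h1
    exact hp2 (mem_of_fix (bit hb) h1)

open scoped Classical in
theorem card_in : Nat.card {p : ℕ // Q p ∧ p ∈ oF} % 8 = 4 := by
  have h1 : Nat.card {p : ℕ // Q p ∧ p ∈ oF} = (oF.filter fun p => decide (Q p)).toFinset.card := by
    change {p : ℕ | Q p ∧ p ∈ oF}.ncard = _
    rw [← Set.ncard_coe_finset]
    congr 1
    ext p
    simp only [Set.mem_ofPred_eq, Finset.mem_coe, List.mem_toFinset, List.mem_filter, decide_eq_true_eq]
    exact and_comm
  rw [h1, List.toFinset_card_of_nodup (nodup_F.filter _), ← List.countP_eq_length_filter, count_mod]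

theorem card_Q : Nat.card {p : ℕ // Q p} % 8 = 4 := by
  have h1 : {p : ℕ | Q p}.ncard = {p : ℕ | Q p ∧ p ∈ oF}.ncard + {p : ℕ | Q p ∧ p ∉ oF}.ncard := by
    rw [← Set.ncard_union_eq _ (fin_Q.subset fun p hp => hp.1) (fin_Q.subset fun p hp => hp.1)]
    · congr 1
      ext p
      simp only [Set.mem_union, Set.mem_ofPred_eq]
      tauto
    · rw [Set.disjoint_left]
      exact fun p hp hp' => hp'.2 hp.2
  have h2 := eight_dvd_out
  have h3 := card_in
  have h4 : Nat.card {p : ℕ // Q p} = {p : ℕ | Q p}.ncard := rfl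
  have h5 : Nat.card {p : ℕ // Q p ∧ p ∈ oF} = {p : ℕ | Q p ∧ p ∈ oF}.ncard := rfl
  have h6 : Nat.card {p : ℕ // Q p ∧ p ∉ oF} = {p : ℕ | Q p ∧ p ∉ oF}.ncard := rfl
  omega

theorem card_eq : Nat.card {b : Fi24 // IsConj (gen .l) b ∧ 5 ∣ orderOf (b * y0)} = Nat.card {p : ℕ // Q p} := by
  refine Nat.card_congr ?_
  refine (Equiv.ofBijective (fun p : {p : ℕ // Q p} =>
    (⟨p.2.choose, p.2.choose_spec.1.mem, p.2.choose_spec.2⟩ : {b : Fi24 // IsConj (gen .l) b ∧ 5 ∣ orderOf (b * y0)}))
    ⟨?_, ?_⟩).symm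
  · intro p q h
    have h1 : p.2.choose = q.2.choose := congrArg Subtype.val h
    have h2 := p.2.choose_spec.1
    rw [h1] at h2
    exact Subtype.ext (h2.uniq q.2.choose_spec.1)
  · rintro ⟨b, hb, h5⟩
    obtain ⟨p, hp⟩ := exists_pt (d := b) hb
    have hQ : Q p := ⟨b, hp, h5⟩
    refine ⟨⟨p, hQ⟩, Subtype.ext ?_⟩
    exact hQ.choose_spec.1.inj hp

/-- **`Fi₂₄'`, the prime 5.** -/
theorem ev_five : EvAt 5 Fi24' := by
  have := fin24
  have : Fact (Nat.Prime 5) := ⟨by norm_num⟩
  refine H669.EP.evAt_of_singular (p := 5) (by norm_num) (commutator Fi24)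
    Cfsg.Agent.R08.FiTwentyFour.index_commutator (d := gen .l)
    (Cfsg.Agent.R08.FiTwentyFour.odd (Cfsg.Agent.R08.FiTwentyFour.gen_mem_L .l)) y0 (k := 3) ?_ ?_
  · have h1 : Subgroup.centralizer ({gen .l} : Set Fi24) = Cfsg.Agent.Fischer.Fi24RepOrb.H := by
      ext g
      rw [Subgroup.mem_centralizer_singleton_iff]
      exact (mem_H_iff g).symm
    rw [h1, (Cfsg.Agent.Fischer.Fi24RepOrb.index_and_suborbits Cfsg.Agent.Fischer.Fi24Index.index_le.2
      Cfsg.Agent.Fischer.Fi24Index.index_le.1).1]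
    norm_num
  · rw [card_eq]
    have h := card_Q
    intro h8
    have h8' : 8 ∣ Nat.card {p : ℕ // Q p} := by simpa using h8
    omega

end Cfsg.Agent.H828.EP.Five
end

-- part: H669/EP/FiTwP
section
/-! # `Fi24`, `p = 23`: kernel checks, the elements of order 23 (helper669, for S4929) -/

set_option autoImplicit false
set_option maxRecDepth 100000
set_option Elab.async false

namespace Cfsg.Agent.H669.EP.Fi.Tw

theorem chkP : cycL vw lP = true := by (rewrite [show @Cfsg.Agent.H669.EP.Fi.cycL = delta% @Cfsg.Agent.H669.EP.Fi.cycL from by delta Cfsg.Agent.H669.EP.Fi.cycL; rfl, show @Cfsg.Agent.H669.EP.Fi.cyc1 = delta% @Cfsg.Agent.H669.EP.Fi.cyc1 from by delta Cfsg.Agent.H669.EP.Fi.cyc1; rfl, show @Cfsg.Agent.H843.Pat.itx = delta% @Cfsg.Agent.H843.Pat.itx from by delta Cfsg.Agent.H843.Pat.itx; rfl, Cfsg.Agent.Lib.PermNetFast.winv_fast]; decide +kernel)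

end Cfsg.Agent.H669.EP.Fi.Tw
end

-- part: H669/EP/FiTwN
section
/-! # `Fi24`, `p = 23`: kernel checks, the elements of order different from 23 (helper669, for S4929) -/

set_option autoImplicit false
set_option maxRecDepth 100000
set_option Elab.async false

namespace Cfsg.Agent.H669.EP.Fi.Tw

theorem chkN : cycL vw lN = true := by (rewrite [show @Cfsg.Agent.H669.EP.Fi.cycL = delta% @Cfsg.Agent.H669.EP.Fi.cycL from by delta Cfsg.Agent.H669.EP.Fi.cycL; rfl, show @Cfsg.Agent.H669.EP.Fi.cyc1 = delta% @Cfsg.Agent.H669.EP.Fi.cyc1 from by delta Cfsg.Agent.H669.EP.Fi.cyc1; rfl, show @Cfsg.Agent.H843.Pat.itx = delta% @Cfsg.Agent.H843.Pat.itx from by delta Cfsg.Agent.H843.Pat.itx; rfl, Cfsg.Agent.Lib.PermNetFast.winv_fast]; decide +kernel)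

private noncomputable def _root_.Cfsg.Agent.LsF.f54adc8_14 : {f // @Cfsg.Agent.H843.Pat.gd = f} := ⟨_, by first | (delta Cfsg.Agent.H843.Pat.gd; rewrite [Cfsg.Agent.LsF.getD_eq]; exact rfl) | exact rfl⟩
private noncomputable def _root_.Cfsg.Agent.LsF.f54adc8_15 : {f // @Cfsg.Agent.H843.Pat.dec = f} := ⟨_, by first | (delta Cfsg.Agent.H843.Pat.dec; rewrite [Cfsg.Agent.LsF.f54adc8_14.2]; exact rfl) | exact rfl⟩
theorem chkF : fixL vw lF = true := by (rewrite [show @Cfsg.Agent.H669.EP.Fi.fixL = delta% @Cfsg.Agent.H669.EP.Fi.fixL from by delta Cfsg.Agent.H669.EP.Fi.fixL; rfl, show @Cfsg.Agent.H669.EP.Fi.fix1 = delta% @Cfsg.Agent.H669.EP.Fi.fix1 from by delta Cfsg.Agent.H669.EP.Fi.fix1; rfl, Cfsg.Agent.Lib.PermNetFast.winv_fast]; ((try (rewrite [Cfsg.Agent.LsF.f54adc8_10.2, Cfsg.Agent.LsF.f54adc8_2.2, Cfsg.Agent.LsF.f54adc8_13.2, Cfsg.Agent.LsF.f54adc8_14.2, Cfsg.Agent.LsF.f54adc8_15.2, Cfsg.Agent.LsF.lappend_pat, Cfsg.Agent.LsF.reverse_eq])); decide +kernel))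

end Cfsg.Agent.H669.EP.Fi.Tw
end

-- part: H669/EP/FiTwC
section
/-! # `Fi24`, `p = 23`: kernel checks, the covering and the relations (helper669, for S4929) -/

set_option autoImplicit false
set_option maxRecDepth 100000
set_option Elab.async false
set_option linter.constructorNameAsVariable false

namespace Cfsg.Agent.H669.EP.Fi.Tw

open Cfsg.Agent.Lib.PermNet Cfsg.Agent.Lib.PermNetPt Cfsg.Agent.Fischer.Fi24RepDef Cfsg.Agent.Fischer.Fi24Rep
open Cfsg.Agent.Fischer.Fi24RepOrb (UG)
open Cfsg.Agent.KFacts.FiTF.FixMask Cfsg.Agent.H843.Pat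
open Cfsg.Spor.Fi24 (Gen)

/-- **The covering**: the points fixed by `j` -/
theorem chkC : covD (fun MP => seqB (cov ss (msk (lN.map Prod.fst ++ lF.map Prod.fst))) fun MN =>
    seqB (sv (nw [.j] false) bl UG) fun O => Nat.beq (Nat.land O (Nat.lor MP MN)) O) ss
    (msk (lP.map Prod.fst)) = true := by decide +kernel

theorem nodup : (lP.map Prod.fst).Nodup := by decide +kernel

theorem length : (lP.map Prod.fst).length = 19 := by decide

theorem cnt_ss : cnt ss = 180 := by decide

theorem fix_j : fixB (nw [.j] false) (lP.map Prod.fst) = true := by decide +kernel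

theorem cop : ∀ a ∈ lN, Nat.Coprime a.2.1 23 := by decide +kernel

theorem per : ∀ a ∈ lP, a.2.1 = 23 := by decide +kernel

theorem ne136 : ∀ a ∈ lF, a.2.2.1 ≠ 136 := by decide +kernel

/-- the element `y` -/
def yw : List Gen := [.l, .a, .k, .b]
/-- the element `c` of order 6 -/
def cw : List Gen := [.f, .d, .i, .e, .h]
/-- an element of order 3 -/
def xw : List Gen := [.f, .e, .d, .e, .f, .h]
/-- an involution inverting `v` -/
def gw : List Gen := [.l, .a, .e, .h]
/-- the involution `c ^ 3` -/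
def tw : List Gen := [.f, .d, .i, .e, .h, .f, .d, .i, .e, .h, .f, .d, .i, .e, .h]

theorem yv : chkEq (yw ++ vw) (vw ++ yw) = true := by decide +kernel
theorem cv : chkEq (cw ++ vw) (vw ++ cw) = true := by decide +kernel
theorem xv : chkEq (xw ++ vw) (vw ++ xw) = true := by (rewrite [show @Cfsg.Agent.H843.Pat.chkEq = delta% @Cfsg.Agent.H843.Pat.chkEq from by delta Cfsg.Agent.H843.Pat.chkEq; rfl, Cfsg.Agent.Lib.PermNetFast.winv_fast]; decide +kernel)
theorem gv : chkEq (gw ++ vw) (vw.reverse ++ gw) = true := by decide +kernel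
theorem jv : chkEq (([.j] : List Cfsg.Spor.Fi24.Gen) ++ vw) (vw ++ ([.j] : List Cfsg.Spor.Fi24.Gen)) = true := by decide +kernel
theorem yj : chkEq (yw ++ ([.j] : List Cfsg.Spor.Fi24.Gen)) (([.j] : List Cfsg.Spor.Fi24.Gen) ++ yw) = true := by decide +kernel
theorem cj : chkEq (cw ++ ([.j] : List Cfsg.Spor.Fi24.Gen)) (([.j] : List Cfsg.Spor.Fi24.Gen) ++ cw) = true := by decide +kernel
theorem xj : chkEq (xw ++ ([.j] : List Cfsg.Spor.Fi24.Gen)) (([.j] : List Cfsg.Spor.Fi24.Gen) ++ xw) = true := by decide +kernel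
theorem gj : chkEq (gw ++ ([.j] : List Cfsg.Spor.Fi24.Gen)) (([.j] : List Cfsg.Spor.Fi24.Gen) ++ gw) = true := by decide +kernel
theorem tt : chkEq (tw ++ tw) [] = true := by decide +kernel
theorem gg : chkEq (gw ++ gw) [] = true := by decide +kernel
theorem gt : chkEq (gw ++ tw) (tw ++ gw) = true := by decide +kernel
/-- `t i t = f` -/
theorem tft : chkEq [.f] (tw ++ (.i :: tw : List Cfsg.Spor.Fi24.Gen)) = true := by decide +kernel

theorem ss_eq : ss = [[rep 1 yw, rep 2 yw, rep 3 yw, rep 4 yw], [rep 1 cw, rep 2 cw, rep 3 cw, rep 4 cw, rep 5 cw],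
    [rep 1 xw, rep 2 xw], [rep 1 gw]] := by rfl

theorem tw_eq : tw = rep 3 cw := by rfl

end Cfsg.Agent.H669.EP.Fi.Tw
end

-- part: H669/EP/FiTwZ
section
/-!
# `Fi24`: the elements of order 23 (helper669, for S4929)

* `card_cent`, `not_real`, `uniq`, `order_of_dvd` : the centralizer of an element of order 23 has order 46 and contains
  exactly one transposition (`eq_of_invol`: exactly one involution), the elements are not real;
* `dvd_ncard_of_free` : a group acting freely on a set by conjugation.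
-/

set_option autoImplicit false

namespace Cfsg.Agent.H669.EP.Fi.Tw

open Cfsg Subgroup
open Cfsg.Agent.Fischer Cfsg.Agent.Fischer.Fi24Rep
open Cfsg.Agent.R08.FiTwentyFour (L finite_Fi24)
open Cfsg.Agent.H843 Cfsg.Agent.H843.Fi24N
open Cfsg.Spor (Fi24)
open Cfsg.Spor.Fi24 (Gen)

theorem not_sq : ¬ 23 ^ 2 ∣ Nat.card Fi24 := by
  rw [card_Fi24]
  norm_num

theorem exists_conj {z : Fi24} (hz : orderOf z = 23) :
    ∃ g : Fi24, (zpowers D23.D.x).map (MulAut.conj g).toMonoidHom = zpowers z := by
  have : Finite Fi24 := finite_Fi24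
  exact Syl.exists_conj (by norm_num) not_sq (zpowers D23.D.x) (zpowers z) (by rw [Nat.card_zpowers, D23.order])
    (by rw [Nat.card_zpowers, hz])

theorem card_cent {z : Fi24} (hz : orderOf z = 23) : Nat.card (centralizer ({z} : Set Fi24)) = 46 := by
  obtain ⟨g, hg⟩ := exists_conj hz
  rw [← Cyc.centralizer_zpowers, ← hg, H841.Transport.coe_map, ← H841.Transport.map_centralizer,
    H841.Transport.card_map, D23.main.2]

theorem card_norm {z : Fi24} (hz : orderOf z = 23) : Nat.card (normalizer (zpowers z : Set Fi24)) = 506 := by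
  obtain ⟨g, hg⟩ := exists_conj hz
  rw [← hg, ← H841.Transport.map_normalizer, H841.Transport.card_map, D23.main.1]

theorem not_real {z : Fi24} (hz : orderOf z = 23) : ¬ IsConj z z⁻¹ := by
  have : Finite Fi24 := finite_Fi24
  intro h
  obtain ⟨g, hg⟩ := isConj_iff.1 h
  have h1 : g * z * g⁻¹ = z ^ 22 := by
    rw [hg]
    refine inv_eq_of_mul_eq_one_right ?_
    have h3 := pow_orderOf_eq_one z
    rw [hz] at h3
    rw [← pow_succ', h3]
  have : Fact (Nat.Prime 2) := ⟨Nat.prime_two⟩
  have h2 := Cyc.dvd_card hz h1 (e := 2) (orderOf_eq_prime (by decide) (by decide))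
  rw [card_norm hz, Cyc.centralizer_zpowers, card_cent hz] at h2
  norm_num at h2

theorem exists_tr {z : Fi24} (hz : orderOf z = 23) : ∃ e ∈ L, e * z = z * e := by
  obtain ⟨g, hg⟩ := exists_conj hz
  have h1 : Fi24Rep.gen .l ∈ L ∩ (centralizer (zpowers D23.D.x : Set Fi24) : Set Fi24) := by
    rw [D23.inter]; rfl
  refine ⟨g * Fi24Rep.gen .l * g⁻¹, Cfsg.Agent.R08.FiTwentyFour.conj h1.1 g, ?_⟩
  have h2 : g * Fi24Rep.gen .l * g⁻¹ ∈ centralizer (zpowers z : Set Fi24) := by
    rw [← hg, H841.Transport.coe_map, ← H841.Transport.map_centralizer]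
    exact ⟨Fi24Rep.gen .l, h1.2, rfl⟩
  exact Cyc.mem_centralizer_zpowers.1 h2

theorem uniq {z : Fi24} (hz : orderOf z = 23) {e f : Fi24} (he : e ∈ L) (hf : f ∈ L) (h1 : e * z = z * e)
    (h2 : f * z = z * f) : e = f := by
  obtain ⟨g, hg⟩ := exists_conj hz
  have key : ∀ e ∈ L, e * z = z * e → g⁻¹ * e * g = Fi24Rep.gen .l := by
    intro e he h1
    have h2 : e ∈ centralizer (zpowers z : Set Fi24) := Cyc.mem_centralizer_zpowers.2 h1
    rw [← hg, H841.Transport.coe_map, ← H841.Transport.map_centralizer] at h2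
    obtain ⟨c, hc, hce⟩ := h2
    have h3 : g * c * g⁻¹ = e := hce
    have h4 : g⁻¹ * e * g = c := by
      rw [← h3]
      group
    have h5 : c ∈ L := by
      rw [← h4]
      have h6 := Cfsg.Agent.R08.FiTwentyFour.conj he g⁻¹
      rwa [inv_inv] at h6
    have h6 : c ∈ L ∩ (centralizer (zpowers D23.D.x : Set Fi24) : Set Fi24) := ⟨h5, hc⟩
    rw [D23.inter] at h6
    rw [h4]
    exact h6
  have h3 := (key e he h1).trans (key f hf h2).symm
  calc e = g * (g⁻¹ * e * g) * g⁻¹ := by group
    _ = g * (g⁻¹ * f * g) * g⁻¹ := by rw [h3]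
    _ = f := by group

/-- the order of an element of even sign divisible by 23 -/
theorem order_of_dvd {u : Fi24} (hu : u ∈ commutator Fi24) (h : 23 ∣ orderOf u) : orderOf u = 23 := by
  have : Finite Fi24 := finite_Fi24
  obtain ⟨m, hm⟩ := h
  have h0 : 0 < orderOf u := orderOf_pos u
  have hm0 : m ≠ 0 := by
    rintro rfl
    omega
  have hz : orderOf (u ^ m) = 23 := by
    rw [orderOf_pow_of_dvd hm0 ⟨23, by rw [hm, mul_comm]⟩, hm, Nat.mul_div_cancel _ (Nat.pos_of_ne_zero hm0)]
  obtain ⟨e, he, hez⟩ := exists_tr hz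
  have h1 := half (H := centralizer ({u ^ m} : Set Fi24)) (mem_centralizer_singleton_iff.2 hez) he
  rw [card_cent hz] at h1
  have h2 : u ∈ (commutator Fi24 ⊓ centralizer ({u ^ m} : Set Fi24) : Subgroup Fi24) :=
    ⟨hu, mem_centralizer_singleton_iff.2 (Commute.self_pow u m)⟩
  have h3 := Subgroup.orderOf_dvd_natCard _ h2
  have h4 : Nat.card (commutator Fi24 ⊓ centralizer ({u ^ m} : Set Fi24) : Subgroup Fi24) = 23 := by omega
  rw [h4] at h3
  exact Nat.dvd_antisymm h3 ⟨m, hm⟩

/-- the only involution -/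
theorem eq_of_invol {z e t : Fi24} (hz : orderOf z = 23) (he : e ∈ L) (h1 : e * z = z * e) (ht : orderOf t = 2)
    (h2 : t * z = z * t) : t = e := by
  have : Finite Fi24 := finite_Fi24
  have hle : zpowers z ≤ centralizer ({z} : Set Fi24) := zpowers_le.2 (mem_centralizer_singleton_iff.2 rfl)
  have h3 : ((zpowers z).subgroupOf (centralizer ({z} : Set Fi24))).index = 2 := by
    have h4 := Subgroup.card_mul_index ((zpowers z).subgroupOf (centralizer ({z} : Set Fi24)))
    have h5 : Nat.card ((zpowers z).subgroupOf (centralizer ({z} : Set Fi24))) = 23 := by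
      rw [Nat.card_congr (Subgroup.subgroupOfEquivOfLe hle).toEquiv, Nat.card_zpowers, hz]
    rw [card_cent hz, h5] at h4
    omega
  have key : ∀ s : Fi24, orderOf s = 2 → s ∉ zpowers z := by
    intro s hs hs'
    have h4 := Subgroup.orderOf_dvd_natCard _ hs'
    rw [Nat.card_zpowers, hz, hs] at h4
    norm_num at h4
  have he2 : orderOf e = 2 := by
    have : Fact (Nat.Prime 2) := ⟨Nat.prime_two⟩
    refine orderOf_eq_prime ?_ (Cfsg.Agent.R08.FiTwentyFour.ne_one_L he)
    rw [pow_two]
    exact Cfsg.Agent.R08.FiTwentyFour.sq he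
  have hC1 : t ∈ centralizer ({z} : Set Fi24) := mem_centralizer_singleton_iff.2 h2
  have hC2 : e ∈ centralizer ({z} : Set Fi24) := mem_centralizer_singleton_iff.2 h1
  have h5 : (⟨t, hC1⟩ * ⟨e, hC2⟩ : centralizer ({z} : Set Fi24)) ∈
      (zpowers z).subgroupOf (centralizer ({z} : Set Fi24)) := by
    rw [Subgroup.mul_mem_iff_of_index_two h3]
    have h6 : (⟨t, hC1⟩ : centralizer ({z} : Set Fi24)) ∉ (zpowers z).subgroupOf (centralizer ({z} : Set Fi24)) :=
      fun h => key t ht (mem_subgroupOf.1 h)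
    have h7 : (⟨e, hC2⟩ : centralizer ({z} : Set Fi24)) ∉ (zpowers z).subgroupOf (centralizer ({z} : Set Fi24)) :=
      fun h => key e he2 (mem_subgroupOf.1 h)
    exact ⟨fun h => absurd h h6, fun h => absurd h h7⟩
  have h6 : t * e ∈ zpowers z := mem_subgroupOf.1 h5
  obtain ⟨n, hn⟩ := h6
  have hn' : z ^ n = t * e := hn
  have hc : Commute e (z ^ n) := (show Commute e z from h1).zpow_right n
  have h7 : t = z ^ n * e := by
    rw [hn', mul_assoc, Cfsg.Agent.R08.FiTwentyFour.sq he, mul_one]
  have h8 : t * t = z ^ n * z ^ n := by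
    calc t * t = z ^ n * e * (z ^ n * e) := by rw [← h7]
      _ = z ^ n * (e * z ^ n) * e := by group
      _ = z ^ n * z ^ n * (e * e) := by rw [hc.eq]; group
      _ = z ^ n * z ^ n := by rw [Cfsg.Agent.R08.FiTwentyFour.sq he, mul_one]
  have h9 : z ^ n * z ^ n = 1 := by
    rw [← h8, ← pow_two, ← ht, pow_orderOf_eq_one]
  have h10 : orderOf (z ^ n) ∣ 2 := orderOf_dvd_of_pow_eq_one (by rw [pow_two, h9])
  have h11 : orderOf (z ^ n) ∣ 23 := by
    have h12 := Subgroup.orderOf_dvd_natCard (zpowers z) (⟨n, rfl⟩ : z ^ n ∈ zpowers z)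
    rwa [Nat.card_zpowers, hz] at h12
  have h12 : orderOf (z ^ n) = 1 := Nat.eq_one_of_dvd_coprimes (by norm_num : Nat.Coprime 2 23) h10 h11
  rw [h7, orderOf_eq_one_iff.1 h12, one_mul]

/-! ### Free actions -/

/-- **A group acting freely on a set by conjugation.** -/
theorem dvd_ncard_of_free {E G : Type*} [Group E] [Finite E] [Group G] [Finite G] (φ : E →* G) (X : Set G)
    (hX : ∀ a, ∀ x ∈ X, φ a * x * (φ a)⁻¹ ∈ X) (hf : ∀ a, ∀ x ∈ X, φ a * x * (φ a)⁻¹ = x → a = 1) :
    Nat.card E ∣ X.ncard := by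
  classical
  let act : MulAction E X :=
    { smul := fun a x => ⟨φ a * x * (φ a)⁻¹, hX a x x.2⟩
      one_smul := fun x => Subtype.ext (by
        show φ 1 * (x : G) * (φ 1)⁻¹ = x
        rw [map_one, one_mul, inv_one, mul_one])
      mul_smul := fun a b x => Subtype.ext (by
        show φ (a * b) * (x : G) * (φ (a * b))⁻¹ = φ a * (φ b * x * (φ b)⁻¹) * (φ a)⁻¹
        rw [map_mul]
        group) }
  have h1 : ∀ x : X, MulAction.stabilizer E x = ⊥ := by
    intro x
    rw [eq_bot_iff]
    intro a ha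
    exact hf a x x.2 (congrArg Subtype.val (MulAction.mem_stabilizer_iff.1 ha))
  have h2 := Nat.card_congr (MulAction.selfEquivSigmaOrbitsQuotientStabilizer E X)
  have h3 : Nat.card X = X.ncard := rfl
  have := Fintype.ofFinite (Quotient (MulAction.orbitRel E X))
  rw [← h3, h2, Nat.card_sigma]
  refine Finset.dvd_sum fun ω _ => ?_
  rw [h1, ← Subgroup.index, Subgroup.index_bot]

end Cfsg.Agent.H669.EP.Fi.Tw
end

-- part: H669/EP/FiTw
section
/-!
# `Fi24`, `p = 23`: the count (helper669, for S4929)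

`count` : the number of the transpositions `e` with `orderOf (e * v) = 23` is `4` modulo `8`.
-/

set_option autoImplicit false
set_option linter.constructorNameAsVariable false

namespace Cfsg.Agent.H669.EP.Fi

open Cfsg Subgroup
open Cfsg.Agent.Lib.PermNet Cfsg.Agent.Lib.PermNetPt Cfsg.Agent.Fischer.Fi24RepDef Cfsg.Agent.Fischer.Fi24Rep
open Cfsg.Agent.Fischer.Fi24RepOrb (UG)
open Cfsg.Agent.Fischer.Fi24Spider (word_append word_cons word_nil)
open Cfsg.Agent.R08.FiTwentyFour (L finite_Fi24)
open Cfsg.Agent.KFacts.FiTF.Pts Cfsg.Agent.KFacts.FiTF.FixMask Cfsg.Agent.H843.Pat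
open Cfsg.Spor (Fi24)
open Cfsg.Spor.Fi24 (Gen)

theorem mem_L_iff (t e : Fi24) : t * e * t⁻¹ ∈ L ↔ e ∈ L := by
  constructor
  · intro h
    have h1 := Cfsg.Agent.R08.FiTwentyFour.conj h t⁻¹
    have h2 : t⁻¹ * (t * e * t⁻¹) * t⁻¹⁻¹ = e := by group
    rwa [h2] at h1
  · intro h
    exact Cfsg.Agent.R08.FiTwentyFour.conj h t

theorem ord_of_comm {G : Type*} [Group G] {t v : G} (h : t * v = v * t) (e : G) :
    orderOf (t * e * t⁻¹ * v) = orderOf (e * v) := by
  have h1 : t * e * t⁻¹ * v = t * (e * v) * t⁻¹ := by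
    have h2 : t⁻¹ * v = v * t⁻¹ := ((show Commute t v from h).inv_left).eq
    calc t * e * t⁻¹ * v = t * e * (t⁻¹ * v) := by group
      _ = t * e * (v * t⁻¹) := by rw [h2]
      _ = t * (e * v) * t⁻¹ := by group
  rw [h1]
  exact (MulAut.conj t).orderOf_eq (e * v)

theorem ord_of_inv {G : Type*} [Group G] {t v e : G} (h : t * v * t⁻¹ = v⁻¹) (he : e * e = 1) :
    orderOf (t * e * t⁻¹ * v) = orderOf (e * v) := by
  have hv : t⁻¹ * v * t = v⁻¹ := by
    have h2 : t * v⁻¹ * t⁻¹ = v := by
      calc t * v⁻¹ * t⁻¹ = (t * v * t⁻¹)⁻¹ := by group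
        _ = v := by rw [h, inv_inv]
    calc t⁻¹ * v * t = t⁻¹ * (t * v⁻¹ * t⁻¹) * t := by rw [h2]
      _ = v⁻¹ := by group
  have h1 : t * e * t⁻¹ * v = t * (e * v⁻¹) * t⁻¹ := by
    calc t * e * t⁻¹ * v = t * e * (t⁻¹ * v * t) * t⁻¹ := by group
      _ = t * (e * v⁻¹) * t⁻¹ := by rw [hv]; group
  have h3 : orderOf (t * (e * v⁻¹) * t⁻¹) = orderOf (e * v⁻¹) := (MulAut.conj t).orderOf_eq (e * v⁻¹)
  have h4 : (e * v⁻¹)⁻¹ = e * (e * v) * e⁻¹ := by
    rw [← mul_assoc, he, one_mul, mul_inv_rev, inv_inv]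
  have h5 : orderOf (e * (e * v) * e⁻¹) = orderOf (e * v) := (MulAut.conj e).orderOf_eq (e * v)
  rw [h1, h3, ← orderOf_inv, h4, h5]

/-- the stabilizer of a set under conjugation -/
def stabS (S : Set Fi24) : Subgroup Fi24 where
  carrier := {t | ∀ e, t * e * t⁻¹ ∈ S ↔ e ∈ S}
  one_mem' := by
    intro e
    rw [one_mul, inv_one, mul_one]
  mul_mem' := by
    intro a b ha hb e
    have h1 : a * b * e * (a * b)⁻¹ = a * (b * e * b⁻¹) * a⁻¹ := by group
    rw [h1, ha, hb]
  inv_mem' := by
    intro a ha e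
    have h1 := ha (a⁻¹ * e * a⁻¹⁻¹)
    have h2 : a * (a⁻¹ * e * a⁻¹⁻¹) * a⁻¹ = e := by group
    rw [h2] at h1
    exact h1.symm

theorem mem_stabS {S : Set Fi24} {t : Fi24} : t ∈ stabS S ↔ ∀ e, t * e * t⁻¹ ∈ S ↔ e ∈ S := Iff.rfl

theorem comm_conj {G : Type*} [Group G] {t j : G} (h : t * j = j * t) (e : G) :
    t * e * t⁻¹ * j = j * (t * e * t⁻¹) ↔ e * j = j * e := by
  have h2 : t⁻¹ * j = j * t⁻¹ := ((show Commute t j from h).inv_left).eq
  have h3 : t * e * t⁻¹ * j = t * (e * j) * t⁻¹ := by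
    calc t * e * t⁻¹ * j = t * e * (t⁻¹ * j) := by group
      _ = t * e * (j * t⁻¹) := by rw [h2]
      _ = t * (e * j) * t⁻¹ := by group
  have h4 : j * (t * e * t⁻¹) = t * (j * e) * t⁻¹ := by
    calc j * (t * e * t⁻¹) = (j * t) * e * t⁻¹ := by group
      _ = (t * j) * e * t⁻¹ := by rw [h]
      _ = t * (j * e) * t⁻¹ := by group
  rw [h3, h4]
  constructor
  · intro h5
    exact mul_left_cancel (mul_right_cancel h5)
  · intro h5
    rw [h5]

/-- the points of a covering -/
theorem exists_conj_pt {S : Set Fi24} {ss : List (List (List Gen))} (hN : ∀ s ∈ ss, ∀ w ∈ s, word w ∈ stabS S)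
    {l : List ℕ} {e : Fi24} {p : ℕ} (hp : IsPt e p) (h : p ∈ bits (cov ss (msk l))) :
    ∃ t : Fi24, rho t p ∈ l ∧ IsPt (t * e * t⁻¹) (rho t p) ∧ (t * e * t⁻¹ ∈ S ↔ e ∈ S) := by
  obtain ⟨t, ht, h1⟩ := cov_spec ss (msk l) p h
  exact ⟨t, (testBit_msk l _).1 h1, hp.conj t, mem_stabS.1 (TL_mem hN t ht) e⟩

namespace Tw

theorem word_j : word [.j] = gen .j := by
  rw [word_cons, word_nil, mul_one]

/-- the transpositions `e` commuting with `j`, `orderOf (e * v) = 23` -/
def SJ : Set Fi24 := {e | e ∈ L ∧ e * gen .j = gen .j * e ∧ orderOf (e * word vw) = 23}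

theorem comm_of {a b : List Gen} (h : chkEq (a ++ b) (b ++ a) = true) : word a * word b = word b * word a := by
  have h1 := word_eq_of h
  rwa [word_append, word_append] at h1

theorem inv_v : word gw * word vw * (word gw)⁻¹ = (word vw)⁻¹ := by
  have h1 := word_eq_of gv
  rw [word_append, word_append, word_reverse] at h1
  rw [h1, mul_inv_cancel_right]

theorem mul_comm_of {G : Type*} [Group G] {x v j : G} (h : x * j = j * x) (h' : j * v = v * j) :
    j * (x * v) = x * v * j := by
  rw [← mul_assoc, ← h, mul_assoc, h', mul_assoc]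

theorem jv' : gen .j * word vw = word vw * gen .j := by
  have h := comm_of jv
  rwa [word_j] at h

theorem mem_stab_comm {t : Fi24} (h1 : t * gen .j = gen .j * t) (h2 : t * word vw = word vw * t) : t ∈ stabS SJ := by
  intro e
  show (t * e * t⁻¹ ∈ L ∧ t * e * t⁻¹ * gen .j = gen .j * (t * e * t⁻¹) ∧ orderOf (t * e * t⁻¹ * word vw) = 23) ↔
    (e ∈ L ∧ e * gen .j = gen .j * e ∧ orderOf (e * word vw) = 23)
  rw [mem_L_iff, comm_conj h1, ord_of_comm h2]

theorem mem_stab_inv {t : Fi24} (h1 : t * gen .j = gen .j * t) (h2 : t * word vw * t⁻¹ = (word vw)⁻¹) :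
    t ∈ stabS SJ := by
  intro e
  show (t * e * t⁻¹ ∈ L ∧ t * e * t⁻¹ * gen .j = gen .j * (t * e * t⁻¹) ∧ orderOf (t * e * t⁻¹ * word vw) = 23) ↔
    (e ∈ L ∧ e * gen .j = gen .j * e ∧ orderOf (e * word vw) = 23)
  rw [mem_L_iff, comm_conj h1]
  refine and_congr_right fun he => ?_
  rw [ord_of_inv h2 (Cfsg.Agent.R08.FiTwentyFour.sq he)]

theorem stab : ∀ s ∈ ss, ∀ w ∈ s, word w ∈ stabS SJ := by
  have hy : word yw ∈ stabS SJ := mem_stab_comm (by have h := comm_of yj; rwa [word_j] at h) (comm_of yv)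
  have hc : word cw ∈ stabS SJ := mem_stab_comm (by have h := comm_of cj; rwa [word_j] at h) (comm_of cv)
  have hx : word xw ∈ stabS SJ := mem_stab_comm (by have h := comm_of xj; rwa [word_j] at h) (comm_of xv)
  have hg : word gw ∈ stabS SJ := mem_stab_inv (by have h := comm_of gj; rwa [word_j] at h) inv_v
  intro s hs w hw
  rw [ss_eq] at hs
  simp only [List.mem_cons, List.not_mem_nil, or_false] at hs
  rcases hs with rfl | rfl | rfl | rfl <;>
    simp only [List.mem_cons, List.not_mem_nil, or_false] at hw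
  · rcases hw with rfl | rfl | rfl | rfl <;> (rw [word_rep]; exact Subgroup.pow_mem _ hy _)
  · rcases hw with rfl | rfl | rfl | rfl | rfl <;> (rw [word_rep]; exact Subgroup.pow_mem _ hc _)
  · rcases hw with rfl | rfl <;> (rw [word_rep]; exact Subgroup.pow_mem _ hx _)
  · subst hw
    rw [word_rep]
    exact Subgroup.pow_mem _ hg _

/-- products of an even number of generators -/
theorem even_word : ∀ l : List Gen, Even l.length → word l ∈ _root_.commutator Fi24
  | [], _ => by rw [word_nil]; exact Subgroup.one_mem _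
  | [_], h => absurd h (by simp)
  | a :: b :: l, h => by
    rw [word_cons, word_cons, ← mul_assoc]
    refine Subgroup.mul_mem _ (Cfsg.Agent.R08.FiTwentyFour.even (Cfsg.Agent.R08.FiTwentyFour.gen_mem_L a)
      (Cfsg.Agent.R08.FiTwentyFour.gen_mem_L b)) (even_word l ?_)
    rw [List.length_cons, List.length_cons, add_assoc, Nat.even_add] at h
    exact h.2 (by decide)

/-- the products of a transposition and a word of odd length -/
theorem odd_word {e : Fi24} (he : e ∈ L) (a : Gen) (l : List Gen) (h : Even l.length) :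
    e * word (a :: l) ∈ _root_.commutator Fi24 := by
  rw [word_cons, ← mul_assoc]
  exact Subgroup.mul_mem _ (Cfsg.Agent.R08.FiTwentyFour.even he (Cfsg.Agent.R08.FiTwentyFour.gen_mem_L a))
    (even_word l h)

theorem mul_v_mem {e : Fi24} (he : e ∈ L) : e * word vw ∈ _root_.commutator Fi24 :=
  odd_word he .f _ (by decide)

/-- the set of points -/
theorem mem_iff {e : Fi24} {p : ℕ} (hp : IsPt e p) : e ∈ SJ ↔ p ∈ bits (cov ss (msk (lP.map Prod.fst))) := by
  constructor
  · intro he
    have hj : rho (word [.j]) p = p := by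
      rw [word_j]
      exact (com hp _).1 he.2.1.symm
    have h1 := (covD_spec chkC).1
    rw [seqB_eq, seqB_eq] at h1
    have h2 := Nat.eq_of_beq_eq_true h1
    have h3 : p ∈ bits (sv (nw [.j] false) bl UG) :=
      sv_spec (wok [.j] false) bl (bit hp) (by rw [← rho_word]; exact hj)
    rw [← h2] at h3
    have h4 := (show _ ∧ _ by
      have h5 : (Nat.land (sv (nw [.j] false) bl UG) (Nat.lor (cov ss (msk (lP.map Prod.fst)))
        (cov ss (msk (lN.map Prod.fst ++ lF.map Prod.fst))))).testBit p = true := h3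
      rw [show ∀ a b, Nat.land a b = a &&& b from fun _ _ => rfl, Nat.testBit_and, Bool.and_eq_true] at h5
      exact h5)
    have h5 := h4.2
    rw [show ∀ a b, Nat.lor a b = a ||| b from fun _ _ => rfl, Nat.testBit_or, Bool.or_eq_true] at h5
    rcases h5 with h5 | h5
    · exact h5
    · exfalso
      obtain ⟨t, ht, h6, h7⟩ := exists_conj_pt stab hp h5
      obtain ⟨h8, h9, h10⟩ := h7.2 he
      rcases List.mem_append.1 ht with ht | ht
      · obtain ⟨a, ha, hat⟩ := List.mem_map.1 ht
        obtain ⟨d, hd, hd1, hd2⟩ := cycL_spec chkN a ha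
        rw [hat] at hd
        have hde : d = t * e * t⁻¹ := hd.inj h6
        rw [hde] at hd1 hd2
        have h11 := pow_orderOf_eq_one (t * e * t⁻¹ * word vw)
        rw [h10] at h11
        exact not_coprime hd1 hd2 h11 (cop a ha)
      · obtain ⟨a, ha, hat⟩ := List.mem_map.1 ht
        obtain ⟨d, hd, hd1, f, hf⟩ := fixL_spec chkF a ha
        rw [hat] at hd
        have hde : d = t * e * t⁻¹ := hd.inj h6
        rw [hde] at hd1
        have h11 : f * (t * e * t⁻¹ * word vw) = t * e * t⁻¹ * word vw * f := ((com hf _).2 hd1).symm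
        have h12 : gen .j * (t * e * t⁻¹ * word vw) = t * e * t⁻¹ * word vw * gen .j := mul_comm_of h9 jv'
        have h13 := uniq h10 hf.mem (Cfsg.Agent.R08.FiTwentyFour.gen_mem_L .j) h11 h12
        rw [h13] at hf
        exact ne136 a ha (hf.uniq (isPt_gen .j))
  · intro h
    obtain ⟨t, ht, h6, h7⟩ := exists_conj_pt stab hp h
    rw [← h7]
    obtain ⟨a, ha, hat⟩ := List.mem_map.1 ht
    obtain ⟨d, hd, hd1, hd2⟩ := cycL_spec chkP a ha
    rw [hat] at hd
    have hde : d = t * e * t⁻¹ := hd.inj h6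
    rw [hde] at hd1 hd2
    refine ⟨h6.mem, ?_, ?_⟩
    · have h8 := fixB_spec fix_j _ ht
      rw [word_j] at h8
      exact ((com h6 _).2 h8).symm
    · rw [per a ha] at hd1
      exact order_of_dvd (mul_v_mem h6.mem) (dvd_of_cycle (by norm_num) hd1 hd2)

theorem ncard_SJ : SJ.ncard = 3420 := by
  rw [ncard_eq (S := SJ) (T := bits (cov ss (msk (lP.map Prod.fst)))) (fun e he => he.1)
    (fun e p hp => mem_iff hp) ?_]
  · rw [(covD_spec chkC).2, bits_msk nodup, length, cnt_ss]
  · intro p hp
    obtain ⟨t, -, h1⟩ := cov_spec ss _ p hp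
    rw [testBit_msk] at h1
    obtain ⟨a, ha, hat⟩ := List.mem_map.1 h1
    obtain ⟨d, hd, -⟩ := cycL_spec chkP a ha
    rw [hat] at hd
    refine ⟨t⁻¹ * d * t⁻¹⁻¹, ?_⟩
    have h2 := hd.conj t⁻¹
    rwa [← Equiv.Perm.mul_apply, ← map_mul, inv_mul_cancel, map_one, Equiv.Perm.one_apply] at h2

end Tw

end Cfsg.Agent.H669.EP.Fi
end

-- part: H669/EP/FiTwE
section
/-!
# `Fi24'`, `p = 23`: the principal block contains a character of even degree (helper669, for S4929)
-/

set_option autoImplicit false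
set_option maxRecDepth 100000
set_option linter.constructorNameAsVariable false

namespace Cfsg.Agent.H669.EP.Fi

open Cfsg Subgroup
open Cfsg.Agent.Lib.PermNet Cfsg.Agent.Lib.PermNetPt Cfsg.Agent.Fischer.Fi24RepDef Cfsg.Agent.Fischer.Fi24Rep
open Cfsg.Agent.Fischer.Fi24Spider (word_append word_cons word_nil)
open Cfsg.Agent.R08.FiTwentyFour (L finite_Fi24)
open Cfsg.Agent.KFacts.FiTF.Pts Cfsg.Agent.KFacts.FiTF.FixMask Cfsg.Agent.H843.Pat
open Cfsg.Spor (Fi24)
open Cfsg.Spor.Fi24 (Gen)

theorem index_cent {G : Type*} [Group G] [Finite G] (g : G) :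
    (centralizer ({g} : Set G)).index = (conjugatesOf g).ncard := by
  rw [Subgroup.centralizer_eq_comap_stabilizer]
  refine (Subgroup.index_comap_of_surjective (MulAction.stabilizer (ConjAct G) g)
    (f := (ConjAct.toConjAct (G := G)).toMonoidHom) (MulEquiv.surjective _)).trans ?_
  rw [MulAction.index_stabilizer, ConjAct.orbit_eq_carrier_conjClasses]
  rfl

theorem dvd_index : 2 ^ 3 ∣ (centralizer ({gen .l} : Set Fi24)).index := by
  have : Finite Fi24 := finite_Fi24
  rw [index_cent]
  have h := Cfsg.Agent.R08.FiTwentyFour.ncard_L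
  change (conjugatesOf (gen .l)).ncard = _ at h
  rw [h]
  norm_num

/-! ### Three commuting involutions -/

theorem mem_zpowers_invol {G : Type*} [Group G] {a x : G} (ha : a * a = 1) (hx : x ∈ zpowers a) : x = 1 ∨ x = a := by
  obtain ⟨n, rfl⟩ := hx
  have h2 : a ^ (2 : ℤ) = 1 := by
    rw [show (2 : ℤ) = ((2 : ℕ) : ℤ) from rfl, zpow_natCast, pow_two, ha]
  rcases Int.even_or_odd' n with ⟨k, rfl | rfl⟩
  · left
    show a ^ (2 * k) = 1
    rw [zpow_mul, h2, one_zpow]
  · right
    show a ^ (2 * k + 1) = a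
    rw [zpow_add, zpow_mul, h2, one_zpow, one_mul, zpow_one]

theorem card_zpowers_invol {G : Type*} [Group G] {a : G} (ha : a * a = 1) (h1 : a ≠ 1) :
    Nat.card (zpowers a) = 2 := by
  have : Fact (Nat.Prime 2) := ⟨Nat.prime_two⟩
  rw [Nat.card_zpowers]
  exact orderOf_eq_prime (by rw [pow_two, ha]) h1

/-- three commuting involutions generating a group acting freely -/
theorem eight_dvd {G : Type*} [Group G] [Finite G] {a b c : G} (ha : a * a = 1) (hb : b * b = 1) (hc : c * c = 1)
    (ha1 : a ≠ 1) (hb1 : b ≠ 1) (hc1 : c ≠ 1) (hab : a * b = b * a) (hac : a * c = c * a) (hbc : b * c = c * b)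
    (X : Set G) (hXa : ∀ x ∈ X, a * x * a⁻¹ ∈ X) (hXb : ∀ x ∈ X, b * x * b⁻¹ ∈ X) (hXc : ∀ x ∈ X, c * x * c⁻¹ ∈ X)
    (hf : ∀ x ∈ X, ∀ s, s * x * s⁻¹ = x → s ≠ a ∧ s ≠ b ∧ s ≠ a * b ∧ s ≠ c ∧ s ≠ a * c ∧ s ≠ b * c ∧
      s ≠ a * (b * c)) : 8 ∣ X.ncard := by
  have h1 : ∀ (m : zpowers b) (n : zpowers c), Commute ((zpowers b).subtype m) ((zpowers c).subtype n) := by
    rintro ⟨m, hm⟩ ⟨n, hn⟩
    show Commute m n
    obtain ⟨i, rfl⟩ := hm
    obtain ⟨k, rfl⟩ := hn
    exact (show Commute b c from hbc).zpow_zpow i k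
  have h2 : ∀ (m : zpowers a) (n : zpowers b × zpowers c), Commute ((zpowers a).subtype m)
      (MonoidHom.noncommCoprod (zpowers b).subtype (zpowers c).subtype h1 n) := by
    rintro ⟨m, hm⟩ ⟨⟨n, hn⟩, ⟨k, hk⟩⟩
    show Commute m (n * k)
    obtain ⟨i, rfl⟩ := hm
    obtain ⟨i', rfl⟩ := hn
    obtain ⟨i'', rfl⟩ := hk
    exact ((show Commute a b from hab).zpow_zpow i i').mul_right ((show Commute a c from hac).zpow_zpow i i'')
  have h3 := Tw.dvd_ncard_of_free (E := zpowers a × zpowers b × zpowers c)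
    (MonoidHom.noncommCoprod (zpowers a).subtype (MonoidHom.noncommCoprod (zpowers b).subtype
      (zpowers c).subtype h1) h2) X ?_ ?_
  · rw [Nat.card_prod, Nat.card_prod, card_zpowers_invol ha ha1, card_zpowers_invol hb hb1,
      card_zpowers_invol hc hc1] at h3
    exact h3
  · rintro ⟨⟨m, hm⟩, ⟨n, hn⟩, ⟨k, hk⟩⟩ x hx
    show (m * (n * k)) * x * (m * (n * k))⁻¹ ∈ X
    have e : (m * (n * k)) * x * (m * (n * k))⁻¹ = m * (n * (k * x * k⁻¹) * n⁻¹) * m⁻¹ := by group
    rw [e]
    have hk' : k * x * k⁻¹ ∈ X := by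
      rcases mem_zpowers_invol hc hk with rfl | rfl
      · simpa using hx
      · exact hXc _ hx
    have hn' : n * (k * x * k⁻¹) * n⁻¹ ∈ X := by
      rcases mem_zpowers_invol hb hn with rfl | rfl
      · simpa using hk'
      · exact hXb _ hk'
    rcases mem_zpowers_invol ha hm with rfl | rfl
    · simpa using hn'
    · exact hXa _ hn'
  · rintro ⟨⟨m, hm⟩, ⟨n, hn⟩, ⟨k, hk⟩⟩ x hx hs
    have hs' : (m * (n * k)) * x * (m * (n * k))⁻¹ = x := hs
    obtain ⟨q1, q2, q3, q4, q5, q6, q7⟩ := hf x hx _ hs'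
    have key : m = 1 ∧ n = 1 ∧ k = 1 := by
      rcases mem_zpowers_invol ha hm with rfl | rfl <;> rcases mem_zpowers_invol hb hn with rfl | rfl <;>
        rcases mem_zpowers_invol hc hk with rfl | rfl
      · exact ⟨rfl, rfl, rfl⟩
      · exact absurd (by group) q4
      · exact absurd (by group) q2
      · exact absurd (by group) q6
      · exact absurd (by group) q1
      · exact absurd (by group) q5
      · exact absurd (by group) q3
      · exact absurd (by group) q7
    obtain ⟨rfl, rfl, rfl⟩ := key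
    rfl

namespace Tw

/-- the transpositions `e` not commuting with `j`, `orderOf (e * v) = 23` -/
def XJ : Set Fi24 := {e | e ∈ L ∧ ¬ e * gen .j = gen .j * e ∧ orderOf (e * word vw) = 23}

theorem tt' : word tw * word tw = 1 := by
  have h := word_eq_of tt
  rwa [word_append, word_nil] at h

theorem gg' : word gw * word gw = 1 := by
  have h := word_eq_of gg
  rwa [word_append, word_nil] at h

theorem jj : gen .j * gen .j = 1 := Cfsg.Agent.R08.FiTwentyFour.sq (Cfsg.Agent.R08.FiTwentyFour.gen_mem_L .j)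

theorem tv : word tw * word vw = word vw * word tw := by
  rw [tw_eq, word_rep]
  exact (show Commute (word cw) (word vw) from comm_of cv).pow_left 3

theorem tj : word tw * gen .j = gen .j * word tw := by
  have h := comm_of cj
  rw [word_j] at h
  rw [tw_eq, word_rep]
  exact (show Commute (word cw) (gen .j) from h).pow_left 3

theorem gj' : word gw * gen .j = gen .j * word gw := by
  have h := comm_of gj
  rwa [word_j] at h

theorem i_ne_f : gen .i ≠ gen .f := by
  intro h
  have h1 := (isPt_gen .f)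
  rw [← h] at h1
  exact absurd ((isPt_gen .i).uniq h1) (by decide)

theorem fi : chkEq [.f, .i] [.i, .f] = true := by decide +kernel

theorem gw_moved : Nat.beq (winv (nw gw false) (pn .d)) (pn .d) = false := by decide +kernel

theorem gw_ne_one : word gw ≠ 1 := by
  intro h
  have h1 := gw_moved
  rw [winv_word, h, inv_one, map_one, Equiv.Perm.one_apply, Nat.beq_refl] at h1
  exact absurd h1 (by simp)

/-- `t` is not a transposition -/
theorem t_not_mem : word tw ∉ L := by
  intro h
  have h1 := word_eq_of tft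
  rw [word_append, word_cons, word_cons, word_nil, mul_one] at h1
  rcases Cfsg.Agent.R08.FiTwentyFour.three h (Cfsg.Agent.R08.FiTwentyFour.gen_mem_L .i) with h2 | h2
  · apply i_ne_f
    have h3 : word tw * gen .i = gen .i * word tw := h2.eq
    rw [h1, ← mul_assoc, h3, mul_assoc, tt', mul_one]
  · -- `f = i t i`, `f` and `i` commute
    have h2' : word tw * gen .i * word tw = gen .i * word tw * gen .i := h2
    have h3 : gen .f = gen .i * word tw * gen .i := by rw [h1, ← mul_assoc, h2']
    have hfi : gen .f * gen .i = gen .i * gen .f := by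
      have h4 : word [.f, .i] = word [.i, .f] := word_eq_of fi
      rwa [word_cons, word_cons, word_nil, mul_one, word_cons, word_cons, word_nil, mul_one] at h4
    have hii : gen .i * gen .i = 1 := Cfsg.Agent.R08.FiTwentyFour.sq (Cfsg.Agent.R08.FiTwentyFour.gen_mem_L .i)
    have h5 : word tw = gen .f := by
      calc word tw = gen .i * (gen .i * word tw * gen .i) * gen .i := by
            rw [show gen .i * (gen .i * word tw * gen .i) * gen .i = (gen .i * gen .i) * word tw * (gen .i * gen .i) by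
              group, hii, one_mul, mul_one]
        _ = gen .i * gen .f * gen .i := by rw [← h3]
        _ = gen .f := by rw [← hfi, mul_assoc, hii, mul_one]
    have hff : gen .f * gen .f = 1 := Cfsg.Agent.R08.FiTwentyFour.sq (Cfsg.Agent.R08.FiTwentyFour.gen_mem_L .f)
    apply i_ne_f
    rw [h5] at h1
    rw [h1, ← mul_assoc, hfi, mul_assoc, hff, mul_one]

theorem t_ne_one : word tw ≠ 1 := by
  intro h
  have h1 := word_eq_of tft
  rw [word_append, word_cons, word_cons, word_nil, mul_one, h, one_mul, mul_one] at h1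
  exact i_ne_f h1.symm

theorem order_invol {G : Type*} [Group G] {a : G} (ha : a * a = 1) (h1 : a ≠ 1) : orderOf a = 2 := by
  have : Fact (Nat.Prime 2) := ⟨Nat.prime_two⟩
  exact orderOf_eq_prime (by rw [pow_two, ha]) h1

/-- an involution centralizing `v` and `e`, `orderOf (e * v) = 23`, is a transposition -/
theorem mem_L_of {e s : Fi24} (h : orderOf (e * word vw) = 23) (hs : s * s = 1) (hs1 : s ≠ 1)
    (hv : s * word vw = word vw * s) (he : s * e * s⁻¹ = e) : s ∈ L := by
  obtain ⟨d, hd, h1⟩ := exists_tr h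
  have h2 : s * (e * word vw) = e * word vw * s := by
    have h3 : s * e = e * s := by
      calc s * e = s * e * s⁻¹ * s := by group
        _ = e * s := by rw [he]
    rw [← mul_assoc, h3, mul_assoc, hv, mul_assoc]
  rw [eq_of_invol h hd h1 (order_invol hs hs1) h2]
  exact hd

theorem false_of_inv {e s : Fi24} (heL : e ∈ L) (h : orderOf (e * word vw) = 23)
    (hv : s * word vw * s⁻¹ = (word vw)⁻¹) (he : s * e * s⁻¹ = e) : False := by
  apply not_real h
  rw [isConj_iff]
  have hee := Cfsg.Agent.R08.FiTwentyFour.sq heL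
  refine ⟨e⁻¹ * s, ?_⟩
  calc e⁻¹ * s * (e * word vw) * (e⁻¹ * s)⁻¹ = e⁻¹ * (s * e * s⁻¹) * (s * word vw * s⁻¹) * e := by group
    _ = (word vw)⁻¹ * e := by rw [he, hv]; group
    _ = (word vw)⁻¹ * e⁻¹ := by rw [inv_eq_of_mul_eq_one_right hee]
    _ = (e * word vw)⁻¹ := by group

theorem mem_XJ_comm {t : Fi24} (h1 : t * gen .j = gen .j * t) (h2 : t * word vw = word vw * t) {e : Fi24}
    (he : e ∈ XJ) : t * e * t⁻¹ ∈ XJ := by
  obtain ⟨a, b, c⟩ := he
  refine ⟨(mem_L_iff t e).2 a, ?_, ?_⟩
  · rw [comm_conj h1]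
    exact b
  · rw [ord_of_comm h2]
    exact c

theorem mem_XJ_inv {t : Fi24} (h1 : t * gen .j = gen .j * t) (h2 : t * word vw * t⁻¹ = (word vw)⁻¹) {e : Fi24}
    (he : e ∈ XJ) : t * e * t⁻¹ ∈ XJ := by
  obtain ⟨a, b, c⟩ := he
  refine ⟨(mem_L_iff t e).2 a, ?_, ?_⟩
  · rw [comm_conj h1]
    exact b
  · rw [ord_of_inv h2 (Cfsg.Agent.R08.FiTwentyFour.sq a)]
    exact c

theorem inv_mul {G : Type*} [Group G] {s v g : G} (hs : s * v = v * s) (hg : g * v * g⁻¹ = v⁻¹) :
    (s * g) * v * (s * g)⁻¹ = v⁻¹ := by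
  have h1 : s * v⁻¹ = v⁻¹ * s := ((show Commute s v from hs).inv_right).eq
  calc (s * g) * v * (s * g)⁻¹ = s * (g * v * g⁻¹) * s⁻¹ := by group
    _ = v⁻¹ := by rw [hg, h1, mul_inv_cancel_right]

theorem eight_dvd_XJ : 8 ∣ XJ.ncard := by
  have : Finite Fi24 := finite_Fi24
  have hj1 : gen .j ≠ 1 := Cfsg.Agent.R08.FiTwentyFour.ne_one_L (Cfsg.Agent.R08.FiTwentyFour.gen_mem_L .j)
  have hgt : word gw * word tw = word tw * word gw := comm_of gt
  have hjt1 : gen .j * word tw ≠ 1 := by
    intro h
    apply t_not_mem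
    have h2 : word tw = gen .j := by
      calc word tw = gen .j * (gen .j * word tw) := by rw [← mul_assoc, jj, one_mul]
        _ = gen .j := by rw [h, mul_one]
    rw [h2]
    exact Cfsg.Agent.R08.FiTwentyFour.gen_mem_L .j
  have hjt2 : gen .j * word tw * (gen .j * word tw) = 1 := by
    calc gen .j * word tw * (gen .j * word tw) = gen .j * (word tw * gen .j) * word tw := by group
      _ = (gen .j * gen .j) * (word tw * word tw) := by rw [tj]; group
      _ = 1 := by rw [jj, tt', mul_one]
  have hjtv : gen .j * word tw * word vw = word vw * (gen .j * word tw) :=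
    ((show Commute (gen .j) (word vw) from jv').mul_left (show Commute (word tw) (word vw) from tv)).eq
  refine eight_dvd (a := gen .j) (b := word tw) (c := word gw) jj tt' gg' hj1 t_ne_one gw_ne_one tj.symm gj'.symm
    hgt.symm XJ (fun x hx => mem_XJ_comm rfl jv' hx) (fun x hx => mem_XJ_comm tj tv hx)
    (fun x hx => mem_XJ_inv gj' inv_v hx) ?_
  intro x hx s hs
  refine ⟨?_, ?_, ?_, ?_, ?_, ?_, ?_⟩
  · rintro rfl
    apply hx.2.1
    calc x * gen .j = gen .j * x * (gen .j)⁻¹ * gen .j := by rw [hs]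
      _ = gen .j * x := by group
  · rintro rfl
    exact t_not_mem (mem_L_of hx.2.2 tt' t_ne_one tv hs)
  · rintro rfl
    have h1 := mem_L_of hx.2.2 hjt2 hjt1 hjtv hs
    apply Cfsg.Agent.R08.FiTwentyFour.odd h1
    rw [← word_j, ← word_append]
    exact even_word _ (by decide)
  · rintro rfl
    exact false_of_inv hx.1 hx.2.2 inv_v hs
  · rintro rfl
    exact false_of_inv hx.1 hx.2.2 (inv_mul jv' inv_v) hs
  · rintro rfl
    exact false_of_inv hx.1 hx.2.2 (inv_mul tv inv_v) hs
  · rintro rfl
    rw [← mul_assoc] at hs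
    exact false_of_inv hx.1 hx.2.2 (inv_mul hjtv inv_v) hs

theorem count : ¬ 2 ^ 3 ∣ Nat.card {b : Fi24 // IsConj (gen .l) b ∧ orderOf (b * word vw) = 23} := by
  have : Finite Fi24 := finite_Fi24
  have h1 : Nat.card {b : Fi24 // IsConj (gen .l) b ∧ orderOf (b * word vw) = 23} = SJ.ncard + XJ.ncard := by
    rw [← Set.ncard_union_eq ?_ (Set.toFinite _) (Set.toFinite _)]
    · have h2 : SJ ∪ XJ = {b : Fi24 | IsConj (gen .l) b ∧ orderOf (b * word vw) = 23} := by
        ext b
        constructor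
        · rintro (⟨a, -, c⟩ | ⟨a, -, c⟩)
          · exact ⟨a, c⟩
          · exact ⟨a, c⟩
        · rintro ⟨a, c⟩
          by_cases hb : b * gen .j = gen .j * b
          · exact Or.inl ⟨a, hb, c⟩
          · exact Or.inr ⟨a, hb, c⟩
      rw [h2]
      rfl
    · rw [Set.disjoint_left]
      intro b hb hb'
      exact hb'.2.1 hb.2.1
  rw [h1, ncard_SJ]
  obtain ⟨m, hm⟩ := eight_dvd_XJ
  rw [hm]
  omega

theorem nb : H709.PB.NB 23 1 (_root_.commutator Fi24) := by
  have : Finite Fi24 := finite_Fi24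
  have : Fact (Nat.Prime 23) := ⟨by norm_num⟩
  have hord := H843.D23.order
  have hx := H843.Fi24N.mem_commutator (x := H843.D23.D.x) (by rw [hord]; decide)
  refine H709.PB.NB.of_self (g := (⟨_, hx⟩ : _root_.commutator Fi24)) ?_ ⟨1, by rw [Subgroup.orderOf_mk, hord, pow_one]⟩
  refine IsPGroup.of_card (n := 1) ?_
  obtain ⟨e, he, hez⟩ := exists_tr hord
  have h1 := H843.Fi24N.half (H := centralizer ({H843.D23.D.x} : Set Fi24)) (mem_centralizer_singleton_iff.2 hez) he
  rw [card_cent hord] at h1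
  have h2 : (centralizer ({(⟨_, hx⟩ : _root_.commutator Fi24)} : Set (_root_.commutator Fi24))).map
      (_root_.commutator Fi24).subtype = _root_.commutator Fi24 ⊓ centralizer ({H843.D23.D.x} : Set Fi24) := by
    ext g
    simp only [mem_inf, mem_map, mem_centralizer_singleton_iff, Subgroup.coe_subtype]
    constructor
    · rintro ⟨y, h1, rfl⟩
      exact ⟨y.2, congrArg Subtype.val h1⟩
    · rintro ⟨h1, h2⟩
      exact ⟨⟨g, h1⟩, Subtype.ext h2, rfl⟩
  have h3 : Nat.card (centralizer ({(⟨_, hx⟩ : _root_.commutator Fi24)} : Set (_root_.commutator Fi24))) =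
      Nat.card (_root_.commutator Fi24 ⊓ centralizer ({H843.D23.D.x} : Set Fi24) : Subgroup Fi24) := by
    rw [← h2]
    exact (card_map_of_injective (_root_.commutator Fi24).subtype_injective).symm
  rw [h3, pow_one]
  omega

theorem evAt : H892.EP.EvAt 23 (_root_.commutator Fi24) := by
  have : Finite Fi24 := finite_Fi24
  have : Fact (Nat.Prime 23) := ⟨by norm_num⟩
  exact evAt_of_nonreal (G := Fi24) (_root_.commutator Fi24) Cfsg.Agent.R08.FiTwentyFour.index_commutator nb not_sq
    (d := gen .l) (Cfsg.Agent.R08.FiTwentyFour.odd gen_l_mem) (Cfsg.Agent.R08.FiTwentyFour.sq gen_l_mem)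
    (v := word vw) (c := word gw) inv_v (fun y hy => ⟨23, card_cent hy, by norm_num⟩) (fun y hy => not_real hy)
    (k := 3) dvd_index count

end Tw

end Cfsg.Agent.H669.EP.Fi
end

-- part: H669/EP/Fi24
section
/-!
# S4929: the row of `Fi24'` (helper669, helper828)
-/

set_option autoImplicit false

namespace Cfsg.Agent.H669.EP

open Cfsg Cfsg.Agent.H892.EP

/-- **The row of `Fi24'`.** -/
theorem row_fi24 : SpRow fun K => Spor.IsoFi24' K :=
  H828.EP.row_of H828.EP.Five.ev_five Fi.Tw.evAt

end Cfsg.Agent.H669.EP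
end
end
end
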